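import Groth.Agent.OmegaSheaf.IsoLocal

/-!
# Exactness and monomorphy of quasi-coherent modules, tested on an affine cover
-/

universe u

open CategoryTheory Limits AlgebraicGeometry Opposite TopologicalSpace

namespace Groth.OmegaSheaf

open Groth.QCohMod (stalk germ germ_smul)

variable {X : Scheme.{u}}

/-- A morphism of quasi-coherent modules injective on sections over affine opens covering the space
is a monomorphism. -/
theorem mono_of_affine_cover {M N : X.Modules} (φ : M ⟶ N) [M.IsQuasicoherent] [N.IsQuasicoherent]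
    (h : ∀ x : X, ∃ U : X.Opens, IsAffineOpen U ∧ x ∈ U ∧ Function.Injective (φ.app U)) :
    Mono φ := by
  refine (Groth.QCohMod.mono_iff_stalk φ).mpr fun x ↦
    (show Function.Injective (stalkApp φ x) from (injective_iff_map_eq_zero _).mpr fun t ht ↦ ?_)
  obtain ⟨U, hU, hx, hb⟩ := h x
  have hunit : ∀ a : Γ(X, U), x ∈ X.basicOpen a → IsUnit (X.presheaf.germ U x hx a) := fun a ha ↦
    (Scheme.mem_basicOpen X a x hx).mp ha
  obtain ⟨a, m, ha, hm⟩ := Groth.QCohMod.exists_smul_germ_eq M hU x hx t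
  have h0 : germ N x hx (φ.app U m) = 0 := by
    rw [← stalkApp_germ, ← hm, stalk_map_smul, ht, smul_zero]
  obtain ⟨c, hc, hcm⟩ := Groth.QCohMod.exists_smul_eq_zero_of_germ_eq_zero N hU x hx _ h0
  have hcm' : c • m = 0 := hb (by rw [Scheme.Modules.Hom.app_smul, hcm, map_zero])
  have h1 : (X.presheaf.germ U x hx c * X.presheaf.germ U x hx a) • t = 0 := by
    rw [mul_smul, hm, ← germ_smul, hcm', map_zero]
  exact ((hunit c hc).mul (hunit a ha)).smul_eq_zero.mp h1

/-- A complex of quasi-coherent modules exact on sections over affine opens covering the space is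
exact. -/
theorem exact_of_affine_cover (S : ShortComplex X.Modules) [S.X₂.IsQuasicoherent]
    [S.X₃.IsQuasicoherent]
    (h : ∀ x : X, ∃ U : X.Opens, IsAffineOpen U ∧ x ∈ U ∧
      ∀ m : Γ(S.X₂, U), S.g.app U m = 0 → ∃ l : Γ(S.X₁, U), S.f.app U l = m) :
    S.Exact := by
  refine (Groth.QCohMod.exact_iff_stalk S).mpr fun x ↦ (ShortComplex.ab_exact_iff _).mpr ?_
  rintro (t : S.X₂.presheaf.stalk x) ht
  change stalkApp S.g x t = 0 at ht
  obtain ⟨U, hU, hx, hb⟩ := h x
  obtain ⟨a, m, ha, hm⟩ := Groth.QCohMod.exists_smul_germ_eq S.X₂ hU x hx t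
  have h0 : germ S.X₃ x hx (S.g.app U m) = 0 := by
    rw [← stalkApp_germ, ← hm, stalk_map_smul, ht, smul_zero]
  obtain ⟨c, hc, hcm⟩ := Groth.QCohMod.exists_smul_eq_zero_of_germ_eq_zero S.X₃ hU x hx _ h0
  obtain ⟨l, hl⟩ := hb (c • m) (by rw [Scheme.Modules.Hom.app_smul, hcm])
  obtain ⟨u, hu⟩ := ((Scheme.mem_basicOpen X c x hx).mp hc).mul
    ((Scheme.mem_basicOpen X a x hx).mp ha)
  refine ⟨((↑u⁻¹ : X.presheaf.stalk x) • germ S.X₁ x hx l : S.X₁.presheaf.stalk x), ?_⟩
  change stalkApp S.f x _ = t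
  rw [stalk_map_smul, stalkApp_germ, hl, germ_smul, ← hm, ← mul_smul, ← mul_smul, mul_assoc, ← hu,
    Units.inv_mul, one_smul]

end Groth.OmegaSheaf
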