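import Groth.Prelude.Def_Omega4
import Groth.Agent.QCohMod.Category
import Groth.Agent.QCohMod.QCQS
import Groth.Agent.QCohMod.PullbackSections

/-!
# The ideal sheaf as a module; conormal sheaves are quasi-coherent
-/

universe u

open CategoryTheory Limits AlgebraicGeometry Opposite TopologicalSpace

namespace Groth.OmegaSheaf

variable {P Z : Scheme.{u}}

instance isQCoh_quotMod (I : P.IdealSheafData) : (ClSub.quotMod I).IsQuasicoherent :=
  Groth.QCohMod.isQCoh_pushforward (Coh.structureModule I.subscheme) I.subschemeι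

instance isQCoh_idealMod (I : P.IdealSheafData) : (ClSub.idealMod I).IsQuasicoherent :=
  inferInstanceAs (kernel (ClSub.toSubscheme I)).IsQuasicoherent

/-- Conormal sheaves are quasi-coherent (no hypothesis on the morphism). -/
instance isQCoh_conormal (i : Z ⟶ P) : (Omega.conormal i).IsQuasicoherent :=
  Groth.QCohMod.isQCoh_pullback_obj i (ClSub.idealMod i.ker)

/-- The sheaf of differentials is quasi-coherent. -/
instance isQCoh_sheaf {X Y : Scheme.{u}} (f : X ⟶ Y) : (Omega.sheaf f).IsQuasicoherent :=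
  inferInstanceAs (Omega.conormal (pullback.diagonal f)).IsQuasicoherent

lemma idealSect_smul (I : P.IdealSheafData) (W : P.Opens) (r : Γ(P, W))
    (k : Γ(ClSub.idealMod I, W)) :
    OmegaSh.idealSect I W (r • k) = r * OmegaSh.idealSect I W k :=
  Scheme.Modules.Hom.app_smul _ r k

lemma idealSect_injective (I : P.IdealSheafData) (W : P.Opens) :
    Function.Injective (OmegaSh.idealSect I W) :=
  OmegaSh.idealModι_app_injective W I

lemma idealSect_res (I : P.IdealSheafData) {W W' : P.Opens} (h : W' ≤ W)
    (k : Γ(ClSub.idealMod I, W)) :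
    OmegaSh.idealSect I W' ((ClSub.idealMod I).presheaf.map (homOfLE h).op k) =
      P.presheaf.map (homOfLE h).op (OmegaSh.idealSect I W k) :=
  OmegaSh.idealModι_app_map W I h k

lemma subschemeι_app_idealSect (I : P.IdealSheafData) (W : P.Opens)
    (k : Γ(ClSub.idealMod I, W)) : I.subschemeι.app W (OmegaSh.idealSect I W k) = 0 := by
  have h := congr(($(kernel.condition (ClSub.toSubscheme I))).app W k)
  exact h

lemma exists_idealSect_eq (I : P.IdealSheafData) (W : P.Opens) (x : Γ(P, W))
    (hx : I.subschemeι.app W x = 0) :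
    ∃ k : Γ(ClSub.idealMod I, W), OmegaSh.idealSect I W k = x :=
  ⟨OmegaSh.kerLift (ClSub.toSubscheme I) W (OmegaSh.strSect P W x) hx,
    congrArg (OmegaSh.fnSect P W) (OmegaSh.ι_kerLift _ _ _ _)⟩

lemma idealSect_mem (I : P.IdealSheafData) (W : P.affineOpens) (k : Γ(ClSub.idealMod I, W.1)) :
    OmegaSh.idealSect I W k ∈ I.ideal W := by
  rw [← Scheme.IdealSheafData.ker_subschemeι_app, RingHom.mem_ker]
  exact subschemeι_app_idealSect I W k

lemma exists_idealSect (I : P.IdealSheafData) (W : P.affineOpens) {x : Γ(P, W.1)}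
    (hx : x ∈ I.ideal W) : ∃ k : Γ(ClSub.idealMod I, W.1), OmegaSh.idealSect I W k = x := by
  rw [← Scheme.IdealSheafData.ker_subschemeι_app, RingHom.mem_ker] at hx
  exact exists_idealSect_eq I W x hx

/-- On an affine open, sections of the ideal sheaf as a module are the ideal. -/
noncomputable def idealSecEquiv (I : P.IdealSheafData) (W : P.affineOpens) :
    Γ(ClSub.idealMod I, W.1) ≃ₗ[Γ(P, W.1)] I.ideal W :=
  LinearEquiv.ofBijective
    { toFun := fun k ↦ (⟨OmegaSh.idealSect I W k, idealSect_mem I W k⟩ : I.ideal W)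
      map_add' := fun a b ↦ Subtype.ext (map_add _ a b)
      map_smul' := fun r k ↦ Subtype.ext (idealSect_smul I W r k) }
    ⟨fun _ _ h ↦ idealSect_injective I W congr(($h : Γ(P, W.1))),
      fun x ↦ (exists_idealSect I W x.2).imp fun _ h ↦ Subtype.ext h⟩

lemma idealSecEquiv_apply (I : P.IdealSheafData) (W : P.affineOpens)
    (k : Γ(ClSub.idealMod I, W.1)) :
    (idealSecEquiv I W k : Γ(P, W.1)) = OmegaSh.idealSect I W k :=
  rfl

end Groth.OmegaSheaf
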