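import Groth.Agent.QCohMod.ClosedImm

/-!
# Isomorphisms of quasi-coherent modules, tested on an affine cover
-/

universe u

open CategoryTheory Limits AlgebraicGeometry Opposite TopologicalSpace

namespace Groth.OmegaSheaf

open Groth.QCohMod (stalk germ res exists_germ germ_res germ_smul stalk_map_germ res_smul)

variable {X : Scheme.{u}} {M N : X.Modules} (φ : M ⟶ N)

/-- The stalk map of a morphism of modules. -/
noncomputable def stalkApp (x : X) : M.presheaf.stalk x →+ N.presheaf.stalk x :=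
  ((stalk x).map φ).hom

lemma stalkApp_germ {U : X.Opens} (x : X) (hx : x ∈ U) (m : Γ(M, U)) :
    stalkApp φ x (germ M x hx m) = germ N x hx (φ.app U m) :=
  stalk_map_germ φ x hx m

/-- The stalk map of a morphism of modules is linear. -/
lemma stalk_map_smul (x : X) (r : X.presheaf.stalk x) (t : M.presheaf.stalk x) :
    stalkApp φ x (r • t) = r • stalkApp φ x t := by
  obtain ⟨U, hxU, a, rfl⟩ := TopCat.Presheaf.exists_germ_eq X.presheaf r
  obtain ⟨V, hxV, m, rfl⟩ := exists_germ M x t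
  have hx : x ∈ U ⊓ V := ⟨hxU, hxV⟩
  rw [← germ_res M (inf_le_right : U ⊓ V ≤ V) x hx m,
    ← TopCat.Presheaf.germ_res_apply X.presheaf (homOfLE (inf_le_left : U ⊓ V ≤ U)) x hx a,
    ← germ_smul, stalkApp_germ, stalkApp_germ, Scheme.Modules.Hom.app_smul, germ_smul]

/-- A morphism of quasi-coherent modules bijective on sections over affine opens covering the space
is an isomorphism. -/
theorem isIso_of_affine_cover [M.IsQuasicoherent] [N.IsQuasicoherent]
    (h : ∀ x : X, ∃ U : X.Opens, IsAffineOpen U ∧ x ∈ U ∧ Function.Bijective (φ.app U)) :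
    IsIso φ := by
  refine Groth.QCohMod.isIso_of_stalk φ fun x ↦ ?_
  obtain ⟨U, hU, hx, hb⟩ := h x
  have hunit : ∀ a : Γ(X, U), x ∈ X.basicOpen a → IsUnit (X.presheaf.germ U x hx a) := fun a ha ↦
    (Scheme.mem_basicOpen X a x hx).mp ha
  refine (ConcreteCategory.isIso_iff_bijective _).mpr
    (show Function.Bijective (stalkApp φ x) from
      ⟨(injective_iff_map_eq_zero _).mpr fun t ht ↦ ?_, fun t ↦ ?_⟩)
  · obtain ⟨a, m, ha, hm⟩ := Groth.QCohMod.exists_smul_germ_eq M hU x hx t
    have h0 : germ N x hx (φ.app U m) = 0 := by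
      rw [← stalkApp_germ, ← hm, stalk_map_smul, ht, smul_zero]
    obtain ⟨c, hc, hcm⟩ := Groth.QCohMod.exists_smul_eq_zero_of_germ_eq_zero N hU x hx _ h0
    have hcm' : c • m = 0 := hb.1 (by rw [Scheme.Modules.Hom.app_smul, hcm, map_zero])
    have h1 : (X.presheaf.germ U x hx c * X.presheaf.germ U x hx a) • t = 0 := by
      rw [mul_smul, hm, ← germ_smul, hcm', map_zero]
    exact ((hunit c hc).mul (hunit a ha)).smul_eq_zero.mp h1
  · obtain ⟨a, n, ha, hn⟩ := Groth.QCohMod.exists_smul_germ_eq N hU x hx t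
    obtain ⟨m, hm⟩ := hb.2 n
    obtain ⟨u, hu⟩ := hunit a ha
    refine ⟨(↑u⁻¹ : X.presheaf.stalk x) • germ M x hx m, ?_⟩
    rw [stalk_map_smul, stalkApp_germ, hm, ← hn, ← hu, ← mul_smul, Units.inv_mul, one_smul]

/-- A morphism of modules surjective on sections over affine opens covering the space, with
quasi-coherent target, is an epimorphism. -/
theorem epi_of_affine_cover [N.IsQuasicoherent]
    (h : ∀ x : X, ∃ U : X.Opens, IsAffineOpen U ∧ x ∈ U ∧ Function.Surjective (φ.app U)) :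
    Epi φ := by
  have hsurj : ∀ x, Function.Surjective (stalkApp φ x) := fun x t ↦ by
    obtain ⟨U, hU, hx, hb⟩ := h x
    obtain ⟨a, n, ha, hn⟩ := Groth.QCohMod.exists_smul_germ_eq N hU x hx t
    obtain ⟨m, hm⟩ := hb n
    obtain ⟨u, hu⟩ := (Scheme.mem_basicOpen X a x hx).mp ha
    refine ⟨(↑u⁻¹ : X.presheaf.stalk x) • germ M x hx m, ?_⟩
    rw [stalk_map_smul, stalkApp_germ, hm, ← hn, ← hu, ← mul_smul, Units.inv_mul, one_smul]
  refine ⟨fun {P} g k hgk ↦ Scheme.Modules.hom_ext _ _ fun W ↦ AddCommGrpCat.ext fun s ↦ ?_⟩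
  refine TopCat.Presheaf.section_ext ⟨P.presheaf, P.isSheaf⟩ W _ _ fun x hx ↦ ?_
  obtain ⟨t, ht⟩ := hsurj x (germ N x hx s)
  obtain ⟨V, hV, m, rfl⟩ := exists_germ M x t
  change germ P x hx (g.app W s) = germ P x hx (k.app W s)
  rw [← stalkApp_germ g, ← stalkApp_germ k, ← ht, stalkApp_germ φ, stalkApp_germ g,
    stalkApp_germ k]
  exact congrArg (germ P x hV) congr(($hgk).app V m)

end Groth.OmegaSheaf
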