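import Groth.Agent.OmegaSheaf.ConormalSections

/-!
# Conormal sheaves and base change
-/

universe u

open CategoryTheory Limits AlgebraicGeometry Opposite TopologicalSpace TensorProduct

namespace Groth.OmegaSheaf

open Groth.QCohMod (res res_res res_smul res_app res_self)

/-- The kernel of a cobase change of a surjection is generated by the kernel. -/
lemma ker_le_map_of_isPushout {A' B' A B : CommRingCat.{u}} {a : A' ⟶ B'} {b : A' ⟶ A}
    {c : B' ⟶ B} {d : A ⟶ B} (h : IsPushout a b c d) (ha : Function.Surjective a) :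
    RingHom.ker d.hom ≤ (RingHom.ker a.hom).map b.hom := by
  let q : A ⟶ CommRingCat.of (A ⧸ (RingHom.ker a.hom).map b.hom) :=
    CommRingCat.ofHom (Ideal.Quotient.mk _)
  have hle : RingHom.ker a.hom ≤ RingHom.ker (b ≫ q).hom := fun x hx ↦
    Ideal.Quotient.eq_zero_iff_mem.mpr (Ideal.mem_map_of_mem b.hom hx)
  let r : B' ⟶ CommRingCat.of (A ⧸ (RingHom.ker a.hom).map b.hom) :=
    CommRingCat.ofHom (RingHom.liftOfSurjective a.hom ha ⟨(b ≫ q).hom, hle⟩)
  have w : a ≫ r = b ≫ q := by
    ext x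
    exact RingHom.liftOfSurjective_comp_apply a.hom ha ⟨(b ≫ q).hom, hle⟩ x
  intro x hx
  apply Ideal.Quotient.eq_zero_iff_mem.mp
  change q x = 0
  rw [← h.inr_desc r q w, CommRingCat.comp_apply, show d x = 0 from hx, map_zero]

variable {Z X Z' X' : Scheme.{u}} (i : Z ⟶ X) (i' : Z' ⟶ X') [QuasiCompact i] [QuasiCompact i']
  (g : X ⟶ X') (gZ : Z ⟶ Z')

/-- The map of conormal sheaves over charts whose square of rings is a pushout. -/
theorem conormalMap_app_surjective_and_injective
    {φ : (Scheme.Modules.pullback gZ).obj (Omega.conormal i') ⟶ Omega.conormal i}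
    (hφ : OmegaSh.IsConormalMap i i' g gZ φ) {W' : X'.Opens} {W : X.Opens}
    (h' : IsConormalChart i' W') (h : IsConormalChart i W) (e : W ≤ g ⁻¹ᵁ W')
    (hker : RingHom.ker (i.app W).hom ≤
      (RingHom.ker (i'.app W').hom).map (g.appLE W' W e).hom) :
    Function.Surjective (φ.app (i ⁻¹ᵁ W)) ∧
      ((g.appLE W' W e).hom.Flat → Function.Injective (φ.app (i ⁻¹ᵁ W))) := by
  have eT : i ⁻¹ᵁ W ≤ gZ ⁻¹ᵁ (i' ⁻¹ᵁ W') := by
    rw [← Scheme.Hom.comp_preimage, hφ.1]
    exact i.preimage_mono e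
  let P := (Scheme.Modules.pullback gZ).obj (Omega.conormal i')
  let E := idealSecEquiv i'.ker ⟨W', h'.affine⟩
  let J' := RingHom.ker (i'.app W').hom
  have hJ' : i'.ker.ideal ⟨W', h'.affine⟩ = J' := ker_ideal_eq (i := i') h'.affine
  let _ : Algebra Γ(X', W') Γ(X, W) := (g.appLE W' W e).hom.toAlgebra
  let _ : Module Γ(X, W) Γ(P, i ⁻¹ᵁ W) := Module.compHom _ (i.app W).hom
  let _ : Module Γ(X', W') Γ(P, i ⁻¹ᵁ W) :=
    Module.compHom _ ((i.app W).hom.comp (g.appLE W' W e).hom)
  have : IsScalarTower Γ(X', W') Γ(X, W) Γ(P, i ⁻¹ᵁ W) :=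
    IsScalarTower.of_algebraMap_smul fun _ _ ↦ rfl
  have hscal : ∀ r : Γ(X', W'), i.app W (g.appLE W' W e r) =
      Z.presheaf.map (homOfLE eT).op (gZ.app (i' ⁻¹ᵁ W') (i'.app W' r)) := by
    intro r
    have key : ∀ (q q' : Z ⟶ X'), q = q' → ∀ (h₁ : i ⁻¹ᵁ W ≤ q ⁻¹ᵁ W')
        (h₂ : i ⁻¹ᵁ W ≤ q' ⁻¹ᵁ W'), q.appLE W' _ h₁ r = q'.appLE W' _ h₂ r := by
      rintro q _ rfl h₁ h₂; rfl
    have := key (i ≫ g) (gZ ≫ i') hφ.1.symm (i.preimage_mono e) eT
    rw [Scheme.Hom.app_eq_appLE, ← CommRingCat.comp_apply, Scheme.Hom.appLE_comp_appLE]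
    exact this
  let f0 : J' →ₗ[Γ(X', W')] Γ(P, i ⁻¹ᵁ W) :=
    { toFun := fun s ↦ res P eT (OmegaSh.pullSect gZ (Omega.conormal i') (i' ⁻¹ᵁ W')
        (OmegaSh.conormalSect i' W' (E.symm ⟨s.1, hJ'.symm ▸ s.2⟩)))
      map_add' := fun a b ↦ by
        rw [← map_add, ← map_add, ← map_add, ← map_add]
        rfl
      map_smul' := fun r a ↦ by
        change _ = i.app W (g.appLE W' W e r) • res P eT _
        rw [hscal, ← res_smul]
        congr 1
        refine Eq.trans ?_ (Groth.PicAux.pullSec_smul gZ (Omega.conormal i') _ _)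
        refine congrArg (OmegaSh.pullSect gZ (Omega.conormal i') (i' ⁻¹ᵁ W')) ?_
        rw [← conormalSect_smul, ← map_smul]
        rfl }
  let F : Γ(X, W) ⊗[Γ(X', W')] J' →ₗ[Γ(X, W)] Γ(P, i ⁻¹ᵁ W) := LinearMap.liftBaseChange _ f0
  let μ : Γ(X, W) ⊗[Γ(X', W')] J' →ₗ[Γ(X, W)] Γ(X, W) :=
    LinearMap.liftBaseChange _ ((Algebra.linearMap Γ(X', W') Γ(X, W)).comp J'.subtype)
  have hFs : Function.Surjective F := fun y ↦ by
    let _ := Groth.QCohMod.sectionsAlg gZ eT
    obtain ⟨z, rfl⟩ := (Groth.QCohMod.pullSecTensor_bijective gZ (Omega.conormal i') eT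
      h'.affine_preimage h.affine_preimage).2 y
    induction z using TensorProduct.induction_on with
    | zero => exact ⟨0, by rw [map_zero, map_zero]⟩
    | add a b ha hb =>
      obtain ⟨x, hx⟩ := ha; obtain ⟨x', hx'⟩ := hb
      exact ⟨x + x', by rw [map_add, map_add, hx, hx']⟩
    | tmul b c =>
      obtain ⟨a, rfl⟩ := h.surjective b
      obtain ⟨k, rfl⟩ := h'.conormalSect_surjective c
      refine ⟨a ⊗ₜ ⟨(E k).1, hJ' ▸ (E k).2⟩, ?_⟩
      rw [LinearMap.liftBaseChange_tmul, Groth.QCohMod.pullSecTensor_tmul]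
      change i.app W a • res P eT (OmegaSh.pullSect gZ _ _
        (OmegaSh.conormalSect i' W' (E.symm _))) = _
      rw [show (⟨(E k).1, _⟩ : i'.ker.ideal ⟨W', h'.affine⟩) = E k from rfl, E.symm_apply_apply]
      rfl
  have hμ : ∀ x ∈ RingHom.ker (i.app W).hom, ∃ z, μ z = x := by
    intro x hx
    have hle : J'.map (g.appLE W' W e).hom ≤ LinearMap.range μ :=
      Ideal.map_le_iff_le_comap.mpr fun s hs ↦
        ⟨1 ⊗ₜ ⟨s, hs⟩, by rw [LinearMap.liftBaseChange_tmul, one_smul]; rfl⟩
    exact hle (hker hx)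
  have hμker : ∀ z, μ z ∈ RingHom.ker (i.app W).hom := by
    intro z
    induction z using TensorProduct.induction_on with
    | zero => rw [map_zero]; exact zero_mem _
    | add a b ha hb => rw [map_add]; exact add_mem ha hb
    | tmul a s =>
      rw [LinearMap.liftBaseChange_tmul, smul_eq_mul]
      refine Ideal.mul_mem_left _ _ ?_
      change i.app W (g.appLE W' W e s.1) = 0
      rw [hscal, show i'.app W' s.1 = 0 from s.2, map_zero, map_zero]
  have hφF : ∀ z (k : Γ(ClSub.idealMod i.ker, W)), OmegaSh.idealSect i.ker W k = μ z →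
      φ.app (i ⁻¹ᵁ W) (F z) = OmegaSh.conormalSect i W k := by
    intro z
    induction z using TensorProduct.induction_on with
    | zero =>
      intro k hk
      rw [idealSect_injective _ _ (hk.trans ((map_zero μ).trans (map_zero _).symm)), map_zero,
        map_zero, map_zero]
    | add a b ha hb =>
      intro k hk
      obtain ⟨ka, hka⟩ := exists_idealSect i.ker ⟨W, h.affine⟩
        ((ker_ideal_eq (i := i) h.affine).symm ▸ hμker a)
      obtain ⟨kb, hkb⟩ := exists_idealSect i.ker ⟨W, h.affine⟩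
        ((ker_ideal_eq (i := i) h.affine).symm ▸ hμker b)
      rw [show k = ka + kb from idealSect_injective _ _
        (by rw [hk, map_add, map_add, hka, hkb]), map_add, map_add, map_add, ha ka hka, hb kb hkb]
    | tmul a s =>
      intro k hk
      let s' := E.symm ⟨s.1, hJ'.symm ▸ s.2⟩
      have hs' : OmegaSh.idealSect i'.ker W' s' = s.1 :=
        (idealSecEquiv_apply i'.ker ⟨W', h'.affine⟩ s').symm.trans
          congr(($(E.apply_symm_apply ⟨s.1, hJ'.symm ▸ s.2⟩)).1)
      obtain ⟨t, ht⟩ : ∃ t, OmegaSh.idealSect i.ker (g ⁻¹ᵁ W') t =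
          g.app W' (OmegaSh.idealSect i'.ker W' s') := by
        refine exists_idealSect_of_app_eq_zero i ?_
        have key : ∀ q : Z ⟶ X', q = gZ ≫ i' →
            q.app W' (OmegaSh.idealSect i'.ker W' s') = 0 := by
          rintro q rfl
          change gZ.app _ (i'.app W' _) = 0
          exact (congrArg _ (app_idealSect i' W' s')).trans (map_zero _)
        exact key (i ≫ g) hφ.1.symm
      have hk' : k = a • res _ e t := by
        refine idealSect_injective _ _ ?_
        rw [hk, idealSect_smul, LinearMap.liftBaseChange_tmul, smul_eq_mul]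
        congr 1
        change g.appLE W' W e s.1 =
          OmegaSh.idealSect i.ker W ((ClSub.idealMod i.ker).presheaf.map _ t)
        rw [idealSect_res, ht, hs']
        rfl
      rw [hk', conormalSect_smul, ← res_conormalSect i e, LinearMap.liftBaseChange_tmul]
      change φ.app _ (i.app W a • f0 s) = _
      rw [Scheme.Modules.Hom.app_smul]
      congr 1
      change φ.app _ (res P eT _) = _
      rw [← res_app]
      exact hφ.2 W' s' t ht _ eT (i.preimage_mono e)
  refine ⟨fun y ↦ ?_, fun hflat ↦ (injective_iff_map_eq_zero _).mpr fun y hy ↦ ?_⟩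
  · obtain ⟨k, rfl⟩ := h.conormalSect_surjective y
    have hk : OmegaSh.idealSect i.ker W k ∈ RingHom.ker (i.app W).hom := app_idealSect i W k
    obtain ⟨z, hz⟩ := hμ _ hk
    exact ⟨F z, hφF z k hz.symm⟩
  · obtain ⟨z, rfl⟩ := hFs y
    obtain ⟨k, hk⟩ := exists_idealSect i.ker ⟨W, h.affine⟩
      ((ker_ideal_eq (i := i) h.affine).symm ▸ hμker z)
    rw [hφF z k hk, h.conormalSect_eq_zero_iff, hk, pow_two] at hy
    have hmul : ∀ x ∈ RingHom.ker (i.app W).hom * RingHom.ker (i.app W).hom,
        ∃ w, μ w = x ∧ F w = 0 := by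
      intro x hx
      induction hx using Submodule.mul_induction_on' with
      | mem_mul_mem r hr s hs =>
        obtain ⟨w, hw⟩ := hμ s hs
        refine ⟨r • w, by rw [map_smul, hw, smul_eq_mul], ?_⟩
        rw [map_smul]
        change i.app W r • F w = 0
        rw [show i.app W r = 0 from hr, zero_smul]
      | add a _ b _ ha hb =>
        obtain ⟨w, hw, hw'⟩ := ha; obtain ⟨v, hv, hv'⟩ := hb
        exact ⟨w + v, by rw [map_add, hw, hv], by rw [map_add, hw', hv', add_zero]⟩
    obtain ⟨w, hw, hw'⟩ := hmul _ hy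
    have : Module.Flat Γ(X', W') Γ(X, W) := hflat
    have hμi : Function.Injective μ := by
      have hinj := Module.Flat.lTensor_preserves_injective_linearMap (M := Γ(X, W)) J'.subtype
        Subtype.val_injective
      have : (μ : _ → Γ(X, W)) =
          (TensorProduct.rid Γ(X', W') Γ(X, W)) ∘ (J'.subtype.lTensor Γ(X, W)) := by
        funext v
        induction v using TensorProduct.induction_on with
        | zero => simp
        | add p q hp hq => simp only [Function.comp_apply, map_add] at hp hq ⊢; rw [hp, hq]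
        | tmul p q =>
          rw [Function.comp_apply, LinearMap.liftBaseChange_tmul, LinearMap.lTensor_tmul,
            TensorProduct.rid_tmul, smul_eq_mul, Algebra.smul_def, mul_comm]
          rfl
      rw [this]
      exact (LinearEquiv.injective _).comp hinj
    rw [← hμi hw, hw']

end Groth.OmegaSheaf
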