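import Groth.Agent.OmegaSheaf.SectionConormal
import Groth.Agent.GrpschAbsch.Basic
import Groth.Agent.PicAux.Pullback
import Groth.Agent.QCohMod.Category
import Groth.Agent.S9372
import Mathlib.AlgebraicGeometry.Modules.Tilde
import Mathlib.LinearAlgebra.Basis.VectorSpace

/-!
# Differentials of group schemes
-/

universe u

open CategoryTheory Limits AlgebraicGeometry Opposite TopologicalSpace

namespace Groth.OmegaSheaf

/-- A quasi-coherent module on the spectrum of a field is free. -/
theorem exists_free_of_field (K : Type u) [Field K] (M : (Spec (CommRingCat.of K)).Modules)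
    [M.IsQuasicoherent] : ∃ I : Type u,
      Nonempty (M ≅ ∐ fun _ : I => Coh.structureModule (Spec (CommRingCat.of K))) := by
  have : IsIso (Scheme.Modules.fromTildeΓ (R := CommRingCat.of K) M) :=
    Scheme.Modules.isIso_fromTildeΓ_of_isQuasicoherent (R := CommRingCat.of K) M
  let V := (moduleSpecΓFunctor (R := CommRingCat.of K)).obj M
  let b := Module.Basis.ofVectorSpace K V
  exact ⟨_, ⟨(asIso (Scheme.Modules.fromTildeΓ (R := CommRingCat.of K) M)).symm ≪≫
    (tilde.functor (CommRingCat.of K)).mapIso b.repr.toModuleIso ≪≫ tildeFinsupp _⟩⟩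

/-- Pullbacks preserve free modules. -/
theorem nonempty_pullback_free {X Y : Scheme.{u}} (f : X ⟶ Y) (I : Type u) :
    Nonempty ((Scheme.Modules.pullback f).obj (∐ fun _ : I => Coh.structureModule Y) ≅
      ∐ fun _ : I => Coh.structureModule X) := by
  have := Groth.PicAux.isIso_pullUnit f
  exact ⟨PreservesCoproduct.iso _ _ ≪≫ Sigma.mapIso fun _ => asIso (Groth.PicAux.pullUnit f)⟩

section

open MonoidalCategory CartesianMonoidalCategory MonObj GrpObj

/-- `Ω_{G/S} ≅ f^* C_{S/G}` for a group scheme. -/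
theorem nonempty_sheaf_iso_pullback_unit {S : Scheme.{u}} (G : Over S) [GrpObj G]
    [QuasiSeparated G.hom] :
    Nonempty (Omega.sheaf G.hom ≅
      (Scheme.Modules.pullback G.hom).obj (Omega.conormal η[G].left)) := by
  let f := G.hom
  let e : S ⟶ G.left := η[G].left
  have he : e ≫ f = 𝟙 S := Over.w η[G]
  let σ : pullback f f ⟶ pullback f f :=
    (Groth.GrpschAbsch.shearL ((𝟙 G)⁻¹)).hom.left
  have : IsIso σ := inferInstanceAs
    (IsIso ((Over.forget S).map (Groth.GrpschAbsch.shearL ((𝟙 G)⁻¹)).hom))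
  let e' : G.left ⟶ pullback f f := pullback.diagonal f ≫ σ
  have hdiag : (lift (𝟙 G) (𝟙 G)).left = pullback.diagonal f := by
    apply pullback.hom_ext
    · rw [pullback.diagonal_fst]; exact Groth.GrpschAbsch.lift_left_comp_fst _ _
    · rw [pullback.diagonal_snd]; exact Groth.GrpschAbsch.lift_left_comp_snd _ _
  have he'₁ : e' ≫ pullback.fst f f = 𝟙 _ := by
    have h : lift (𝟙 G) (𝟙 G) ≫ (Groth.GrpschAbsch.shearL ((𝟙 G)⁻¹)).hom ≫ fst G G = 𝟙 G := by
      simp
    calc e' ≫ pullback.fst f f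
        = (lift (𝟙 G) (𝟙 G) ≫ (Groth.GrpschAbsch.shearL ((𝟙 G)⁻¹)).hom ≫ fst G G).left := by
          rw [Over.comp_left, Over.comp_left, hdiag]; exact Category.assoc _ _ _
      _ = 𝟙 _ := by rw [h]; rfl
  have he'₂ : e' ≫ pullback.snd f f = f ≫ e := by
    have h : lift (𝟙 G) (𝟙 G) ≫ (Groth.GrpschAbsch.shearL ((𝟙 G)⁻¹)).hom ≫ snd G G =
        toUnit G ≫ η[G] := by
      simp [MonObj.comp_mul, GrpObj.comp_inv]
      rfl
    calc e' ≫ pullback.snd f f
        = (lift (𝟙 G) (𝟙 G) ≫ (Groth.GrpschAbsch.shearL ((𝟙 G)⁻¹)).hom ≫ snd G G).left := by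
          rw [Over.comp_left, Over.comp_left, hdiag]; exact Category.assoc _ _ _
      _ = f ≫ e := by rw [h]; rfl
  -- transport along the shear
  have : IsImmersion (e' ≫ pullback.fst f f) := by rw [he'₁]; infer_instance
  have : QuasiCompact (e' ≫ pullback.fst f f) := by rw [he'₁]; infer_instance
  have : IsImmersion e' := IsImmersion.of_comp e' (pullback.fst f f)
  have : QuasiCompact e' := QuasiCompact.of_comp e' (pullback.fst f f)
  have hsq : IsPullback (pullback.diagonal f) (𝟙 _) σ e' :=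
    IsPullback.of_vert_isIso ⟨by simp [e']⟩
  obtain ⟨φ, hφ, -⟩ := existsUnique_isConormalMap (pullback.diagonal f) e' σ (𝟙 _) hsq.w.symm
  have := (Groth.Agent.S9372.result _ _ σ (𝟙 _) hsq φ hφ).2 inferInstance
  obtain ⟨i1⟩ := nonempty_conormal_iso_of_section (pullback.fst f f) e' he'₁
  obtain ⟨i2⟩ := nonempty_pullback_iso (IsPullback.of_hasPullback f f).flip (isUniversal_dOmega f)
    (isUniversal_dOmega (pullback.fst f f))
  obtain ⟨i3⟩ := nonempty_conormal_iso_of_section f e he
  exact ⟨(asIso φ).symm ≪≫ (Scheme.Modules.pullbackId _).app _ ≪≫ i1 ≪≫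
    (Scheme.Modules.pullback e').mapIso i2.symm ≪≫
    (Scheme.Modules.pullbackComp e' _).app _ ≪≫
    (Scheme.Modules.pullbackCongr he'₂).app _ ≪≫
    ((Scheme.Modules.pullbackComp f e).app _).symm ≪≫
    (Scheme.Modules.pullback f).mapIso i3.symm⟩

end

end Groth.OmegaSheaf
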