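import Groth.Agent.OmegaSheaf.PullChart

/-!
# The sequence `C_{Z/X} → i^*Ω_{X/S} → Ω_{Z/S} → 0`
-/

universe u

open CategoryTheory Limits AlgebraicGeometry Opposite TopologicalSpace TensorProduct

namespace Groth.OmegaSheaf

open Groth.QCohMod (res res_res res_smul res_app res_self sectionsAlg)

variable {Z X S : Scheme.{u}} {f : X ⟶ S} {i : Z ⟶ X}
  {ΩX : X.Modules} {dX : OmegaSh.Der f ΩX}
  {ΩZ : Z.Modules} {dZ : OmegaSh.Der (i ≫ f) ΩZ}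
  {φ : Omega.conormal i ⟶ (Scheme.Modules.pullback i).obj ΩX}
  {c : (Scheme.Modules.pullback i).obj ΩX ⟶ ΩZ}

lemma der_zero_app {M : X.Modules} (D : OmegaSh.Der f M) (U : X.Opens) : D.app U 0 = 0 :=
  map_zero (D.app U)

/-- `φ ≫ c = 0`. -/
theorem conormalDiff_comp_eq_zero (hφ : OmegaSh.IsConormalDiff i dX φ)
    (hc : OmegaSh.IsDiffCompat i dX dZ c) : φ ≫ c = 0 := by
  refine conormal_hom_ext fun U k ↦ ?_
  change c.app _ (φ.app _ (OmegaSh.conormalSect i U k)) = 0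
  rw [hφ U k, hc U, app_idealSect, map_zero]

/-- A conormal chart below a given open, with an affine open of the base. -/
lemma exists_chart_conormalChart [IsImmersion i] (z : Z) :
    ∃ (c₁ : Chart f), IsConormalChart i c₁.U ∧ i z ∈ c₁.U := by
  obtain ⟨c₀, hz, -⟩ := exists_chart f (x := i z) (W := ⊤) trivial
  obtain ⟨W, hW, hzW, hle⟩ := exists_conormalChart i z hz
  exact ⟨⟨W, c₀.V, hW.affine, c₀.hV, hle.trans c₀.e⟩, hW, hzW⟩

/-- The conormal map on a chart, through Kähler differentials. -/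
lemma app_conormalSect_chart (hX : OmegaSh.IsUniversal dX) (hφ : OmegaSh.IsConormalDiff i dX φ)
    (c₁ : Chart f) (hW : IsConormalChart i c₁.U) (k : Γ(ClSub.idealMod i.ker, c₁.U)) :
    letI := chartAlg f c₁.e
    letI := sectionsAlg i (le_refl (i ⁻¹ᵁ c₁.U))
    φ.app (i ⁻¹ᵁ c₁.U) (OmegaSh.conormalSect i c₁.U k) =
      pullChartEquiv hX i c₁ hW.affine_preimage le_rfl
        (1 ⊗ₜ KaehlerDifferential.D Γ(S, c₁.V) Γ(X, c₁.U) (OmegaSh.idealSect i.ker c₁.U k)) := by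
  let _ := chartAlg f c₁.e
  let _ := sectionsAlg i (le_refl (i ⁻¹ᵁ c₁.U))
  rw [pullChartEquiv_tmul_D, one_smul, res_self, hφ c₁.U k]

/-- The base on a chart, seen on `Z`. -/
lemma appLE_appLE_chart (c₁ : Chart f) (r : Γ(S, c₁.V)) :
    i.appLE c₁.U (i ⁻¹ᵁ c₁.U) le_rfl (f.appLE c₁.V c₁.U c₁.e r) =
      (i ≫ f).appLE c₁.V (i ⁻¹ᵁ c₁.U) (i.preimage_mono c₁.e) r := by
  rw [← CommRingCat.comp_apply, Scheme.Hom.appLE_comp_appLE]

variable [IsImmersion i]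

/-- The second map is an epimorphism. -/
theorem diffCompat_epi (hX : OmegaSh.IsUniversal dX) (hZ : OmegaSh.IsUniversal dZ)
    (hc : OmegaSh.IsDiffCompat i dX dZ c) : Epi c := by
  have := isQCoh_of_isUniversal hZ
  refine epi_of_affine_cover c fun z ↦ ?_
  obtain ⟨c₁, hW, hz⟩ := exists_chart_conormalChart (f := f) (i := i) z
  refine ⟨i ⁻¹ᵁ c₁.U, hW.affine_preimage, hz, ?_⟩
  let c₂ : Chart (i ≫ f) := ⟨i ⁻¹ᵁ c₁.U, c₁.V, hW.affine_preimage, c₁.hV, i.preimage_mono c₁.e⟩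
  let _ := chartAlg f c₁.e
  let _ := chartAlg (i ≫ f) c₂.e
  let _ := sectionsAlg i (le_refl (i ⁻¹ᵁ c₁.U))
  have : IsScalarTower Γ(S, c₁.V) Γ(X, c₁.U) Γ(Z, i ⁻¹ᵁ c₁.U) :=
    IsScalarTower.of_algebraMap_eq fun r ↦ (appLE_appLE_chart c₁ r).symm
  have hsurj : Function.Surjective (algebraMap Γ(X, c₁.U) Γ(Z, i ⁻¹ᵁ c₁.U)) := by
    change Function.Surjective (i.appLE c₁.U (i ⁻¹ᵁ c₁.U) le_rfl)
    rw [← Scheme.Hom.app_eq_appLE]
    exact hW.surjective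
  let Φ := KaehlerDifferential.mapBaseChange Γ(S, c₁.V) Γ(X, c₁.U) Γ(Z, i ⁻¹ᵁ c₁.U)
  intro y
  obtain ⟨w, rfl⟩ := (chartLift_bijective_of_isUniversal hZ c₂).2 y
  obtain ⟨z', rfl⟩ := KaehlerDifferential.mapBaseChange_surjective Γ(S, c₁.V) Γ(X, c₁.U)
    Γ(Z, i ⁻¹ᵁ c₁.U) hsurj w
  refine ⟨pullChartEquiv hX i c₁ hW.affine_preimage le_rfl z', ?_⟩
  exact app_pullChartEquiv hX i c₁ hW.affine_preimage le_rfl hc c₂.e Φ (fun b s ↦ by
    rw [KaehlerDifferential.mapBaseChange_tmul, KaehlerDifferential.map_D]; rfl) z'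

/-- `C_{Z/X} → i^*Ω_{X/S} → Ω_{Z/S}` is exact. -/
theorem conormalDiff_exact [QuasiCompact i] (hX : OmegaSh.IsUniversal dX)
    (hZ : OmegaSh.IsUniversal dZ) (hφ : OmegaSh.IsConormalDiff i dX φ)
    (hc : OmegaSh.IsDiffCompat i dX dZ c) (w : φ ≫ c = 0) :
    (ShortComplex.mk φ c w).Exact := by
  have := isQCoh_of_isUniversal hX
  have := isQCoh_of_isUniversal hZ
  refine exact_of_affine_cover _ fun z ↦ ?_
  obtain ⟨c₁, hW, hz⟩ := exists_chart_conormalChart (f := f) (i := i) z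
  refine ⟨i ⁻¹ᵁ c₁.U, hW.affine_preimage, hz, fun m hm ↦ ?_⟩
  change c.app (i ⁻¹ᵁ c₁.U) m = 0 at hm
  let c₂ : Chart (i ≫ f) := ⟨i ⁻¹ᵁ c₁.U, c₁.V, hW.affine_preimage, c₁.hV, i.preimage_mono c₁.e⟩
  let _ := chartAlg f c₁.e
  let _ := chartAlg (i ≫ f) c₂.e
  let _ := sectionsAlg i (le_refl (i ⁻¹ᵁ c₁.U))
  have : IsScalarTower Γ(S, c₁.V) Γ(X, c₁.U) Γ(Z, i ⁻¹ᵁ c₁.U) :=
    IsScalarTower.of_algebraMap_eq fun r ↦ (appLE_appLE_chart c₁ r).symm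
  have hsurj : Function.Surjective (algebraMap Γ(X, c₁.U) Γ(Z, i ⁻¹ᵁ c₁.U)) := by
    change Function.Surjective (i.appLE c₁.U (i ⁻¹ᵁ c₁.U) le_rfl)
    rw [← Scheme.Hom.app_eq_appLE]
    exact hW.surjective
  let Φ := KaehlerDifferential.mapBaseChange Γ(S, c₁.V) Γ(X, c₁.U) Γ(Z, i ⁻¹ᵁ c₁.U)
  obtain ⟨z', rfl⟩ := (pullChartEquiv hX i c₁ hW.affine_preimage le_rfl).surjective m
  have h0 : chartLift (i ≫ f) c₂.e dZ (Φ z') = 0 :=
    (app_pullChartEquiv hX i c₁ hW.affine_preimage le_rfl hc c₂.e Φ (fun b s ↦ by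
      rw [KaehlerDifferential.mapBaseChange_tmul, KaehlerDifferential.map_D]; rfl) z').symm.trans hm
  have h1 : Φ z' = 0 :=
    (map_eq_zero_iff _ (chartLift_bijective_of_isUniversal hZ c₂).1).mp h0
  obtain ⟨w', rfl⟩ := (KaehlerDifferential.exact_kerCotangentToTensor_mapBaseChange Γ(S, c₁.V)
    Γ(X, c₁.U) Γ(Z, i ⁻¹ᵁ c₁.U) hsurj z').mp h1
  obtain ⟨⟨x, hx⟩, rfl⟩ := Ideal.toCotangent_surjective _ w'
  obtain ⟨k, hk⟩ := exists_idealSect_of_app_eq_zero i (x := x)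
    (by rw [Scheme.Hom.app_eq_appLE]; exact hx)
  refine ⟨OmegaSh.conormalSect i c₁.U k, ?_⟩
  change φ.app (i ⁻¹ᵁ c₁.U) _ = _
  rw [app_conormalSect_chart hX hφ c₁ hW, hk, KaehlerDifferential.kerCotangentToTensor_toCotangent]

end Groth.OmegaSheaf
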