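import Groth.Agent.OmegaSheaf.ConormalTriangle
import Groth.Prelude.Def_MoreMor

/-!
# Injectivity on the left under formal smoothness
-/

universe u

open CategoryTheory Limits AlgebraicGeometry Opposite TopologicalSpace TensorProduct

namespace Groth.OmegaSheaf

open Groth.QCohMod (res res_res res_smul res_app res_self sectionsAlg)

/-- A section of `A ⧸ I² → B` makes `I/I² → B ⊗ Ω[A⁄R]` injective. -/
lemma mem_sq_of_tmul_D_eq_zero {R A B : Type u} [CommRing R] [CommRing A] [CommRing B]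
    [Algebra R A] [Algebra A B] [Algebra R B] [IsScalarTower R A B]
    (hAB : Function.Surjective (algebraMap A B))
    (s : B →ₐ[R] A ⧸ RingHom.ker (algebraMap A B) ^ 2)
    (hs : ∀ b a, Ideal.Quotient.mk _ a = s b → algebraMap A B a = b)
    {x : A} (hx : algebraMap A B x = 0)
    (h : (1 : B) ⊗ₜ[A] KaehlerDifferential.D R A x = 0) :
    x ∈ RingHom.ker (algebraMap A B) ^ 2 := by
  let I := RingHom.ker (algebraMap A B)
  have hI : I = RingHom.ker (algebraMap A B) := rfl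
  let π : A →+* A ⧸ I ^ 2 := Ideal.Quotient.mk _
  choose r hr using fun a : A ↦ Ideal.Quotient.mk_surjective (s (algebraMap A B a))
  have hmem : ∀ a, a - r a ∈ I := fun a ↦ by
    rw [hI, RingHom.mem_ker, map_sub, hs _ _ (hr a), sub_self]
  let δ : Derivation R A (A ⧸ I ^ 2) := Derivation.mk'
    { toFun := fun a ↦ π a - s (algebraMap A B a)
      map_add' := fun a b ↦ by rw [map_add, map_add, map_add]; ring
      map_smul' := fun t a ↦ by
        rw [RingHom.id_apply, Algebra.smul_def, Algebra.smul_def, map_mul, map_mul, map_mul,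
          ← IsScalarTower.algebraMap_apply R A B, AlgHom.commutes,
          show π (algebraMap R A t) = algebraMap R (A ⧸ I ^ 2) t from rfl]
        ring }
    fun a b ↦ by
      change π (a * b) - s (algebraMap A B (a * b)) =
        a • (π b - s (algebraMap A B b)) + b • (π a - s (algebraMap A B a))
      rw [Algebra.smul_def, Algebra.smul_def, Ideal.Quotient.algebraMap_eq, map_mul, map_mul,
        map_mul, ← hr a, ← hr b]
      have h0 : π ((a - r a) * (b - r b)) = 0 := by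
        refine Ideal.Quotient.eq_zero_iff_mem.mpr ?_
        rw [pow_two]
        exact Ideal.mul_mem_mul (hmem a) (hmem b)
      rw [map_mul, map_sub, map_sub] at h0
      linear_combination -h0
  let L := δ.liftKaehlerDifferential
  have hLrange : ∀ ω : Ω[A⁄R], ∃ y ∈ I, L ω = π y := by
    intro ω
    have hω : ω ∈ Submodule.span A (Set.range (KaehlerDifferential.D R A)) := by
      rw [KaehlerDifferential.span_range_derivation]; trivial
    induction hω using Submodule.span_induction with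
    | mem w hw =>
      obtain ⟨a, rfl⟩ := hw
      refine ⟨_, hmem a, (δ.liftKaehlerDifferential_comp_D a).trans ?_⟩
      change π a - s _ = π (a - r a)
      rw [map_sub, ← hr a]
    | zero => exact ⟨0, zero_mem _, by rw [map_zero, map_zero]⟩
    | add a b _ _ ha hb =>
      obtain ⟨y, hy, hy'⟩ := ha; obtain ⟨y', hy1, hy2⟩ := hb
      exact ⟨y + y', add_mem hy hy1, by rw [map_add, map_add, hy', hy2]⟩
    | smul t a _ ha =>
      obtain ⟨y, hy, hy'⟩ := ha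
      exact ⟨t * y, Ideal.mul_mem_left _ _ hy, by
        rw [map_smul, hy', Algebra.smul_def, Ideal.Quotient.algebraMap_eq, map_mul]⟩
  have hex : Function.Exact I.subtype (Algebra.linearMap A B) := fun a ↦
    ⟨fun ha ↦ ⟨⟨a, ha⟩, rfl⟩, fun ⟨y, hy⟩ ↦ hy ▸ y.2⟩
  have h' : ((Algebra.linearMap A B).rTensor Ω[A⁄R])
      ((1 : A) ⊗ₜ[A] KaehlerDifferential.D R A x) = 0 := by
    rw [LinearMap.rTensor_tmul, Algebra.linearMap_apply, map_one]; exact h
  obtain ⟨w, hw⟩ := ((rTensor_exact Ω[A⁄R] hex hAB) _).mp h'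
  have hzero : ∀ w, L (TensorProduct.lid A Ω[A⁄R] (I.subtype.rTensor Ω[A⁄R] w)) = 0 := by
    intro w
    induction w using TensorProduct.induction_on with
    | zero => simp
    | add a b ha hb => rw [map_add, map_add, map_add, ha, hb, add_zero]
    | tmul a ω =>
      rw [LinearMap.rTensor_tmul, TensorProduct.lid_tmul, map_smul]
      obtain ⟨y, hy, hy'⟩ := hLrange ω
      rw [hy', Algebra.smul_def, Ideal.Quotient.algebraMap_eq, ← map_mul,
        Ideal.Quotient.eq_zero_iff_mem, pow_two]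
      exact Ideal.mul_mem_mul a.2 hy
  have hLx : L (KaehlerDifferential.D R A x) = 0 := by
    have := hzero w
    rw [hw, TensorProduct.lid_tmul, one_smul] at this
    exact this
  rw [Derivation.liftKaehlerDifferential_comp_D] at hLx
  change π x - s (algebraMap A B x) = 0 at hLx
  rw [hx, map_zero, sub_zero] at hLx
  exact Ideal.Quotient.eq_zero_iff_mem.mp hLx

/-- If `R → A` is formally smooth and `R → B` is surjective with kernel `J`, then
`J/J² → I/I²` is injective. -/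
lemma mem_sq_of_formallySmooth {R A B : Type u} [CommRing R] [CommRing A] [CommRing B]
    [Algebra R A] [Algebra A B] [Algebra R B] [IsScalarTower R A B] [Algebra.FormallySmooth R A]
    (hRB : Function.Surjective (algebraMap R B)) {y : R}
    (hy : algebraMap R A y ∈ RingHom.ker (algebraMap A B) ^ 2) :
    y ∈ RingHom.ker (algebraMap R B) ^ 2 := by
  set J := RingHom.ker (algebraMap R B) with hJ
  let g : R ⧸ J ^ 2 →ₐ[R] B := Ideal.Quotient.liftₐ _ (Algebra.ofId R B)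
    fun a ha ↦ RingHom.mem_ker.mp ((Ideal.pow_le_self two_ne_zero) ha : a ∈ J)
  have hg : Function.Surjective g := fun b ↦ by
    obtain ⟨a, rfl⟩ := hRB b; exact ⟨Ideal.Quotient.mk _ a, rfl⟩
  have hker : ∀ v, g v = 0 → ∃ a ∈ J, v = Ideal.Quotient.mk _ a := by
    intro v hv
    obtain ⟨a, rfl⟩ := Ideal.Quotient.mk_surjective v
    exact ⟨a, hv, rfl⟩
  have hnil : IsNilpotent (RingHom.ker (g : R ⧸ J ^ 2 →+* B)) := by
    refine ⟨2, eq_bot_iff.mpr ((pow_two _).trans_le (Ideal.mul_le.mpr ?_))⟩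
    intro a ha b hb
    obtain ⟨a, ha', rfl⟩ := hker a ha
    obtain ⟨b, hb', rfl⟩ := hker b hb
    rw [Ideal.mem_bot, ← map_mul, Ideal.Quotient.eq_zero_iff_mem, pow_two]
    exact Ideal.mul_mem_mul ha' hb'
  let σ := Algebra.FormallySmooth.liftOfSurjective (IsScalarTower.toAlgHom R A B) g hg hnil
  have hσ : ∀ a ∈ RingHom.ker (algebraMap A B), ∃ a' ∈ J, σ a = Ideal.Quotient.mk _ a' := by
    intro a ha
    exact hker _ ((Algebra.FormallySmooth.liftOfSurjective_apply _ g hg hnil a).trans ha)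
  have h2 : ∀ v ∈ RingHom.ker (algebraMap A B) ^ 2, σ v = 0 := by
    intro v hv
    rw [pow_two] at hv
    induction hv using Submodule.mul_induction_on' with
    | mem_mul_mem a ha b hb =>
      obtain ⟨a', ha', ea⟩ := hσ a ha
      obtain ⟨b', hb', eb⟩ := hσ b hb
      rw [map_mul, ea, eb, ← map_mul, Ideal.Quotient.eq_zero_iff_mem, pow_two]
      exact Ideal.mul_mem_mul ha' hb'
    | add a _ b _ ha hb => rw [map_add, ha, hb, add_zero]
  have := h2 _ hy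
  rw [AlgHom.commutes] at this
  exact Ideal.Quotient.eq_zero_iff_mem.mp this

variable {Z X Y : Scheme.{u}} {f : X ⟶ Y} {i : Z ⟶ X}

/-- The lifting property on an affine chart gives a section of `A ⧸ I² → B`. -/
lemma exists_section_of_formallySmooth [IsImmersion i] (hf : MoreMor.IsFormallySmoothHom (i ≫ f))
    (c₁ : Chart f) (hW : IsConormalChart i c₁.U) :
    letI := chartAlg f c₁.e
    letI : Algebra Γ(Y, c₁.V) Γ(Z, i ⁻¹ᵁ c₁.U) :=
      ((i ≫ f).appLE c₁.V (i ⁻¹ᵁ c₁.U) (i.preimage_mono c₁.e)).hom.toAlgebra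
    letI := sectionsAlg i (le_refl (i ⁻¹ᵁ c₁.U))
    ∃ s : Γ(Z, i ⁻¹ᵁ c₁.U) →ₐ[Γ(Y, c₁.V)] Γ(X, c₁.U) ⧸
        RingHom.ker (algebraMap Γ(X, c₁.U) Γ(Z, i ⁻¹ᵁ c₁.U)) ^ 2,
      ∀ b a, Ideal.Quotient.mk _ a = s b → algebraMap Γ(X, c₁.U) Γ(Z, i ⁻¹ᵁ c₁.U) a = b := by
  let _ := chartAlg f c₁.e
  let _ : Algebra Γ(Y, c₁.V) Γ(Z, i ⁻¹ᵁ c₁.U) :=
    ((i ≫ f).appLE c₁.V (i ⁻¹ᵁ c₁.U) (i.preimage_mono c₁.e)).hom.toAlgebra
  let _ := sectionsAlg i (le_refl (i ⁻¹ᵁ c₁.U))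
  have hsurj : Function.Surjective (algebraMap Γ(X, c₁.U) Γ(Z, i ⁻¹ᵁ c₁.U)) := by
    change Function.Surjective (i.appLE c₁.U (i ⁻¹ᵁ c₁.U) le_rfl)
    rw [← Scheme.Hom.app_eq_appLE]
    exact hW.surjective
  let I := RingHom.ker (algebraMap Γ(X, c₁.U) Γ(Z, i ⁻¹ᵁ c₁.U))
  let A₀ := Γ(X, c₁.U) ⧸ I ^ 2
  let I₀ : Ideal A₀ := I.map (Ideal.Quotient.mk (I ^ 2))
  have hI₀ : I₀ ^ 2 = ⊥ := by
    rw [← Ideal.map_pow, Ideal.map_quotient_self]
  have hlift : ∀ a ∈ I, Ideal.Quotient.mk I₀ (Ideal.Quotient.mk (I ^ 2) a) = 0 := fun a ha ↦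
    Ideal.Quotient.eq_zero_iff_mem.mpr (Ideal.mem_map_of_mem _ ha)
  let q : Γ(Z, i ⁻¹ᵁ c₁.U) →+* A₀ ⧸ I₀ :=
    RingHom.liftOfSurjective (algebraMap Γ(X, c₁.U) Γ(Z, i ⁻¹ᵁ c₁.U)) hsurj
      ⟨(Ideal.Quotient.mk I₀).comp (Ideal.Quotient.mk (I ^ 2)), fun a ha ↦ RingHom.mem_ker.mpr (hlift a ha)⟩
  have hq : ∀ a, q (algebraMap Γ(X, c₁.U) Γ(Z, i ⁻¹ᵁ c₁.U) a) =
      Ideal.Quotient.mk I₀ (Ideal.Quotient.mk (I ^ 2) a) :=
    RingHom.liftOfSurjective_comp_apply _ hsurj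
      ⟨_, fun a ha ↦ RingHom.mem_ker.mpr (hlift a ha)⟩
  let πR : Γ(Y, c₁.V) ⟶ CommRingCat.of A₀ :=
    CommRingCat.ofHom ((Ideal.Quotient.mk (I ^ 2)).comp (algebraMap Γ(Y, c₁.V) Γ(X, c₁.U)))
  have hsq : (i ≫ f).appLE c₁.V (i ⁻¹ᵁ c₁.U) (i.preimage_mono c₁.e) ≫ CommRingCat.ofHom q =
      πR ≫ CommRingCat.ofHom (Ideal.Quotient.mk I₀) := by
    ext r
    change q ((i ≫ f).appLE c₁.V (i ⁻¹ᵁ c₁.U) (i.preimage_mono c₁.e) r) = _
    rw [← appLE_appLE_chart c₁ r]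
    exact hq _
  have hnil : Function.Surjective (Spec.map (CommRingCat.ofHom (Ideal.Quotient.mk I₀))) := by
    intro P
    have hle : I₀ ≤ P.asIdeal := fun a ha ↦ by
      have : a ^ 2 = 0 := by
        rw [← Ideal.mem_bot, ← hI₀]; exact Ideal.pow_mem_pow ha 2
      exact P.isPrime.mem_of_pow_mem 2 (this ▸ zero_mem _)
    have hP : P ∈ Set.range (PrimeSpectrum.comap (Ideal.Quotient.mk I₀)) := by
      rw [range_comap_of_surjective _ _ Ideal.Quotient.mk_surjective, Ideal.mk_ker]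
      exact hle
    exact hP
  obtain ⟨l, hl1, hl2⟩ := hf A₀ I₀ hI₀ (Spec.map (CommRingCat.ofHom q) ≫ hW.affine_preimage.fromSpec)
    (Spec.map πR ≫ c₁.hV.fromSpec) (by
      rw [Category.assoc, ← IsAffineOpen.SpecMap_appLE_fromSpec (i ≫ f) c₁.hV hW.affine_preimage
        (i.preimage_mono c₁.e), ← Spec.map_comp_assoc, ← Spec.map_comp_assoc, hsq])
  have hrange : Set.range l ⊆ Set.range hW.affine_preimage.fromSpec := by
    rintro _ ⟨P, rfl⟩
    obtain ⟨P', rfl⟩ := hnil P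
    rw [← Scheme.Hom.comp_apply, hl1, Scheme.Hom.comp_apply]
    exact ⟨_, rfl⟩
  let l' := IsOpenImmersion.lift hW.affine_preimage.fromSpec l hrange
  let s₀ := Spec.preimage l'
  have hl' : Spec.map s₀ ≫ hW.affine_preimage.fromSpec = l := by
    rw [Spec.map_preimage, IsOpenImmersion.lift_fac]
  have h1 : s₀ ≫ CommRingCat.ofHom (Ideal.Quotient.mk I₀) = CommRingCat.ofHom q := by
    apply Spec.map_injective
    rw [Spec.map_comp, ← cancel_mono hW.affine_preimage.fromSpec, Category.assoc, hl', hl1]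
  have h2 : (i ≫ f).appLE c₁.V (i ⁻¹ᵁ c₁.U) (i.preimage_mono c₁.e) ≫ s₀ = πR := by
    apply Spec.map_injective
    rw [Spec.map_comp, ← cancel_mono c₁.hV.fromSpec, Category.assoc,
      IsAffineOpen.SpecMap_appLE_fromSpec (i ≫ f) c₁.hV hW.affine_preimage (i.preimage_mono c₁.e),
      ← Category.assoc, hl',
      hl2]
  refine ⟨{ toRingHom := s₀.hom, commutes' := fun r ↦ congr($h2 r) }, fun b a hab ↦ ?_⟩
  obtain ⟨a', rfl⟩ := hsurj b
  have h3 : Ideal.Quotient.mk I₀ (s₀ (algebraMap Γ(X, c₁.U) Γ(Z, i ⁻¹ᵁ c₁.U) a')) =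
      q (algebraMap Γ(X, c₁.U) Γ(Z, i ⁻¹ᵁ c₁.U) a') := congr($h1 _)
  rw [hq] at h3
  have h4 : a - a' ∈ I := by
    have h5 : Ideal.Quotient.mk (I ^ 2) a - Ideal.Quotient.mk (I ^ 2) a' ∈ I₀ := by
      rw [← Ideal.Quotient.eq, ← h3, hab]; rfl
    rw [← map_sub] at h5
    obtain ⟨v, hv, hv'⟩ := (Ideal.mem_map_iff_of_surjective _ Ideal.Quotient.mk_surjective).mp h5
    have hsq' : v - (a - a') ∈ I := Ideal.pow_le_self two_ne_zero (Ideal.Quotient.eq.mp hv')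
    simpa using sub_mem hv hsq'
  rw [RingHom.mem_ker, map_sub, sub_eq_zero] at h4
  exact h4

variable [IsImmersion i] [QuasiCompact i]

/-- If `i ≫ f` is formally smooth, the conormal sheaf injects into the differentials. -/
theorem conormalDiff_mono (hf : MoreMor.IsFormallySmoothHom (i ≫ f)) {Ω : X.Modules}
    {d : OmegaSh.Der f Ω} (hd : OmegaSh.IsUniversal d)
    {φ : Omega.conormal i ⟶ (Scheme.Modules.pullback i).obj Ω}
    (hφ : OmegaSh.IsConormalDiff i d φ) : Mono φ := by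
  have := isQCoh_of_isUniversal hd
  refine mono_of_affine_cover φ fun z ↦ ?_
  obtain ⟨c₁, hW, hz⟩ := exists_chart_conormalChart (f := f) (i := i) z
  refine ⟨i ⁻¹ᵁ c₁.U, hW.affine_preimage, hz, (injective_iff_map_eq_zero _).mpr fun m hm ↦ ?_⟩
  obtain ⟨s, hs⟩ := exists_section_of_formallySmooth hf c₁ hW
  obtain ⟨k, rfl⟩ := hW.conormalSect_surjective m
  rw [app_conormalSect_chart hd hφ c₁ hW] at hm
  let _ := chartAlg f c₁.e
  let _ : Algebra Γ(Y, c₁.V) Γ(Z, i ⁻¹ᵁ c₁.U) :=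
    ((i ≫ f).appLE c₁.V (i ⁻¹ᵁ c₁.U) (i.preimage_mono c₁.e)).hom.toAlgebra
  let _ := sectionsAlg i (le_refl (i ⁻¹ᵁ c₁.U))
  have : IsScalarTower Γ(Y, c₁.V) Γ(X, c₁.U) Γ(Z, i ⁻¹ᵁ c₁.U) :=
    IsScalarTower.of_algebraMap_eq fun r ↦ (appLE_appLE_chart c₁ r).symm
  have hsurj : Function.Surjective (algebraMap Γ(X, c₁.U) Γ(Z, i ⁻¹ᵁ c₁.U)) := by
    change Function.Surjective (i.appLE c₁.U (i ⁻¹ᵁ c₁.U) le_rfl)
    rw [← Scheme.Hom.app_eq_appLE]
    exact hW.surjective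
  have hx : algebraMap Γ(X, c₁.U) Γ(Z, i ⁻¹ᵁ c₁.U) (OmegaSh.idealSect i.ker c₁.U k) = 0 := by
    change i.appLE c₁.U (i ⁻¹ᵁ c₁.U) le_rfl _ = 0
    rw [← Scheme.Hom.app_eq_appLE]
    exact app_idealSect i _ k
  have hmem := mem_sq_of_tmul_D_eq_zero hsurj s hs hx
    ((pullChartEquiv hd i c₁ hW.affine_preimage le_rfl).map_eq_zero_iff.mp hm)
  rw [hW.conormalSect_eq_zero_iff, Scheme.Hom.app_eq_appLE]
  exact hmem

/-- For smooth `p`, `C_{Z/Y} → C_{Z/X}` is injective. -/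
theorem conormalMap_mono {p : X ⟶ Y} [Smooth p] [IsImmersion (i ≫ p)] [QuasiCompact (i ≫ p)]
    {ψ : (Scheme.Modules.pullback (𝟙 Z)).obj (Omega.conormal (i ≫ p)) ⟶ Omega.conormal i}
    (hψ : OmegaSh.IsConormalMap i (i ≫ p) p (𝟙 Z) ψ) : Mono ψ := by
  refine mono_of_affine_cover ψ fun z ↦ ?_
  obtain ⟨c₁, hW, hV, hz, heq⟩ := exists_triangle_chart p i z
  refine ⟨i ⁻¹ᵁ c₁.U, hW.affine_preimage, hz, (injective_iff_map_eq_zero _).mpr fun m hm ↦ ?_⟩
  have h₁ : i ⁻¹ᵁ c₁.U ≤ 𝟙 Z ⁻¹ᵁ ((i ≫ p) ⁻¹ᵁ c₁.V) := heq.le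
  let _ := sectionsAlg (𝟙 Z) h₁
  obtain ⟨w, rfl⟩ := (Groth.QCohMod.pullSecTensor_bijective (𝟙 Z) (Omega.conormal (i ≫ p)) h₁
    hV.affine_preimage hW.affine_preimage).2 m
  have hgen : ∃ s', Groth.QCohMod.pullSecTensor (𝟙 Z) (Omega.conormal (i ≫ p)) h₁ w =
      res _ h₁ (OmegaSh.pullSect (𝟙 Z) (Omega.conormal (i ≫ p))
        ((i ≫ p) ⁻¹ᵁ c₁.V) (OmegaSh.conormalSect (i ≫ p) c₁.V s')) := by
    clear hm
    induction w using TensorProduct.induction_on with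
    | zero => exact ⟨0, by simp only [map_zero]⟩
    | add a b ha hb =>
      obtain ⟨sa, ha⟩ := ha; obtain ⟨sb, hb⟩ := hb
      exact ⟨sa + sb, by rw [map_add, ha, hb, map_add, map_add, map_add]⟩
    | tmul b c =>
      obtain ⟨s', rfl⟩ := hV.conormalSect_surjective c
      obtain ⟨g, rfl⟩ := surjective_triangle c₁ hV heq b
      refine ⟨g • s', ?_⟩
      rw [Groth.QCohMod.pullSecTensor_tmul, conormalSect_smul, pullSect_smul, res_smul]
      congr 1
  obtain ⟨s', hs'⟩ := hgen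
  rw [hs'] at hm ⊢
  obtain ⟨s, hs⟩ := exists_lift_base (i := i) (p := p) c₁.V s'
  rw [← res_app] at hm
  have h2 := (hψ.2 c₁.V s' s hs _ h₁ (i.preimage_mono c₁.e)).symm.trans hm
  change res (Omega.conormal i) (i.preimage_mono c₁.e) _ = 0 at h2
  rw [res_conormalSect i c₁.e, hW.conormalSect_eq_zero_iff] at h2
  let _ := chartAlg p c₁.e
  let _ : Algebra Γ(Y, c₁.V) Γ(Z, i ⁻¹ᵁ c₁.U) :=
    ((i ≫ p).appLE c₁.V (i ⁻¹ᵁ c₁.U) (i.preimage_mono c₁.e)).hom.toAlgebra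
  let _ := sectionsAlg i (le_refl (i ⁻¹ᵁ c₁.U))
  have : IsScalarTower Γ(Y, c₁.V) Γ(X, c₁.U) Γ(Z, i ⁻¹ᵁ c₁.U) :=
    IsScalarTower.of_algebraMap_eq fun r ↦ (appLE_appLE_chart c₁ r).symm
  have : Algebra.FormallySmooth Γ(Y, c₁.V) Γ(X, c₁.U) :=
    (p.smooth_appLE c₁.hV c₁.hU c₁.e).formallySmooth
  have h3 := mem_sq_of_formallySmooth (A := Γ(X, c₁.U)) (surjective_triangle c₁ hV heq)
    (y := OmegaSh.idealSect (i ≫ p).ker c₁.V s') (by
      have h4 : OmegaSh.idealSect i.ker c₁.U (res _ c₁.e s) =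
          p.appLE c₁.V c₁.U c₁.e (OmegaSh.idealSect (i ≫ p).ker c₁.V s') := by
        change OmegaSh.idealSect i.ker c₁.U ((ClSub.idealMod i.ker).presheaf.map _ s) = _
        rw [idealSect_res, hs]
        rfl
      rw [h4, Scheme.Hom.app_eq_appLE] at h2
      exact h2)
  have hker : RingHom.ker (algebraMap Γ(Y, c₁.V) Γ(Z, i ⁻¹ᵁ c₁.U)) =
      RingHom.ker ((i ≫ p).app c₁.V).hom := by
    ext r
    rw [RingHom.mem_ker, RingHom.mem_ker]
    exact map_eq_zero_iff (Z.presheaf.map (eqToHom heq).op).hom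
      (ConcreteCategory.bijective_of_isIso (Z.presheaf.map (eqToHom heq).op)).1
  rw [hker, ← hV.conormalSect_eq_zero_iff] at h3
  rw [h3, map_zero, map_zero]

end Groth.OmegaSheaf
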