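import Groth.Agent.OmegaSheaf.Receptacle
import Groth.Agent.OmegaSheaf.IsoLocal

/-!
# The maps between sheaves of differentials

Quasi-coherence of the receptacle of a universal derivation, existence and uniqueness of the
comparison map, and base change.
-/

universe u

open CategoryTheory Limits AlgebraicGeometry Opposite TopologicalSpace TensorProduct

namespace Groth.OmegaSheaf

open Groth.QCohMod (res res_res res_smul res_app)
open Groth.PicAux (pullSec)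

variable {X Y : Scheme.{u}} {f : X ⟶ Y}

lemma quasiSeparated_chart (c : Chart f) : QuasiSeparated (c.U.ι ≫ f) := by
  have : IsAffine c.U := c.hU
  have : IsAffine c.V := c.hV
  rw [show c.U.ι ≫ f = f.resLE c.V c.U c.e ≫ c.V.ι by simp]
  infer_instance

section Universal

variable {Ω : X.Modules} {d : OmegaSh.Der f Ω} (hd : OmegaSh.IsUniversal d)

include hd in
/-- Two receptacles of universal derivations are isomorphic, compatibly with the derivations. -/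
theorem exists_iso_of_isUniversal {Ω' : X.Modules} {d' : OmegaSh.Der f Ω'}
    (hd' : OmegaSh.IsUniversal d') :
    ∃ θ : Ω ≅ Ω', ∀ U s, θ.hom.app U (d.app U s) = d'.app U s := by
  obtain ⟨θ, hθ⟩ := exists_hom_of_isUniversal hd d'
  obtain ⟨θ', hθ'⟩ := exists_hom_of_isUniversal hd' d
  refine ⟨⟨θ, θ', hom_ext_of_isUniversal hd fun W s ↦ ?_,
    hom_ext_of_isUniversal hd' fun W s ↦ ?_⟩, hθ⟩
  · change θ'.app W (θ.app W _) = _
    rw [hθ, hθ']; rfl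
  · change θ.app W (θ'.app W _) = _
    rw [hθ', hθ]; rfl

include hd in
/-- A receptacle of a universal derivation is quasi-coherent, for any morphism. -/
theorem isQCoh_of_isUniversal : Ω.IsQuasicoherent := by
  refine Groth.QCohMod.isQCoh_of_forall_exists Ω fun x ↦ ?_
  obtain ⟨c, hc, -⟩ := exists_chart f (W := ⊤) (Opens.mem_top x)
  refine ⟨c.U, hc, ?_⟩
  · have := quasiSeparated_chart c
    obtain ⟨θ, -⟩ := exists_iso_of_isUniversal (isUniversal_dOmega (c.U.ι ≫ f))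
      (isUniversal_restrictDer hd c.U)
    exact (Groth.QCohMod.isQCoh_iff_of_iso θ).mp inferInstance

include hd in
/-- The sections over a chart are the Kähler differentials. -/
noncomputable def universalChartEquiv (c : Chart f) :
    letI := chartAlg f c.e
    Ω[Γ(X, c.U)⁄Γ(Y, c.V)] ≃ₗ[Γ(X, c.U)] Γ(Ω, c.U) :=
  letI := chartAlg f c.e
  LinearEquiv.ofBijective (chartLift f c.e d) (chartLift_bijective_of_isUniversal hd c)

lemma universalChartEquiv_D (c : Chart f) (s : Γ(X, c.U)) :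
    letI := chartAlg f c.e
    universalChartEquiv hd c (KaehlerDifferential.D Γ(Y, c.V) Γ(X, c.U) s) = d.app c.U s := by
  let _ := chartAlg f c.e
  exact chartLift_D f c.e d s

end Universal

section Compat

variable {X' Y' : Scheme.{u}} {f' : X' ⟶ Y'} {h : X' ⟶ X} {g : Y' ⟶ Y}
  {Ω₁ : X.Modules} {d₁ : OmegaSh.Der f Ω₁} {Ω₂ : X'.Modules} {d₂ : OmegaSh.Der f' Ω₂}

lemma homEquiv_pullback_app (c : (Scheme.Modules.pullback h).obj Ω₁ ⟶ Ω₂) (U : X.Opens)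
    (m : Γ(Ω₁, U)) :
    (((Scheme.Modules.pullbackPushforwardAdjunction h).homEquiv Ω₁ Ω₂ c).app U m :
        Γ(Ω₂, h ⁻¹ᵁ U)) = c.app (h ⁻¹ᵁ U) (OmegaSh.pullSect h Ω₁ U m) := by
  rw [Adjunction.homEquiv_unit]
  rfl

/-- The canonical map `h^* Ω_{X/Y} → Ω_{X'/Y'}` exists and is unique. -/
theorem existsUnique_isDiffCompat (hd₁ : OmegaSh.IsUniversal d₁) (w : h ≫ f = f' ≫ g) :
    ∃! c : (Scheme.Modules.pullback h).obj Ω₁ ⟶ Ω₂, OmegaSh.IsDiffCompat h d₁ d₂ c := by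
  obtain ⟨α, hα⟩ := exists_hom_of_isUniversal hd₁ (pushDer w d₂)
  let adj := Scheme.Modules.pullbackPushforwardAdjunction h
  refine ⟨(adj.homEquiv Ω₁ Ω₂).symm α, fun U s ↦ ?_, fun c hc ↦ ?_⟩
  · rw [← homEquiv_pullback_app, Equiv.apply_symm_apply, hα]
    rfl
  · apply (adj.homEquiv Ω₁ Ω₂).injective
    rw [Equiv.apply_symm_apply]
    refine hom_ext_of_isUniversal hd₁ fun U s ↦ ?_
    rw [hα]
    exact (homEquiv_pullback_app c U _).trans (hc U s)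

lemma isDiffCompat_res {c : (Scheme.Modules.pullback h).obj Ω₁ ⟶ Ω₂}
    (hc : OmegaSh.IsDiffCompat h d₁ d₂ c) {U : X.Opens} {P : X'.Opens} (e : P ≤ h ⁻¹ᵁ U)
    (s : Γ(X, U)) :
    c.app P (res _ e (pullSec h Ω₁ (d₁.app U s))) = d₂.app P (h.appLE U P e s) := by
  rw [← res_app]
  change res Ω₂ e (c.app (h ⁻¹ᵁ U) (OmegaSh.pullSect h Ω₁ U (d₁.app U s))) = _
  rw [hc U s, ← der_res]
  rfl

end Compat

section Chart

variable {X' Y' : Scheme.{u}} {f' : X' ⟶ Y'} {h : X' ⟶ X}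
  {Ω₁ : X.Modules} {d₁ : OmegaSh.Der f Ω₁} (hd₁ : OmegaSh.IsUniversal d₁)
  {Ω₂ : X'.Modules} {d₂ : OmegaSh.Der f' Ω₂} {c : (Scheme.Modules.pullback h).obj Ω₁ ⟶ Ω₂}
  (hc : OmegaSh.IsDiffCompat h d₁ d₂ c) (c₁ : Chart f) (c₂ : Chart f') (e : c₂.U ≤ h ⁻¹ᵁ c₁.U)

include hd₁ hc in
/-- On charts, the comparison map is given by the map of Kähler differentials. -/
theorem exists_compat_chart :
    letI := chartAlg f c₁.e
    letI := chartAlg f' c₂.e
    letI := Groth.QCohMod.sectionsAlg h e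
    ∃ E : Γ(X', c₂.U) ⊗[Γ(X, c₁.U)] Ω[Γ(X, c₁.U)⁄Γ(Y, c₁.V)] →
        Γ((Scheme.Modules.pullback h).obj Ω₁, c₂.U), Function.Bijective E ∧
      ∀ Φ : Γ(X', c₂.U) ⊗[Γ(X, c₁.U)] Ω[Γ(X, c₁.U)⁄Γ(Y, c₁.V)] →ₗ[Γ(X', c₂.U)]
          Ω[Γ(X', c₂.U)⁄Γ(Y', c₂.V)],
        (∀ b s, Φ (b ⊗ₜ KaehlerDifferential.D Γ(Y, c₁.V) Γ(X, c₁.U) s) =
          b • KaehlerDifferential.D Γ(Y', c₂.V) Γ(X', c₂.U) (h.appLE c₁.U c₂.U e s)) →
        ∀ z, c.app c₂.U (E z) = chartLift f' c₂.e d₂ (Φ z) := by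
  let _ := chartAlg f c₁.e
  let _ := chartAlg f' c₂.e
  let _ := Groth.QCohMod.sectionsAlg h e
  have := isQCoh_of_isUniversal hd₁
  let E := TensorProduct.AlgebraTensorModule.congr
      (LinearEquiv.refl Γ(X', c₂.U) Γ(X', c₂.U)) (universalChartEquiv hd₁ c₁) ≪≫ₗ
    Groth.QCohMod.pullSecEquiv h Ω₁ e c₁.hU c₂.hU
  refine ⟨E, E.bijective, fun Φ hΦ z ↦ ?_⟩
  induction z using TensorProduct.induction_on with
  | zero => simp only [map_zero]
  | add a b ha hb => simp only [map_add]; rw [ha, hb]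
  | tmul b m =>
    have hm : m ∈ Submodule.span Γ(X, c₁.U)
        (Set.range (KaehlerDifferential.D Γ(Y, c₁.V) Γ(X, c₁.U))) := by
      rw [KaehlerDifferential.span_range_derivation]; trivial
    induction hm using Submodule.span_induction generalizing b with
    | mem m hm =>
      obtain ⟨s, rfl⟩ := hm
      rw [hΦ, map_smul, chartLift_D, ← isDiffCompat_res hc e, ← Scheme.Modules.Hom.app_smul]
      congr 1
      change Groth.QCohMod.pullSecTensor h Ω₁ e (b ⊗ₜ universalChartEquiv hd₁ c₁ _) = _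
      rw [universalChartEquiv_D, Groth.QCohMod.pullSecTensor_tmul]
    | zero => simp only [tmul_zero, map_zero]
    | add a a' _ _ ha ha' => simp only [tmul_add, map_add]; rw [ha, ha']
    | smul r a _ ha => rw [tmul_smul, TensorProduct.smul_tmul']; exact ha _

include hd₁ hc in
/-- The comparison map is bijective on a chart whose square of rings is a pushout. -/
theorem app_bijective_of_isPushout (hd₂ : OmegaSh.IsUniversal d₂) (g : Y' ⟶ Y)
    (eV : c₂.V ≤ g ⁻¹ᵁ c₁.V)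
    (hpo : IsPushout (g.appLE c₁.V c₂.V eV) (f.appLE c₁.V c₁.U c₁.e)
      (f'.appLE c₂.V c₂.U c₂.e) (h.appLE c₁.U c₂.U e)) :
    Function.Bijective (c.app c₂.U) := by
  let _ := chartAlg f c₁.e
  let _ := chartAlg f' c₂.e
  let _ := Groth.QCohMod.sectionsAlg h e
  let _ : Algebra Γ(Y, c₁.V) Γ(Y', c₂.V) := (g.appLE c₁.V c₂.V eV).hom.toAlgebra
  let _ : Algebra Γ(Y, c₁.V) Γ(X', c₂.U) :=
    (g.appLE c₁.V c₂.V eV ≫ f'.appLE c₂.V c₂.U c₂.e).hom.toAlgebra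
  have : IsScalarTower Γ(Y, c₁.V) Γ(Y', c₂.V) Γ(X', c₂.U) :=
    IsScalarTower.of_algebraMap_eq fun _ ↦ rfl
  have : IsScalarTower Γ(Y, c₁.V) Γ(X, c₁.U) Γ(X', c₂.U) :=
    IsScalarTower.of_algebraMap_eq fun r ↦ congr($(hpo.w) r)
  have : Algebra.IsPushout Γ(Y, c₁.V) Γ(Y', c₂.V) Γ(X, c₁.U) Γ(X', c₂.U) :=
    CommRingCat.isPushout_iff_isPushout.mp hpo
  obtain ⟨E, hE, hcomp⟩ := exists_compat_chart hd₁ hc c₁ c₂ e
  let T := KaehlerDifferential.tensorKaehlerEquiv Γ(Y, c₁.V) Γ(Y', c₂.V) Γ(X, c₁.U) Γ(X', c₂.U)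
  have hfun : (fun z ↦ c.app c₂.U (E z)) = fun z ↦ chartLift f' c₂.e d₂ (T z) :=
    funext (hcomp T.toLinearMap fun b s ↦ KaehlerDifferential.tensorKaehlerEquiv_tmul_D ..)
  have hb : Function.Bijective (fun z ↦ c.app c₂.U (E z)) := by
    rw [hfun]
    exact (chartLift_bijective_of_isUniversal hd₂ c₂).comp T.bijective
  exact (Function.Bijective.of_comp_iff _ hE).mp hb

end Chart

/-- Sheaves of differentials commute with base change. -/
theorem isIso_of_isPullback {X' Y' : Scheme.{u}} {f' : X' ⟶ Y'} {h : X' ⟶ X} {g : Y' ⟶ Y}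
    (sq : IsPullback h f' f g) {Ω₁ : X.Modules} {d₁ : OmegaSh.Der f Ω₁}
    (hd₁ : OmegaSh.IsUniversal d₁) {Ω₂ : X'.Modules} {d₂ : OmegaSh.Der f' Ω₂}
    (hd₂ : OmegaSh.IsUniversal d₂) {c : (Scheme.Modules.pullback h).obj Ω₁ ⟶ Ω₂}
    (hc : OmegaSh.IsDiffCompat h d₁ d₂ c) : IsIso c := by
  have := isQCoh_of_isUniversal hd₁
  have := isQCoh_of_isUniversal hd₂
  refine isIso_of_affine_cover c fun x ↦ ?_
  obtain ⟨c₁, hxU, -⟩ := exists_chart f (W := ⊤) (Opens.mem_top (h x))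
  have hxV : g (f' x) ∈ c₁.V := by
    rw [← Scheme.Hom.comp_apply, ← sq.w, Scheme.Hom.comp_apply]
    exact c₁.e hxU
  obtain ⟨_, ⟨V' : Y'.Opens, hV', rfl⟩, hxV', hle⟩ :=
    Y'.isBasis_affineOpens.exists_subset_of_mem_open (show f' x ∈ g ⁻¹ᵁ c₁.V from hxV)
      (g ⁻¹ᵁ c₁.V).2
  have hle' : V' ≤ g ⁻¹ᵁ c₁.V := hle
  let P : X'.Opens := h ⁻¹ᵁ c₁.U ⊓ f' ⁻¹ᵁ V'
  have hP : IsAffineOpen P :=
    have : IsAffine c₁.U := c₁.hU
    have : IsAffine c₁.V := c₁.hV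
    have : IsAffine V' := hV'
    .of_isIso (Scheme.Hom.isPullback_resLE sq hle' c₁.e (UY := P) rfl).isoPullback.hom
  let c₂ : Chart f' := ⟨P, V', hP, hV', inf_le_right⟩
  refine ⟨P, hP, ⟨hxU, hxV'⟩,
    app_bijective_of_isPushout hd₁ hc c₁ c₂ inf_le_left hd₂ g hle' ?_⟩
  exact ((isIso_pushoutSection_iff (H := sq) hle' c₁.e rfl).mp
    (isIso_pushoutSection_of_isAffineOpen sq hle' c₁.e rfl c₁.hV hV' c₁.hU)).flip

/-- `g^* Ω_{X/Y} ≅ Ω_{X'/Y'}` for a cartesian square. -/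
theorem nonempty_pullback_iso {X' Y' : Scheme.{u}} {f' : X' ⟶ Y'} {h : X' ⟶ X} {g : Y' ⟶ Y}
    (sq : IsPullback h f' f g) {Ω₁ : X.Modules} {d₁ : OmegaSh.Der f Ω₁}
    (hd₁ : OmegaSh.IsUniversal d₁) {Ω₂ : X'.Modules} {d₂ : OmegaSh.Der f' Ω₂}
    (hd₂ : OmegaSh.IsUniversal d₂) : Nonempty ((Scheme.Modules.pullback h).obj Ω₁ ≅ Ω₂) := by
  obtain ⟨c, hc, -⟩ := existsUnique_isDiffCompat (d₂ := d₂) hd₁ sq.w
  have := isIso_of_isPullback sq hd₁ hd₂ hc
  exact ⟨asIso c⟩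

end Groth.OmegaSheaf
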