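import Groth.Agent.OmegaSheaf.Universal
import Groth.Agent.KTheory.LocFree
import Mathlib.AlgebraicGeometry.Morphisms.Smooth
import Mathlib.AlgebraicGeometry.Morphisms.FiniteType
import Mathlib.RingTheory.Smooth.StandardSmoothCotangent

/-!
# Finiteness and local freeness of the sheaf of differentials
-/

universe u

open CategoryTheory Limits AlgebraicGeometry Opposite TopologicalSpace
open Groth.PicAux (Basis')

namespace Groth.OmegaSheaf

variable {X Y : Scheme.{u}} (f : X ⟶ Y) [QuasiSeparated f]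

lemma nontrivial_sections {U : X.Opens} {x : X} (hx : x ∈ U) : Nontrivial Γ(X, U) :=
  (X.presheaf.germ U x hx).hom.domain_nontrivial

/-- `Ω_{X/Y}` is of finite type for `f` locally of finite type. -/
theorem isFT_sheaf [LocallyOfFiniteType f] : CohB1.IsFT (Omega.sheaf f) := by
  refine Groth.QCohMod.isFT_of_affine_cover _ fun x ↦ ?_
  obtain ⟨c, hxc, -⟩ := exists_chart f (x := x) (W := ⊤) trivial
  let _ := chartAlg f c.e
  have : Algebra.FiniteType Γ(Y, c.V) Γ(X, c.U) := f.finiteType_appLE c.hV c.hU c.e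
  exact ⟨c.U, c.hU, hxc, Module.Finite.equiv (chartEquiv f c.e c.hV c.hU)⟩

/-- Near each point, `Ω_{X/Y}` of a smooth morphism of relative dimension `n` has a basis of
`n` sections. -/
theorem exists_basis_of_smoothOfRelativeDimension (n : ℕ) [SmoothOfRelativeDimension n f] (x : X) :
    ∃ (U : X.Opens) (s : Fin n → Γ(Omega.sheaf f, U)), x ∈ U ∧ Basis' (Omega.sheaf f) U s := by
  obtain ⟨V, hV, U, hU, hxU, e, h⟩ :=
    SmoothOfRelativeDimension.exists_isStandardSmoothOfRelativeDimension (n := n) (f := f) x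
  let _ := chartAlg f e
  have hs : Algebra.IsStandardSmoothOfRelativeDimension n Γ(Y, V) Γ(X, U) := h
  have := hs.isStandardSmooth
  have := nontrivial_sections hxU
  have hrank : Module.finrank Γ(X, U) Ω[Γ(X, U)⁄Γ(Y, V)] = n :=
    Module.finrank_eq_of_rank_eq
      (Algebra.IsStandardSmoothOfRelativeDimension.rank_kaehlerDifferential n)
  let b := ((Module.finBasisOfFinrankEq _ _ hrank).map (chartEquiv f e hV hU))
  refine ⟨U, b, hxU, Groth.KTheory.LocFree.basis'_of_affine hU b ?_⟩
  rw [← funext fun r ↦ b.equivFun_symm_apply r]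
  exact b.equivFun.symm.bijective

/-- `Ω_{X/Y}` is locally free of rank `n` for `f` smooth of relative dimension `n`. -/
theorem isFinLocFreeOfRank_sheaf (n : ℕ) [SmoothOfRelativeDimension n f] :
    FlatMod.IsFinLocFreeOfRank n (Omega.sheaf f) := fun x ↦ by
  obtain ⟨U, s, hx, hs⟩ := exists_basis_of_smoothOfRelativeDimension f n x
  rw [Groth.PicAux.basis'_iff_restrict] at hs
  obtain ⟨d, -⟩ := hs.exists_split
  exact ⟨U, hx, ⟨Groth.KTheory.LocFree.splitIso d⟩⟩

/-- `Ω_{X/Y}` is finite locally free for `f` smooth. -/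
theorem isFinLocFree_sheaf [Smooth f] : FlatMod.IsFinLocFree (Omega.sheaf f) := by
  rw [Groth.KTheory.LocFree.isFinLocFree_iff]
  intro x
  obtain ⟨U, hU, V, hV, hxV, e, h⟩ := Smooth.exists_isStandardSmooth f x
  let _ := chartAlg f e
  have hs : Algebra.IsStandardSmooth Γ(Y, U) Γ(X, V) := h
  have := nontrivial_sections hxV
  have : Module.Finite Γ(X, V) Ω[Γ(X, V)⁄Γ(Y, U)] := inferInstance
  let b := (Module.finBasis Γ(X, V) Ω[Γ(X, V)⁄Γ(Y, U)]).map (chartEquiv f e hU hV)
  exact ⟨V, _, b, hxV, Groth.KTheory.LocFree.basis'_of_affine hV b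
    ((funext fun r ↦ b.equivFun_symm_apply r) ▸ b.equivFun.symm.bijective)⟩

end Groth.OmegaSheaf
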