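import Groth.Agent.OmegaSheaf.Chart
import Groth.Agent.CohTwo.Glue

/-!
# Universality of `OmegaSh.dOmega f` for quasi-separated `f`
-/

universe u

open CategoryTheory Limits AlgebraicGeometry Opposite TopologicalSpace

namespace Groth.OmegaSheaf

open Groth.QCohMod (res res_res res_smul res_app)

variable {X Y : Scheme.{u}} (f : X ⟶ Y)

/-- An affine open `U` of `X` lying over an affine open `V` of `Y`. -/
structure Chart where
  U : X.Opens
  V : Y.Opens
  hU : IsAffineOpen U
  hV : IsAffineOpen V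
  e : U ≤ f ⁻¹ᵁ V

/-- Charts form a basis. -/
lemma exists_chart {x : X} {W : X.Opens} (hx : x ∈ W) :
    ∃ c : Chart f, x ∈ c.U ∧ c.U ≤ W := by
  obtain ⟨_, ⟨V : Y.Opens, hV, rfl⟩, hxV, -⟩ :=
    Y.isBasis_affineOpens.exists_subset_of_mem_open (Set.mem_univ (f x)) isOpen_univ
  obtain ⟨_, ⟨U : X.Opens, hU, rfl⟩, hxU, hle⟩ :=
    X.isBasis_affineOpens.exists_subset_of_mem_open (show x ∈ W ⊓ f ⁻¹ᵁ V from ⟨hx, hxV⟩)
      (W ⊓ f ⁻¹ᵁ V).2
  exact ⟨⟨U, V, hU, hV, fun p hp ↦ (hle hp).2⟩, hxU, fun p hp ↦ (hle hp).1⟩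

lemma res_der {M : X.Modules} (D : OmegaSh.Der f M) {U U' : X.Opens} (h : U' ≤ U) (s : Γ(X, U)) :
    res M h (D.app U s) = D.app U' (X.presheaf.map (homOfLE h).op s) :=
  (D.d_map (homOfLE h).op s).symm

variable [QuasiSeparated f]

/-- Two morphisms out of the sheaf of differentials agreeing on all `d s` are equal. -/
theorem hom_ext_d {F : X.Modules} {α β : Omega.sheaf f ⟶ F}
    (h : ∀ c : Chart f, ∀ s : Γ(X, c.U),
      α.app c.U ((OmegaSh.dOmega f).app c.U s) = β.app c.U ((OmegaSh.dOmega f).app c.U s)) :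
    α = β := by
  refine Groth.CohTwo.hom_ext_app fun W z ↦ Groth.CohTwo.eq_of_local F _ _ fun x hx ↦ ?_
  obtain ⟨c, hxc, hc⟩ := exists_chart f hx
  refine ⟨c.U, hc, hxc, ?_⟩
  change res F hc (α.app W z) = res F hc (β.app W z)
  rw [res_app, res_app]
  have hz : res (Omega.sheaf f) hc z ∈
      Submodule.span Γ(X, c.U) (Set.range ((OmegaSh.dOmega f).app c.U)) := by
    rw [span_d f c.hV c.hU c.e]; trivial
  generalize res (Omega.sheaf f) hc z = w at hz ⊢
  induction hz using Submodule.span_induction with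
  | mem w hw => obtain ⟨s, rfl⟩ := hw; exact h c s
  | zero => rw [map_zero, map_zero]
  | add a b _ _ ha hb => rw [map_add, map_add, ha, hb]
  | smul r a _ ha => rw [Scheme.Modules.Hom.app_smul, Scheme.Modules.Hom.app_smul, ha]

variable {f} {F : X.Modules} (D : OmegaSh.Der f F)

/-- The map induced by `D` on the sections over a chart. -/
noncomputable def chartMap (c : Chart f) : Γ(Omega.sheaf f, c.U) →ₗ[Γ(X, c.U)] Γ(F, c.U) :=
  letI := chartAlg f c.e
  chartLift f c.e D ∘ₗ (chartEquiv f c.e c.hV c.hU).symm.toLinearMap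

lemma chartMap_d (c : Chart f) (s : Γ(X, c.U)) :
    chartMap D c ((OmegaSh.dOmega f).app c.U s) = D.app c.U s := by
  let _ := chartAlg f c.e
  rw [chartMap, LinearMap.comp_apply, ← chartEquiv_D f c.e c.hV c.hU, LinearEquiv.coe_coe,
    LinearEquiv.symm_apply_apply, chartLift_D]

lemma chartMap_res (c c' : Chart f) (h : c'.U ≤ c.U) (z : Γ(Omega.sheaf f, c.U)) :
    res F h (chartMap D c z) = chartMap D c' (res (Omega.sheaf f) h z) := by
  have hz : z ∈ Submodule.span Γ(X, c.U) (Set.range ((OmegaSh.dOmega f).app c.U)) := by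
    rw [span_d f c.hV c.hU c.e]; trivial
  induction hz using Submodule.span_induction with
  | mem w hw =>
    obtain ⟨s, rfl⟩ := hw
    rw [chartMap_d, res_der, res_der, chartMap_d]
  | zero => simp only [map_zero]
  | add a b _ _ ha hb => simp only [map_add, ha, hb]
  | smul r a _ ha => rw [map_smul, res_smul, res_smul, map_smul, ha]

/-- Existence of the induced morphism. -/
theorem exists_hom : ∃ α : Omega.sheaf f ⟶ F,
    ∀ (c : Chart f) (z : Γ(Omega.sheaf f, c.U)), α.app c.U z = chartMap D c z := by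
  let R : ∀ W : X.Opens, Γ(Omega.sheaf f, W) → Γ(F, W) → Prop := fun W s t ↦
    ∀ (c : Chart f) (h : c.U ≤ W), chartMap D c (res _ h s) = res F h t
  obtain ⟨α, hα⟩ := Groth.CohTwo.exists_hom_of_local R
    (fun h s t hst c hc ↦ by
      change chartMap D c (res _ hc (res _ h s)) = res F hc (res F h t)
      rw [res_res, res_res]; exact hst c _)
    (fun W s t t' ht ht' ↦ Groth.CohTwo.eq_of_local F _ _ fun x hx ↦ by
      obtain ⟨c, hxc, hc⟩ := exists_chart f hx
      exact ⟨c.U, hc, hxc, (ht c hc).symm.trans (ht' c hc)⟩)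
    (fun W s t hloc c hc ↦ Groth.CohTwo.eq_of_local F _ _ fun x hx ↦ by
      obtain ⟨W', hW', hxW', hR⟩ := hloc x (hc hx)
      obtain ⟨c', hxc', hc'⟩ := exists_chart f (show x ∈ c.U ⊓ W' from ⟨hx, hxW'⟩)
      refine ⟨c'.U, hc'.trans inf_le_left, hxc', ?_⟩
      change res F _ (chartMap D c (res _ hc s)) = res F _ (res F hc t)
      rw [chartMap_res, res_res, res_res]
      have := hR c' (hc'.trans inf_le_right)
      change chartMap D c' (res _ _ (res _ hW' s)) = res F _ (res F hW' t) at this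
      rw [res_res, res_res] at this
      exact this)
    (fun W s x hx ↦ by
      obtain ⟨c, hxc, hc⟩ := exists_chart f hx
      refine ⟨c.U, hc, chartMap D c (res _ hc s), hxc, fun c' hc' ↦ ?_⟩
      exact (chartMap_res D c c' hc' _).symm)
    (fun W s s' t t' h h' c hc ↦ by rw [map_add, map_add, map_add, h c hc, h' c hc])
    (fun W r s t h c hc ↦ by rw [res_smul, res_smul, map_smul, h c hc])
  refine ⟨α, fun c z ↦ ?_⟩
  have := hα c.U z c le_rfl
  rw [Groth.QCohMod.res_self, Groth.QCohMod.res_self] at this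
  exact this.symm

variable (f) in
/-- **Universality**: `dOmega f` is a universal derivation for quasi-separated `f`. -/
theorem isUniversal_dOmega : OmegaSh.IsUniversal (OmegaSh.dOmega f) := by
  intro F D
  obtain ⟨α, hα⟩ := exists_hom D
  have hkey : ∀ (U : X.Opens) (s : Γ(X, U)), α.app U ((OmegaSh.dOmega f).app U s) = D.app U s :=
    fun U s ↦ Groth.CohTwo.eq_of_local F _ _ fun x hx ↦ by
      obtain ⟨c, hxc, hc⟩ := exists_chart f hx
      refine ⟨c.U, hc, hxc, ?_⟩
      change res F hc (α.app U _) = res F hc (D.app U s)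
      rw [res_app, res_der, res_der, hα, chartMap_d]
  refine ⟨α, ?_, fun β hβ ↦ hom_ext_d f fun c s ↦ ?_⟩
  · ext U s
    exact hkey U.unop s
  · rw [hkey]
    exact congr(($hβ).d (X := op c.U) s)

end Groth.OmegaSheaf
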