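import Groth.Agent.OmegaSheaf.Pull
import Groth.Agent.OmegaSheaf.Smooth
import Groth.Agent.LocFree.FP
import Mathlib.RingTheory.Etale.Kaehler
import Mathlib.RingTheory.Kaehler.Basic
import Mathlib.AlgebraicGeometry.Morphisms.Etale
import Mathlib.AlgebraicGeometry.Morphisms.FinitePresentation

/-!
# Differentials along étale squares; finiteness
-/

universe u

open CategoryTheory AlgebraicGeometry Opposite TopologicalSpace TensorProduct

namespace Groth.OmegaSheaf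

variable {X Y X' Y' : Scheme.{u}} {f : X ⟶ Y} {f' : X' ⟶ Y'} {h : X' ⟶ X} {g : Y' ⟶ Y}
  {Ω₁ : X.Modules} {d₁ : OmegaSh.Der f Ω₁} {Ω₂ : X'.Modules} {d₂ : OmegaSh.Der f' Ω₂}
  {c : (Scheme.Modules.pullback h).obj Ω₁ ⟶ Ω₂}

/-- `B' ⊗ Ω_{B/A} → Ω_{B'/A'}` is bijective for étale `A → A'` and `B → B'`. -/
theorem exists_kaehler_equiv (A A' B B' : Type u) [CommRing A] [CommRing A'] [CommRing B]
    [CommRing B'] [Algebra A A'] [Algebra A B] [Algebra A B'] [Algebra A' B'] [Algebra B B']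
    [IsScalarTower A A' B'] [IsScalarTower A B B'] [Algebra.FormallyUnramified A A']
    [Algebra.FormallyEtale B B'] :
    ∃ T : B' ⊗[B] Ω[B⁄A] ≃ₗ[B'] Ω[B'⁄A'], ∀ b s,
      T (b ⊗ₜ KaehlerDifferential.D A B s) =
        b • KaehlerDifferential.D A' B' (algebraMap B B' s) := by
  let e := KaehlerDifferential.tensorKaehlerEquivOfFormallyEtale A B B'
  let q := KaehlerDifferential.map A A' B' B'
  have hq : Function.Bijective q := by
    refine ⟨(injective_iff_map_eq_zero q).2 fun x hx => ?_,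
      KaehlerDifferential.map_surjective A A' B'⟩
    obtain ⟨y, rfl⟩ := (KaehlerDifferential.exact_mapBaseChange_map A A' B' x).1 hx
    rw [Subsingleton.elim y 0, map_zero]
  refine ⟨e.trans (LinearEquiv.ofBijective q hq), fun b s => ?_⟩
  simp [e, q, KaehlerDifferential.map_D]

/-- The comparison of differentials along a square with étale sides is an isomorphism. -/
theorem isIso_of_etale [Etale h] [Etale g] (w : h ≫ f = f' ≫ g)
    (hd₁ : OmegaSh.IsUniversal d₁) (hd₂ : OmegaSh.IsUniversal d₂)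
    (hc : OmegaSh.IsDiffCompat h d₁ d₂ c) : IsIso c := by
  have := isQCoh_of_isUniversal hd₁
  have := isQCoh_of_isUniversal hd₂
  refine isIso_of_affine_cover c fun x ↦ ?_
  obtain ⟨c₁, hxU, -⟩ := exists_chart f (W := ⊤) (Opens.mem_top (h x))
  have hxV : g (f' x) ∈ c₁.V := by
    rw [← Scheme.Hom.comp_apply, ← w, Scheme.Hom.comp_apply]
    exact c₁.e hxU
  obtain ⟨_, ⟨V' : Y'.Opens, hV', rfl⟩, hxV', hle⟩ :=
    Y'.isBasis_affineOpens.exists_subset_of_mem_open (show f' x ∈ g ⁻¹ᵁ c₁.V from hxV)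
      (g ⁻¹ᵁ c₁.V).2
  have hV'V : V' ≤ g ⁻¹ᵁ c₁.V := hle
  obtain ⟨_, ⟨P : X'.Opens, hP, rfl⟩, hxP, hPle⟩ :=
    X'.isBasis_affineOpens.exists_subset_of_mem_open
      (show x ∈ ((h ⁻¹ᵁ c₁.U ⊓ f' ⁻¹ᵁ V' : X'.Opens) : Set X') from ⟨hxU, hxV'⟩)
      (h ⁻¹ᵁ c₁.U ⊓ f' ⁻¹ᵁ V').2
  have hP' : P ≤ h ⁻¹ᵁ c₁.U ⊓ f' ⁻¹ᵁ V' := hPle
  let c₂ : Chart f' := ⟨P, V', hP, hV', hP'.trans inf_le_right⟩
  have e : c₂.U ≤ h ⁻¹ᵁ c₁.U := hP'.trans inf_le_left
  refine ⟨P, hP, hxP, ?_⟩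
  let _ := chartAlg f c₁.e
  let _ := chartAlg f' c₂.e
  let _ := Groth.QCohMod.sectionsAlg h e
  let _ : Algebra Γ(Y, c₁.V) Γ(Y', c₂.V) := (g.appLE c₁.V c₂.V hV'V).hom.toAlgebra
  let _ : Algebra Γ(Y, c₁.V) Γ(X', c₂.U) :=
    (g.appLE c₁.V c₂.V hV'V ≫ f'.appLE c₂.V c₂.U c₂.e).hom.toAlgebra
  have : IsScalarTower Γ(Y, c₁.V) Γ(Y', c₂.V) Γ(X', c₂.U) :=
    IsScalarTower.of_algebraMap_eq fun _ ↦ rfl
  have : IsScalarTower Γ(Y, c₁.V) Γ(X, c₁.U) Γ(X', c₂.U) := by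
    refine IsScalarTower.of_algebraMap_eq fun r ↦ ?_
    have e1 : g.appLE c₁.V c₂.V hV'V ≫ f'.appLE c₂.V c₂.U c₂.e =
        f.appLE c₁.V c₁.U c₁.e ≫ h.appLE c₁.U c₂.U e := by
      rw [Scheme.Hom.appLE_comp_appLE, Scheme.Hom.appLE_comp_appLE]
      simp only [w]
    exact congr($e1 r)
  have : Algebra.FormallyUnramified Γ(Y, c₁.V) Γ(Y', c₂.V) :=
    (g.etale_appLE c₁.hV hV' hV'V).formallyUnramified
  have : Algebra.FormallyEtale Γ(X, c₁.U) Γ(X', c₂.U) :=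
    (h.etale_appLE c₁.hU c₂.hU e).formallyEtale
  obtain ⟨E, hE, hcomp⟩ := exists_compat_chart hd₁ hc c₁ c₂ e
  obtain ⟨T, hT⟩ := exists_kaehler_equiv Γ(Y, c₁.V) Γ(Y', c₂.V) Γ(X, c₁.U) Γ(X', c₂.U)
  have hfun : (fun z ↦ c.app c₂.U (E z)) = fun z ↦ chartLift f' c₂.e d₂ (T z) :=
    funext (hcomp T.toLinearMap fun b s ↦ hT b s)
  have hb : Function.Bijective (fun z ↦ c.app c₂.U (E z)) := by
    rw [hfun]
    exact (chartLift_bijective_of_isUniversal hd₂ c₂).comp T.bijective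
  exact (Function.Bijective.of_comp_iff _ hE).mp hb

/-- `g^* Ω_{X/Y} ≅ Ω_{X'/Y'}` for a square with étale sides. -/
theorem nonempty_pullback_iso_of_etale [Etale h] [Etale g] (w : h ≫ f = f' ≫ g)
    (hd₁ : OmegaSh.IsUniversal d₁) (hd₂ : OmegaSh.IsUniversal d₂) :
    Nonempty ((Scheme.Modules.pullback h).obj Ω₁ ≅ Ω₂) := by
  obtain ⟨c, hc, -⟩ := existsUnique_isDiffCompat (d₂ := d₂) hd₁ w
  have := isIso_of_etale w hd₁ hd₂ hc
  exact ⟨asIso c⟩

/-- A receptacle of universal derivations is of finite type for `f` locally of finite type. -/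
theorem isFT_of_isUniversal [LocallyOfFiniteType f] (hd₁ : OmegaSh.IsUniversal d₁) :
    CohB1.IsFT Ω₁ := by
  have := isQCoh_of_isUniversal hd₁
  refine Groth.QCohMod.isFT_of_affine_cover _ fun x ↦ ?_
  obtain ⟨c, hxc, -⟩ := exists_chart f (x := x) (W := ⊤) trivial
  let _ := chartAlg f c.e
  have : Algebra.FiniteType Γ(Y, c.V) Γ(X, c.U) := f.finiteType_appLE c.hV c.hU c.e
  exact ⟨c.U, c.hU, hxc, Module.Finite.equiv (universalChartEquiv hd₁ c)⟩

/-- A receptacle of universal derivations is of finite presentation for `f` locally of finite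
presentation. -/
theorem isFP_of_isUniversal [LocallyOfFinitePresentation f] (hd₁ : OmegaSh.IsUniversal d₁) :
    CohB1.IsFP Ω₁ := by
  have := isQCoh_of_isUniversal hd₁
  refine Groth.LocFree.isFP_of_affine_cover _ fun x ↦ ?_
  obtain ⟨c, hxc, -⟩ := exists_chart f (x := x) (W := ⊤) trivial
  let _ := chartAlg f c.e
  have : Algebra.FinitePresentation Γ(Y, c.V) Γ(X, c.U) :=
    f.finitePresentation_appLE c.hV c.hU c.e
  exact ⟨c.U, c.hU, hxc, Module.FinitePresentation.of_equiv (universalChartEquiv hd₁ c)⟩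

end Groth.OmegaSheaf
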