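import Groth.Agent.OmegaSheaf.FibreRankCrit
import Groth.Agent.OmegaSheaf.Smooth
import Groth.Agent.Curves1.Node.NodalMax
import Groth.Agent.PropsBasic2.SmoothNhd
import Groth.Agent.FlatmorThree.FormalLift

/-!
# Differentials of smooth and formally smooth morphisms, for a universal derivation
-/

set_option autoImplicit false
set_option linter.style.haveILetI false

universe u

open CategoryTheory AlgebraicGeometry TopologicalSpace TensorProduct Opposite

namespace Groth.OmegaSheaf

variable {X Y : Scheme.{u}} {f : X ⟶ Y} {Ω' : X.Modules} {d : OmegaSh.Der f Ω'}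

/-- At a smooth point the differentials are free of rank the fibre dimension. -/
theorem exists_free_of_mem_smoothLocus [LocallyOfFinitePresentation f] (hd : OmegaSh.IsUniversal d)
    {x : X} (hx : x ∈ f.smoothLocus) :
    ∃ (U : X.Opens) (n : ℕ), x ∈ U ∧ Nonempty (Ω'.restrict U.ι ≅ FlatMod.freeMod (↑U) n) ∧
      FlatMor.fibreDimAt f x = (n : WithBot ℕ∞) := by
  obtain ⟨_, ⟨V, hV : IsAffineOpen V, rfl⟩, hxV, -⟩ :=
    Y.isBasis_affineOpens.exists_subset_of_mem_open (Set.mem_univ (f x)) isOpen_univ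
  rw [← Groth.Curves1.Node.exists_smooth_nhd_iff f x, Groth.PropsBasic2.smooth_nhd_iff f x V hV hxV] at hx
  obtain ⟨U, hU, hxU, e, h⟩ := hx
  let c : Chart f := ⟨U, V, hU, hV, e⟩
  letI := chartAlg f e
  have : Algebra.IsStandardSmooth Γ(Y, V) Γ(X, U) := h
  obtain ⟨_, _, _, _, ⟨P⟩⟩ := Algebra.IsStandardSmooth.out (R := Γ(Y, V)) (S := Γ(X, U))
  have hP : (f.appLE V U e).hom.IsStandardSmoothOfRelativeDimension P.dimension :=
    P.isStandardSmoothOfRelativeDimension rfl
  have hP' : Algebra.IsStandardSmoothOfRelativeDimension P.dimension Γ(Y, V) Γ(X, U) := hP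
  have := nontrivial_sections hxU
  have hrank : Module.finrank Γ(X, U) Ω[Γ(X, U)⁄Γ(Y, V)] = P.dimension :=
    Module.finrank_eq_of_rank_eq
      (Algebra.IsStandardSmoothOfRelativeDimension.rank_kaehlerDifferential P.dimension)
  haveI := isQCoh_of_isUniversal hd
  exact ⟨U, P.dimension, hxU,
    Groth.PropsBasic.LocFree.nonempty_iso_free_of_basis Ω' hU
      (((Module.finBasisOfFinrankEq _ _ hrank).map (universalChartEquiv hd c)).reindex Equiv.ulift.symm),
    Groth.Curves1.Node.fibreDimAt_of_standardSmooth f hV hU e hP hxU⟩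

/-- Formally smooth and locally of finite type gives finite locally free differentials. -/
theorem isFinLocFree_of_formallySmooth (hf : MoreMor.IsFormallySmoothHom f) [LocallyOfFiniteType f]
    (hd : OmegaSh.IsUniversal d) : FlatMod.IsFinLocFree Ω' := by
  intro x
  haveI := isQCoh_of_isUniversal hd
  obtain ⟨c, hxc, -⟩ := exists_chart f (W := ⊤) (Opens.mem_top x)
  letI := chartAlg f c.e
  haveI hFS : Algebra.FormallySmooth Γ(Y, c.V) Γ(X, c.U) :=
    (Groth.FlatmorThree.FormalLift.formallySmooth_appLE hf c.hU c.hV c.e)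
  haveI : Algebra.FiniteType Γ(Y, c.V) Γ(X, c.U) := f.finiteType_appLE c.hV c.hU c.e
  haveI : Module.Finite Γ(X, c.U) Γ(Ω', c.U) := Module.Finite.equiv (universalChartEquiv hd c)
  haveI : Module.Projective Γ(X, c.U) Γ(Ω', c.U) :=
    Module.Projective.of_equiv (universalChartEquiv hd c)
  haveI : Module.FinitePresentation Γ(X, c.U) Γ(Ω', c.U) :=
    Module.finitePresentation_of_projective _ _
  let p := (c.hU.primeIdealOf ⟨x, hxc⟩).asIdeal
  haveI : Module.Free (Localization.AtPrime p) (LocalizedModule p.primeCompl Γ(Ω', c.U)) :=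
    Module.free_of_flat_of_isLocalRing
  obtain ⟨r, hr, hfr, -⟩ := Module.FinitePresentation.exists_free_localizedModule_powers
    p.primeCompl (LocalizedModule.mkLinearMap p.primeCompl Γ(Ω', c.U)) (Localization.AtPrime p)
  exact Groth.PropsBasic.LocFree.exists_free_nhd_of_away Ω' c.hU r x
    ((Groth.QCohMod.mem_basicOpen_iff_notMem_primeIdealOf c.hU r x hxc).mpr hr) hfr

end Groth.OmegaSheaf
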