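import Groth.Agent.OmegaSheaf.Pull

/-!
# Conormal sheaves: the canonical maps between them
-/

universe u

open CategoryTheory Limits AlgebraicGeometry Opposite TopologicalSpace

namespace Groth.OmegaSheaf

open Groth.QCohMod (res res_res res_smul res_app res_self)
open Groth.PicAux (pullSec pullSec_smul)

variable {Z X : Scheme.{u}} (i : Z ⟶ X)

/-- A section of the ideal of `i` dies on `Z`. -/
lemma app_idealSect (W : X.Opens) (s : Γ(ClSub.idealMod i.ker, W)) :
    i.app W (OmegaSh.idealSect i.ker W s) = 0 := by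
  have key : ∀ q : Z ⟶ X, q = i.toImage ≫ i.ker.subschemeι →
      q.app W (OmegaSh.idealSect i.ker W s) = 0 := by
    rintro q rfl
    change i.toImage.app _ (i.ker.subschemeι.app W _) = 0
    exact (congrArg _ (subschemeι_app_idealSect i.ker W s)).trans (map_zero _)
  exact key i i.toImage_imageι.symm

lemma res_pullSect {h : Z ⟶ X} (M : X.Modules) {U V : X.Opens} (e : V ≤ U) (m : Γ(M, U)) :
    res _ (h.preimage_mono e) (OmegaSh.pullSect h M U m) = OmegaSh.pullSect h M V (res M e m) :=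
  Groth.PicAux.res_pullSec h M e m

lemma res_conormalSect {U V : X.Opens} (e : V ≤ U) (m : Γ(ClSub.idealMod i.ker, U)) :
    res (Omega.conormal i) (i.preimage_mono e) (OmegaSh.conormalSect i U m) =
      OmegaSh.conormalSect i V (res _ e m) :=
  res_pullSect _ e m

lemma conormalSect_smul {U : X.Opens} (r : Γ(X, U)) (m : Γ(ClSub.idealMod i.ker, U)) :
    OmegaSh.conormalSect i U (r • m) = i.app U r • OmegaSh.conormalSect i U m :=
  pullSec_smul i _ r m

variable [QuasiCompact i]

/-- A function killed by `i` is a section of the ideal of `i`. -/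
lemma subschemeι_app_eq_zero {W : X.Opens} {x : Γ(X, W)} (hx : i.app W x = 0) :
    i.ker.subschemeι.app W x = 0 := by
  let ι := i.ker.subschemeι
  refine i.ker.subscheme.sheaf.eq_of_locally_eq'
    (fun V : {V : X.affineOpens // (V : X.Opens) ≤ W} => ι ⁻¹ᵁ (V.1 : X.Opens))
    (ι ⁻¹ᵁ W) (fun V => (Opens.map ι.base).map (homOfLE V.2)) ?_ _ _ ?_
  · intro z hz
    obtain ⟨_, ⟨V, hV, rfl⟩, hzV, hVW⟩ :=
      X.isBasis_affineOpens.exists_subset_of_mem_open hz W.isOpen
    exact Opens.mem_iSup.mpr ⟨⟨⟨V, hV⟩, hVW⟩, hzV⟩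
  · intro V
    change i.ker.subscheme.presheaf.map ((Opens.map ι.base).map (homOfLE V.2)).op (ι.app W x) =
      i.ker.subscheme.presheaf.map ((Opens.map ι.base).map (homOfLE V.2)).op 0
    rw [map_zero, ← ConcreteCategory.comp_apply]
    erw [← Scheme.Hom.naturality ι (homOfLE V.2).op]
    rw [ConcreteCategory.comp_apply]
    have hmem : X.presheaf.map (homOfLE V.2).op x ∈ i.ker.ideal V.1 := by
      rw [Scheme.Hom.ker_apply, RingHom.mem_ker, ← CommRingCat.comp_apply,
        Scheme.Hom.naturality, CommRingCat.comp_apply, hx, map_zero]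
    rw [← Scheme.IdealSheafData.ker_subschemeι_app, RingHom.mem_ker] at hmem
    exact hmem

lemma exists_idealSect_of_app_eq_zero {W : X.Opens} {x : Γ(X, W)} (hx : i.app W x = 0) :
    ∃ k : Γ(ClSub.idealMod i.ker, W), OmegaSh.idealSect i.ker W k = x :=
  exists_idealSect_eq i.ker W x (subschemeι_app_eq_zero i hx)

variable {Z' X' : Scheme.{u}} (i' : Z' ⟶ X') (g : X ⟶ X') (gZ : Z ⟶ Z')

/-- The canonical map of conormal sheaves attached to a commutative square exists and is unique. -/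
theorem existsUnique_isConormalMap (hsq : gZ ≫ i' = i ≫ g) :
    ∃! φ : (Scheme.Modules.pullback gZ).obj (Omega.conormal i') ⟶ Omega.conormal i,
      OmegaSh.IsConormalMap i i' g gZ φ := by
  have hb : ∀ (U' : X'.Opens) (s' : Γ(ClSub.idealMod i'.ker, U')),
      ∃ s : Γ(ClSub.idealMod i.ker, g ⁻¹ᵁ U'), OmegaSh.idealSect i.ker (g ⁻¹ᵁ U') s =
        g.app U' (OmegaSh.idealSect i'.ker U' s') := by
    intro U' s'
    refine exists_idealSect_of_app_eq_zero i ?_
    have key : ∀ q : Z ⟶ X', q = gZ ≫ i' →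
        q.app U' (OmegaSh.idealSect i'.ker U' s') = 0 := by
      rintro q rfl
      change gZ.app _ (i'.app U' _) = 0
      exact (congrArg _ (app_idealSect i' U' s')).trans (map_zero _)
    exact key (i ≫ g) hsq.symm
  choose b hb using hb
  have buniq : ∀ (U' : X'.Opens) (s' : Γ(ClSub.idealMod i'.ker, U')) (s),
      OmegaSh.idealSect i.ker (g ⁻¹ᵁ U') s = g.app U' (OmegaSh.idealSect i'.ker U' s') →
        s = b U' s' :=
    fun U' s' s hs ↦ idealSect_injective _ _ (hs.trans (hb U' s').symm)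
  have hle : ∀ U' : X'.Opens, gZ ⁻¹ᵁ (i' ⁻¹ᵁ U') ≤ i ⁻¹ᵁ (g ⁻¹ᵁ U') := fun U' ↦ by
    rw [← Scheme.Hom.comp_preimage, hsq]; rfl
  have bres : ∀ {U V : X'.Opens} (h : V ≤ U) (s' : Γ(ClSub.idealMod i'.ker, U)),
      b V (res _ h s') = res _ (g.preimage_mono h) (b U s') := by
    intro U V h s'
    refine (buniq _ _ _ ?_).symm
    change OmegaSh.idealSect i.ker _ ((ClSub.idealMod i.ker).presheaf.map _ _) =
      g.app _ (OmegaSh.idealSect i'.ker _ ((ClSub.idealMod i'.ker).presheaf.map _ _))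
    rw [idealSect_res, idealSect_res, hb, ← CommRingCat.comp_apply, ← CommRingCat.comp_apply,
      Scheme.Hom.naturality]
    rfl
  have bsmul : ∀ (U : X'.Opens) (r : Γ(X', U)) (s' : Γ(ClSub.idealMod i'.ker, U)),
      b U (r • s') = g.app U r • b U s' := by
    intro U r s'
    refine (buniq _ _ _ ?_).symm
    rw [idealSect_smul, idealSect_smul, map_mul, hb]
  let N := Omega.conormal i
  let a : ∀ U' : X'.Opens, Γ(ClSub.idealMod i'.ker, U') →+ Γ(N, gZ ⁻¹ᵁ (i' ⁻¹ᵁ U')) := fun U' ↦
    AddMonoidHom.mk' (fun s' ↦ res N (hle U') (OmegaSh.conormalSect i _ (b U' s'))) fun x y ↦ by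
      rw [← map_add, ← map_add]
      congr 2
      refine (buniq _ _ _ ?_).symm
      rw [map_add, map_add, map_add, hb, hb]
  let T := (Scheme.Modules.pushforward i').obj ((Scheme.Modules.pushforward gZ).obj N)
  let χ₀ : (ClSub.idealMod i'.ker).val.presheaf ⟶ T.val.presheaf :=
    { app := fun W ↦ AddCommGrpCat.ofHom (a W.unop)
      naturality := fun W W' k ↦ by
        refine AddCommGrpCat.ext fun (s : Γ(ClSub.idealMod i'.ker, W.unop)) ↦ ?_
        have h : W'.unop ≤ W.unop := leOfHom k.unop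
        change a W'.unop (res _ h s) =
          res N ((Opens.map gZ.base).map ((Opens.map i'.base).map k.unop)).le (a W.unop s)
        change res N _ (OmegaSh.conormalSect i _ (b W'.unop (res _ h s))) =
          res N _ (res N _ (OmegaSh.conormalSect i _ (b W.unop s)))
        have hg : g ⁻¹ᵁ W'.unop ≤ g ⁻¹ᵁ W.unop := fun p hp ↦ h hp
        rw [bres h s]
        rw [← res_conormalSect i hg, res_res, res_res] }
  let χ : ClSub.idealMod i'.ker ⟶ T := ⟨PresheafOfModules.homMk χ₀ fun W (r : Γ(X', W.unop)) (s : Γ(ClSub.idealMod i'.ker, W.unop)) ↦ by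
    change a W.unop (r • s) = gZ.app _ (i'.app W.unop r) • a W.unop s
    change res N _ (OmegaSh.conormalSect i _ (b W.unop (r • s))) =
      gZ.app _ (i'.app W.unop r) • res N _ (OmegaSh.conormalSect i _ (b W.unop s))
    rw [bsmul]
    rw [conormalSect_smul, res_smul]
    congr 1
    have key : ∀ (q q' : Z ⟶ X'), q = q' → ∀ (U : Z.Opens) (h₁ : U ≤ q ⁻¹ᵁ W.unop)
        (h₂ : U ≤ q' ⁻¹ᵁ W.unop), q.appLE _ U h₁ r = q'.appLE _ U h₂ r := by
      rintro q _ rfl U h₁ h₂; rfl
    refine (key (i ≫ g) (gZ ≫ i') hsq.symm _ (hle W.unop) le_rfl).trans ?_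
    exact congr($((gZ ≫ i').app_eq_appLE (U := W.unop)).hom r).symm⟩
  let adj := Scheme.Modules.pullbackPushforwardAdjunction gZ
  let adj' := Scheme.Modules.pullbackPushforwardAdjunction i'
  let φ := (adj.homEquiv (Omega.conormal i') N).symm ((adj'.homEquiv _ _).symm χ)
  have hφ : ∀ (φ' : (Scheme.Modules.pullback gZ).obj (Omega.conormal i') ⟶ N) (U' : X'.Opens) (s'),
      ((adj'.homEquiv _ _) ((adj.homEquiv (Omega.conormal i') N) φ')).app U' s' =
        φ'.app (gZ ⁻¹ᵁ (i' ⁻¹ᵁ U')) (OmegaSh.pullSect gZ (Omega.conormal i') (i' ⁻¹ᵁ U')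
          (OmegaSh.conormalSect i' U' s')) := fun φ' U' s' ↦ by
    exact (homEquiv_pullback_app _ U' s').trans (homEquiv_pullback_app φ' _ _)
  have hφ0 : (adj'.homEquiv _ _) ((adj.homEquiv (Omega.conormal i') N) φ) = χ :=
    (congrArg _ (Equiv.apply_symm_apply _ _)).trans (Equiv.apply_symm_apply _ _)
  refine ⟨φ, ⟨hsq, fun U' s' s hs V h₁ h₂ ↦ ?_⟩, fun φ' hφ' ↦ ?_⟩
  · rw [← hφ φ U' s']
    refine Eq.trans (congrArg (fun ψ ↦ res N h₁ (ψ.app U' s')) hφ0) ?_
    change res N h₁ (res N _ (OmegaSh.conormalSect i _ (b U' s'))) = res N h₂ _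
    rw [res_res, buniq U' s' s hs]
  · apply (adj.homEquiv _ _).injective
    apply (adj'.homEquiv _ _).injective
    refine Eq.trans ?_ hφ0.symm
    refine Groth.CohTwo.hom_ext_app fun U' s' ↦ ?_
    have := hφ'.2 U' s' (b U' s') (hb U' s') _ le_rfl (hle U')
    change res N le_rfl _ = res N _ _ at this
    rw [res_self] at this
    exact (hφ φ' U' s').trans this

end Groth.OmegaSheaf
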