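import Groth.Agent.OmegaSheaf.ConormalSections
import Groth.Agent.OmegaSheaf.ExactLocal

/-!
# The map `C_{Z/X} → i^* Ω_{X/S}`
-/

universe u

open CategoryTheory Limits AlgebraicGeometry Opposite TopologicalSpace

namespace Groth.OmegaSheaf

open Groth.QCohMod (res res_res res_smul res_app res_self)
open Groth.PicAux (pullSec_smul)

variable {Z X Y : Scheme.{u}} {f : X ⟶ Y} {Ω : X.Modules} (i : Z ⟶ X) (d : OmegaSh.Der f Ω)

lemma pullSect_smul (M : X.Modules) (U : X.Opens) (r : Γ(X, U)) (m : Γ(M, U)) :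
    OmegaSh.pullSect i M U (r • m) = i.app U r • OmegaSh.pullSect i M U m :=
  pullSec_smul i M r m

/-- Pulled back differentials of sections of the ideal are linear. -/
lemma pullSect_der_smul (U : X.Opens) (r : Γ(X, U)) (s : Γ(ClSub.idealMod i.ker, U)) :
    OmegaSh.pullSect i Ω U (d.app U (OmegaSh.idealSect i.ker U (r • s))) =
      i.app U r • OmegaSh.pullSect i Ω U (d.app U (OmegaSh.idealSect i.ker U s)) := by
  rw [idealSect_smul, der_mul, map_add, pullSect_smul, pullSect_smul, app_idealSect, zero_smul,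
    add_zero]

/-- The canonical map `C_{Z/X} → i^*Ω_{X/S}` exists and is unique. -/
theorem existsUnique_isConormalDiff :
    ∃! φ : Omega.conormal i ⟶ (Scheme.Modules.pullback i).obj Ω,
      OmegaSh.IsConormalDiff i d φ := by
  let P := (Scheme.Modules.pullback i).obj Ω
  let a : ∀ U : X.Opens, Γ(ClSub.idealMod i.ker, U) →+ Γ(P, i ⁻¹ᵁ U) := fun U ↦
    (OmegaSh.pullSect i Ω U).hom.comp ((d.app U).comp (OmegaSh.idealSect i.ker U))
  let χ₀ : (ClSub.idealMod i.ker).val.presheaf ⟶
      ((Scheme.Modules.pushforward i).obj P).val.presheaf :=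
    { app := fun W ↦ AddCommGrpCat.ofHom (a W.unop)
      naturality := fun W W' k ↦ by
        refine AddCommGrpCat.ext fun (s : Γ(ClSub.idealMod i.ker, W.unop)) ↦ ?_
        have h : W'.unop ≤ W.unop := leOfHom k.unop
        change OmegaSh.pullSect i Ω W'.unop (d.app _ (OmegaSh.idealSect i.ker _ (res _ h s))) =
          res P (i.preimage_mono h) (OmegaSh.pullSect i Ω W.unop (d.app _ (OmegaSh.idealSect i.ker _ s)))
        rw [res_pullSect Ω h]
        congr 1
        rw [← der_res]
        congr 1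
        exact idealSect_res i.ker h s }
  let χ : ClSub.idealMod i.ker ⟶ (Scheme.Modules.pushforward i).obj P :=
    ⟨PresheafOfModules.homMk χ₀ fun W r s ↦ pullSect_der_smul i d W.unop r s⟩
  let adj := Scheme.Modules.pullbackPushforwardAdjunction i
  refine ⟨(adj.homEquiv _ P).symm χ, fun U s ↦ ?_, fun φ hφ ↦ ?_⟩
  · rw [OmegaSh.conormalSect_eq]
    refine (homEquiv_pullback_app _ U s).symm.trans ?_
    exact congrArg (fun ψ ↦ ψ.app U s) (Equiv.apply_symm_apply _ χ)
  · apply (adj.homEquiv _ P).injective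
    refine Eq.trans ?_ (Equiv.apply_symm_apply _ χ).symm
    exact Groth.CohTwo.hom_ext_app fun U s ↦ (homEquiv_pullback_app φ U s).trans (hφ U s)

lemma conormalDiff_res {φ : Omega.conormal i ⟶ (Scheme.Modules.pullback i).obj Ω}
    (hφ : OmegaSh.IsConormalDiff i d φ) (U : X.Opens) (k : Γ(ClSub.idealMod i.ker, U)) :
    φ.app (i ⁻¹ᵁ U) (OmegaSh.conormalSect i U k) =
      OmegaSh.pullSect i Ω U (d.app U (OmegaSh.idealSect i.ker U k)) :=
  hφ U k

end Groth.OmegaSheaf
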