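import Groth.Agent.OmegaSheaf.ConormalSplit
import Groth.Agent.OmegaSheaf.Pull
import Groth.Agent.OmegaSheaf.ConormalDiff
import Groth.Agent.OmegaSheaf.Conormal

/-!
# Conormal sheaf of a section: `C_{Z/X} ≅ i^* Ω_{X/Z}`
-/

universe u

open CategoryTheory Limits AlgebraicGeometry Opposite TopologicalSpace

namespace Groth.OmegaSheaf

variable {Z X : Scheme.{u}}

/-- A universal derivation of a morphism which is the identity lands in the zero module. -/
theorem isZero_of_isUniversal_eq_id {q : Z ⟶ Z} (hq : q = 𝟙 Z) {Ω : Z.Modules}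
    {d : OmegaSh.Der q Ω} (hd : OmegaSh.IsUniversal d) : IsZero Ω := by
  rw [IsZero.iff_id_eq_zero]
  refine hom_ext_of_isUniversal hd fun U x ↦ ?_
  have h0 : d.app ((𝟙 Z : Z ⟶ Z) ⁻¹ᵁ U) ((𝟙 Z : Z ⟶ Z).app U x) = 0 :=
    der_app_of_eq d hq.symm U x
  change d.app U x = 0
  exact h0

/-- The conormal sheaf of a section `i` of `f` is `i^*Ω_{X/Z}`. -/
theorem nonempty_conormal_iso_of_section (f : X ⟶ Z) [QuasiSeparated f] (i : Z ⟶ X)
    (hi : i ≫ f = 𝟙 Z) :
    Nonempty (Omega.conormal i ≅ (Scheme.Modules.pullback i).obj (Omega.sheaf f)) := by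
  have : IsImmersion (i ≫ f) := by rw [hi]; infer_instance
  have : QuasiCompact (i ≫ f) := by rw [hi]; infer_instance
  have : QuasiSeparated (i ≫ f) := by rw [hi]; infer_instance
  have : IsImmersion i := IsImmersion.of_comp i f
  have : QuasiCompact i := QuasiCompact.of_comp i f
  have hX := isUniversal_dOmega f
  have hZ := isUniversal_dOmega (i ≫ f)
  obtain ⟨φ, hφ, -⟩ := existsUnique_isConormalDiff (i := i) (d := OmegaSh.dOmega f)
  obtain ⟨c, hc, -⟩ := existsUnique_isDiffCompat (h := i) (g := 𝟙 Z) (d₂ := OmegaSh.dOmega (i ≫ f))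
    hX (Category.comp_id _).symm
  have hex := conormalDiff_exact hX hZ hφ hc (conormalDiff_comp_eq_zero hφ hc)
  obtain ⟨r, hr⟩ := exists_retraction_conormal hi (by rw [hi, Category.comp_id]) hX hφ
  have hepi : Epi φ := hex.epi_f ((isZero_of_isUniversal_eq_id hi hZ).eq_of_tgt _ _)
  have : IsSplitMono φ := ⟨⟨⟨r, hr⟩⟩⟩
  have : IsIso φ := isIso_of_epi_of_isSplitMono φ
  exact ⟨asIso φ⟩

end Groth.OmegaSheaf
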