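import Groth.Agent.OmegaSheaf.PullChart
import Groth.Agent.OmegaSheaf.ExactLocal
import Groth.Agent.QCohMod.Category
import Groth.Agent.QCohMod.Generators
import Mathlib.RingTheory.Kaehler.TensorProduct

/-!
# Differentials of a fibre product
-/

set_option autoImplicit false
set_option linter.style.haveILetI false

universe u

open CategoryTheory CategoryTheory.Limits AlgebraicGeometry TopologicalSpace TensorProduct Opposite

namespace Groth.OmegaSheaf

section Algebra

variable (R A A' B : Type u) [CommRing R] [CommRing A] [CommRing A'] [CommRing B]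
  [Algebra R A] [Algebra R A'] [Algebra R B] [Algebra A B] [Algebra A' B]
  [IsScalarTower R A B] [IsScalarTower R A' B]

lemma map_mapBaseChange_eq_tensorKaehlerEquiv [Algebra.IsPushout R A' A B] (z : B ⊗[A] Ω[A⁄R]) :
    KaehlerDifferential.map R A' B B (KaehlerDifferential.mapBaseChange R A B z) =
      KaehlerDifferential.tensorKaehlerEquiv R A' A B z := by
  refine tensor_kaehler_ext
    ((KaehlerDifferential.map R A' B B).toAddMonoidHom.comp
      (KaehlerDifferential.mapBaseChange R A B).toAddMonoidHom)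
    (KaehlerDifferential.tensorKaehlerEquiv R A' A B).toAddEquiv.toAddMonoidHom (fun b s => ?_) z
  change KaehlerDifferential.map R A' B B (KaehlerDifferential.mapBaseChange R A B _) =
    KaehlerDifferential.tensorKaehlerEquiv R A' A B _
  rw [KaehlerDifferential.mapBaseChange_tmul, map_smul, KaehlerDifferential.map_D,
    KaehlerDifferential.map_D, KaehlerDifferential.tensorKaehlerEquiv_tmul_D]
  rfl

/-- The differentials of a tensor product are the sum of those of the factors. -/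
theorem bijective_mapBaseChange_add [Algebra.IsPushout R A' A B] :
    Function.Bijective fun z : (B ⊗[A] Ω[A⁄R]) × (B ⊗[A'] Ω[A'⁄R]) =>
      KaehlerDifferential.mapBaseChange R A B z.1 + KaehlerDifferential.mapBaseChange R A' B z.2 := by
  haveI : Algebra.IsPushout R A A' B := Algebra.IsPushout.symm inferInstance
  let e := KaehlerDifferential.tensorKaehlerEquiv R A' A B
  let e' := KaehlerDifferential.tensorKaehlerEquiv R A A' B
  let Φ := KaehlerDifferential.mapBaseChange R A B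
  let Φ' := KaehlerDifferential.mapBaseChange R A' B
  have h2 : ∀ b, KaehlerDifferential.map R A' B B (Φ' b) = 0 := fun b =>
    (KaehlerDifferential.exact_mapBaseChange_map R A' B).apply_apply_eq_zero b
  refine ⟨fun z w hzw => ?_, fun y => ?_⟩
  · change Φ z.1 + Φ' z.2 = Φ w.1 + Φ' w.2 at hzw
    have ha : z.1 = w.1 := by
      have h := congrArg (KaehlerDifferential.map R A' B B) hzw
      rw [map_add, map_add, h2, h2, add_zero, add_zero, map_mapBaseChange_eq_tensorKaehlerEquiv,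
        map_mapBaseChange_eq_tensorKaehlerEquiv] at h
      exact e.injective h
    rw [ha, add_right_inj] at hzw
    have h := congrArg (KaehlerDifferential.map R A B B) hzw
    rw [map_mapBaseChange_eq_tensorKaehlerEquiv, map_mapBaseChange_eq_tensorKaehlerEquiv] at h
    exact Prod.ext ha (e'.injective h)
  · let a := e.symm (KaehlerDifferential.map R A' B B y)
    have ha : KaehlerDifferential.map R A' B B (Φ a) = KaehlerDifferential.map R A' B B y := by
      rw [map_mapBaseChange_eq_tensorKaehlerEquiv]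
      exact e.apply_symm_apply _
    obtain ⟨b, hb⟩ := (KaehlerDifferential.exact_mapBaseChange_map R A' B (y - Φ a)).mp
      (by rw [map_sub, ha, sub_self])
    exact ⟨(a, b), by change Φ a + Φ' b = y; rw [show Φ' b = y - Φ a from hb]; abel⟩

end Algebra

variable {X Y S Z : Scheme.{u}} {a : X ⟶ S} {b : Y ⟶ S} {p : Z ⟶ X} {q : Z ⟶ Y} {h : Z ⟶ S}
  {ΩX : X.Modules} {dX : OmegaSh.Der a ΩX} {ΩY : Y.Modules} {dY : OmegaSh.Der b ΩY}
  {ΩZ : Z.Modules} {dZ : OmegaSh.Der h ΩZ}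
  {c₁ : (Scheme.Modules.pullback p).obj ΩX ⟶ ΩZ} {c₂ : (Scheme.Modules.pullback q).obj ΩY ⟶ ΩZ}

/-- The differentials of a fibre product are the coproduct of those of the factors. -/
theorem isIso_coprod_desc (wp : p ≫ a = h) (wq : q ≫ b = h) (hZ : IsPullback p q a b)
    (hX : OmegaSh.IsUniversal dX) (hY : OmegaSh.IsUniversal dY) (hZu : OmegaSh.IsUniversal dZ)
    (hc₁ : OmegaSh.IsDiffCompat p dX dZ c₁) (hc₂ : OmegaSh.IsDiffCompat q dY dZ c₂) :
    IsIso (coprod.desc c₁ c₂) := by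
  haveI := isQCoh_of_isUniversal hX
  haveI := isQCoh_of_isUniversal hY
  haveI := isQCoh_of_isUniversal hZu
  let M := (Scheme.Modules.pullback p).obj ΩX
  let N := (Scheme.Modules.pullback q).obj ΩY
  suffices IsIso (biprod.desc c₁ c₂ : M ⊞ N ⟶ ΩZ) by
    have he : coprod.desc c₁ c₂ = (biprod.isoCoprod M N).inv ≫ biprod.desc c₁ c₂ := by
      apply coprod.hom_ext <;> simp [M, N]
    rw [he]
    infer_instance
  refine isIso_of_affine_cover _ fun z => ?_
  obtain ⟨c, hxU, -⟩ := exists_chart a (W := ⊤) (Opens.mem_top (p z))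
  have hxV : b (q z) ∈ c.V := by
    rw [← Scheme.Hom.comp_apply, ← hZ.w, Scheme.Hom.comp_apply]
    exact c.e hxU
  obtain ⟨_, ⟨W : Y.Opens, hW, rfl⟩, hxW, hle⟩ :=
    Y.isBasis_affineOpens.exists_subset_of_mem_open (show q z ∈ b ⁻¹ᵁ c.V from hxV) (b ⁻¹ᵁ c.V).2
  have hle' : W ≤ b ⁻¹ᵁ c.V := hle
  let c' : Chart b := ⟨W, c.V, hW, c.hV, hle'⟩
  let P : Z.Opens := p ⁻¹ᵁ c.U ⊓ q ⁻¹ᵁ W
  have hP : IsAffineOpen P :=
    have : IsAffine c.U := c.hU
    have : IsAffine c.V := c.hV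
    have : IsAffine W := hW
    .of_isIso (Scheme.Hom.isPullback_resLE hZ hle' c.e (UY := P) rfl).isoPullback.hom
  have eX : P ≤ p ⁻¹ᵁ c.U := inf_le_left
  have eY : P ≤ q ⁻¹ᵁ W := inf_le_right
  have e' : P ≤ h ⁻¹ᵁ c.V := by
    rw [← wp]; exact eX.trans (p.preimage_mono c.e)
  refine ⟨P, hP, ⟨hxU, hxW⟩, ?_⟩
  let _ := chartAlg a c.e
  let _ := chartAlg b hle'
  let _ := chartAlg h e'
  let _ := Groth.QCohMod.sectionsAlg p eX
  let _ : Algebra Γ(Y, W) Γ(Z, P) := Groth.QCohMod.sectionsAlg q eY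
  have e1 : a.appLE c.V c.U c.e ≫ p.appLE c.U P eX = h.appLE c.V P e' := by
    rw [Scheme.Hom.appLE_comp_appLE]; simp only [wp]
  have e2 : b.appLE c.V W hle' ≫ q.appLE W P eY = h.appLE c.V P e' := by
    rw [Scheme.Hom.appLE_comp_appLE]; simp only [wq]
  have : IsScalarTower Γ(S, c.V) Γ(X, c.U) Γ(Z, P) :=
    IsScalarTower.of_algebraMap_eq fun r => congr($(e1.symm) r)
  have : IsScalarTower Γ(S, c.V) Γ(Y, W) Γ(Z, P) :=
    IsScalarTower.of_algebraMap_eq fun r => congr($(e2.symm) r)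
  have hpo := ((isIso_pushoutSection_iff (H := hZ) hle' c.e rfl).mp
    (isIso_pushoutSection_of_isAffineOpen hZ hle' c.e rfl c.hV hW c.hU)).flip
  have : Algebra.IsPushout Γ(S, c.V) Γ(Y, W) Γ(X, c.U) Γ(Z, P) :=
    CommRingCat.isPushout_iff_isPushout.mp hpo
  let Φ := KaehlerDifferential.mapBaseChange Γ(S, c.V) Γ(X, c.U) Γ(Z, P)
  let Φ' := KaehlerDifferential.mapBaseChange Γ(S, c.V) Γ(Y, W) Γ(Z, P)
  let E := pullChartEquiv hX p c hP eX
  let E' := pullChartEquiv hY q c' hP eY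
  let L := chartLift h e' dZ
  have hL : Function.Bijective L := chartLift_bijective_of_isUniversal hZu ⟨P, c.V, hP, c.hV, e'⟩
  have h1 : ∀ z, c₁.app P (E z) = L (Φ z) := app_pullChartEquiv hX p c hP eX hc₁ e' Φ fun b s => by
    rw [KaehlerDifferential.mapBaseChange_tmul, KaehlerDifferential.map_D]; rfl
  have h2 : ∀ z, c₂.app P (E' z) = L (Φ' z) := app_pullChartEquiv hY q c' hP eY hc₂ e' Φ' fun b s => by
    rw [KaehlerDifferential.mapBaseChange_tmul, KaehlerDifferential.map_D]; rfl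
  have hdesc : ∀ m : Γ(M ⊞ N, P), (biprod.desc c₁ c₂ : M ⊞ N ⟶ ΩZ).app P m =
      c₁.app P ((biprod.fst : M ⊞ N ⟶ M).app P m) + c₂.app P ((biprod.snd : M ⊞ N ⟶ N).app P m) := by
    intro m
    have : (biprod.desc c₁ c₂ : M ⊞ N ⟶ ΩZ) = biprod.fst ≫ c₁ + biprod.snd ≫ c₂ := biprod.desc_eq
    rw [this]
    rfl
  have hb := bijective_mapBaseChange_add Γ(S, c.V) Γ(X, c.U) Γ(Y, W) Γ(Z, P)
  refine ⟨fun m m' hm => ?_, fun y => ?_⟩
  · rw [hdesc, hdesc] at hm
    obtain ⟨u, hu⟩ := E.surjective ((biprod.fst : M ⊞ N ⟶ M).app P m)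
    obtain ⟨v, hv⟩ := E'.surjective ((biprod.snd : M ⊞ N ⟶ N).app P m)
    obtain ⟨u', hu'⟩ := E.surjective ((biprod.fst : M ⊞ N ⟶ M).app P m')
    obtain ⟨v', hv'⟩ := E'.surjective ((biprod.snd : M ⊞ N ⟶ N).app P m')
    rw [← hu, ← hv, ← hu', ← hv', h1, h2, h1, h2, ← map_add, ← map_add] at hm
    have huv := hb.1 (a₁ := (u, v)) (a₂ := (u', v')) (hL.1 hm)
    obtain ⟨rfl, rfl⟩ := Prod.ext_iff.mp huv
    rw [← Groth.QCohMod.app_sum_inl_inr M N P m, ← Groth.QCohMod.app_sum_inl_inr M N P m',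
      ← hu, ← hv, ← hu', ← hv']
  · obtain ⟨t, rfl⟩ := hL.2 y
    obtain ⟨⟨u, v⟩, rfl⟩ := hb.2 t
    refine ⟨(biprod.inl : M ⟶ M ⊞ N).app P (E u) + (biprod.inr : N ⟶ M ⊞ N).app P (E' v), ?_⟩
    rw [map_add, map_add, ← h1, ← h2]
    congr 1
    · exact congr($(congrArg (fun φ : M ⟶ ΩZ => φ.app P) (biprod.inl_desc c₁ c₂)) (E u))
    · exact congr($(congrArg (fun φ : N ⟶ ΩZ => φ.app P) (biprod.inr_desc c₁ c₂)) (E' v))

end Groth.OmegaSheaf
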