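import Groth.Agent.OmegaSheaf.Affine

/-!
# Arbitrary receptacles of universal derivations
-/

universe u

open CategoryTheory Limits AlgebraicGeometry Opposite TopologicalSpace

namespace Groth.OmegaSheaf

open Groth.QCohMod (res res_res res_smul res_app)

variable {X Y : Scheme.{u}} {f : X ⟶ Y}

lemma der_res {M : X.Modules} (D : OmegaSh.Der f M) {U U' : X.Opens} (h : U' ≤ U) (s : Γ(X, U)) :
    D.app U' (X.presheaf.map (homOfLE h).op s) = res M h (D.app U s) :=
  D.d_map (homOfLE h).op s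

/-- A derivation kills functions coming from the base, on any open. -/
lemma der_appLE {M : X.Modules} (D : OmegaSh.Der f M) {U : X.Opens} {V : Y.Opens}
    (e : U ≤ f ⁻¹ᵁ V) (r : Γ(Y, V)) : D.app U (f.appLE V U e r) = 0 := by
  have h1 : D.app (f ⁻¹ᵁ V) (f.app V r) = 0 := D.d_app (X := op V) r
  change D.app U (X.presheaf.map (homOfLE e).op (f.app V r)) = 0
  rw [der_res, h1, map_zero]

lemma der_app_of_eq {M : X.Modules} (D : OmegaSh.Der f M) {q : X ⟶ Y} (hq : q = f) (V : Y.Opens)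
    (r : Γ(Y, V)) : D.app (q ⁻¹ᵁ V) (q.app V r) = 0 := by
  subst hq; exact D.d_app (X := op V) r

lemma der_mul {M : X.Modules} (D : OmegaSh.Der f M) (U : X.Opens) (a b : Γ(X, U)) :
    D.app U (a * b) = a • D.app U b + b • D.app U a :=
  D.d_mul a b

variable {X' Y' : Scheme.{u}} {f' : X' ⟶ Y'}

/-- A derivation on `X'` gives a derivation of `X` into the direct image. -/
noncomputable def pushDer {h : X' ⟶ X} {g : Y' ⟶ Y} (w : h ≫ f = f' ≫ g) {M : X'.Modules}
    (D : OmegaSh.Der f' M) : OmegaSh.Der f ((Scheme.Modules.pushforward h).obj M) where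
  d {U} := (D.app (h ⁻¹ᵁ U.unop)).comp (h.app U.unop).hom.toAddMonoidHom
  d_mul {U} a b := by
    change D.app (h ⁻¹ᵁ U.unop) (h.app U.unop (a * b)) =
      (h.app U.unop a • D.app (h ⁻¹ᵁ U.unop) (h.app U.unop b) +
        h.app U.unop b • D.app (h ⁻¹ᵁ U.unop) (h.app U.unop a) : Γ(M, h ⁻¹ᵁ U.unop))
    rw [map_mul, der_mul]
  d_map {U U'} i s := by
    change D.app (h ⁻¹ᵁ U'.unop) (h.app U'.unop (X.presheaf.map i s)) =
      M.presheaf.map ((Opens.map h.base).map i.unop).op (D.app (h ⁻¹ᵁ U.unop) (h.app U.unop s))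
    rw [← CommRingCat.comp_apply, h.naturality i, CommRingCat.comp_apply]
    exact D.d_map _ _
  d_app {V} r := by
    change D.app (h ⁻¹ᵁ (f ⁻¹ᵁ V.unop)) (h.app (f ⁻¹ᵁ V.unop) (f.app V.unop r)) = 0
    have h0 : ∀ (q : X' ⟶ Y'), q = f' → ∀ r', D.app (q ⁻¹ᵁ (g ⁻¹ᵁ V.unop))
        (q.app (g ⁻¹ᵁ V.unop) r') = 0 := fun q hq r' ↦ der_app_of_eq D hq _ r'
    have key : ∀ (q : X' ⟶ Y), q = f' ≫ g → D.app (q ⁻¹ᵁ V.unop) (q.app V.unop r) = 0 := by
      rintro _ rfl
      exact h0 f' rfl (g.app V.unop r)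
    exact key _ w

lemma pushDer_app {h : X' ⟶ X} {g : Y' ⟶ Y} (w : h ≫ f = f' ≫ g) {M : X'.Modules}
    (D : OmegaSh.Der f' M) (U : X.Opens) (s : Γ(X, U)) :
    (pushDer w D).app U s = D.app (h ⁻¹ᵁ U) (h.app U s) :=
  rfl

lemma postcomp_app {M N : X.Modules} (D : OmegaSh.Der f M) (α : M ⟶ N) (U : X.Opens) (s : Γ(X, U)) :
    OmegaSh.Der.app (D.postcomp α.val) U s = α.app U (D.app U s) :=
  rfl

lemma der_ext {M : X.Modules} {D D' : OmegaSh.Der f M}
    (h : ∀ (U : X.Opens) (s : Γ(X, U)), D.app U s = D'.app U s) : D = D' := by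
  ext U s
  exact h U.unop s

variable {Ω : X.Modules} {d : OmegaSh.Der f Ω} (hd : OmegaSh.IsUniversal d)

include hd in
lemma exists_hom_of_isUniversal {F : X.Modules} (D : OmegaSh.Der f F) :
    ∃ α : Ω ⟶ F, ∀ U s, α.app U (d.app U s) = D.app U s := by
  obtain ⟨α, hα, -⟩ := hd F D
  exact ⟨α, fun U s ↦ by rw [← postcomp_app, hα]⟩

include hd in
lemma hom_ext_of_isUniversal {F : X.Modules} {α β : Ω ⟶ F}
    (h : ∀ U s, α.app U (d.app U s) = β.app U (d.app U s)) : α = β :=
  (hd F (d.postcomp β.val)).unique (der_ext fun U s ↦ by simp only [postcomp_app]; exact h U s) rfl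

section Restrict

variable (U : X.Opens)

/-- The restriction of a derivation to an open subscheme. -/
noncomputable def restrictDer {M : X.Modules} (D : OmegaSh.Der f M) :
    OmegaSh.Der (U.ι ≫ f) (M.restrict U.ι) where
  d {T} := D.app (U.ι ''ᵁ T.unop)
  d_mul {T} a b := by
    change D.app (U.ι ''ᵁ T.unop) (a * b) =
      ((U.ι.appIso T.unop).inv a • D.app (U.ι ''ᵁ T.unop) b +
        (U.ι.appIso T.unop).inv b • D.app (U.ι ''ᵁ T.unop) a : Γ(M, U.ι ''ᵁ T.unop))
    rw [Scheme.Opens.ι_appIso]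
    exact der_mul D _ _ _
  d_map {T T'} i s := D.d_map (U.ι.opensFunctor.map i.unop).op s
  d_app {V} r := by
    change D.app (U.ι ''ᵁ (U.ι ⁻¹ᵁ (f ⁻¹ᵁ V.unop))) (U.ι.app (f ⁻¹ᵁ V.unop) (f.app V.unop r)) = 0
    rw [Scheme.Opens.ι_app]
    have h0 : D.app (f ⁻¹ᵁ V.unop) (f.app V.unop r) = 0 := D.d_app (X := V) r
    exact (der_res D (U.ι.image_preimage_le _) _).trans ((congrArg _ h0).trans (map_zero _))

lemma restrictDer_app {M : X.Modules} (D : OmegaSh.Der f M) (T : U.toScheme.Opens)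
    (s : Γ(U, T)) : (restrictDer U D).app T s = D.app (U.ι ''ᵁ T) s :=
  rfl

include hd in
/-- Universality restricts to open subschemes. -/
theorem isUniversal_restrictDer : OmegaSh.IsUniversal (restrictDer U d) := by
  intro F D
  let adj := Scheme.Modules.restrictAdjunction U.ι
  have w : U.ι ≫ f = (U.ι ≫ f) ≫ 𝟙 Y := (Category.comp_id _).symm
  obtain ⟨α, hα⟩ := exists_hom_of_isUniversal hd (pushDer w D)
  refine ⟨(adj.homEquiv Ω F).symm α, ?_, fun β hβ ↦ ?_⟩
  · refine der_ext fun T s ↦ ?_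
    rw [postcomp_app, restrictDer_app, Adjunction.homEquiv_counit]
    refine (congrArg ((adj.counit.app F).app T) (hα (U.ι ''ᵁ T) s)).trans ?_
    change ((adj.counit.app F).app T) (D.app (U.ι ⁻¹ᵁ U.ι ''ᵁ T) (U.ι.app (U.ι ''ᵁ T) s)) = _
    simp only [adj, Scheme.Modules.restrictAdjunction_counit_app_app]
    rw [show (eqToHom (U.ι.preimage_image_eq T).symm).op =
      (homOfLE (U.ι.preimage_image_eq T).ge).op from rfl]
    refine (der_res D (U.ι.preimage_image_eq T).ge _).symm.trans ?_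
    congr 1
    have hid : (U.ι.app (U.ι ''ᵁ T) ≫ U.toScheme.presheaf.map
        (homOfLE (U.ι.preimage_image_eq T).ge).op : Γ(X, U.ι ''ᵁ T) ⟶ Γ(X, U.ι ''ᵁ T)) = 𝟙 _ := by
      rw [Scheme.Opens.ι_app, Scheme.Opens.toScheme_presheaf_map]
      erw [← X.presheaf.map_comp]
      exact X.presheaf.map_id _
    exact ConcreteCategory.congr_hom hid s
  · apply (adj.homEquiv Ω F).injective
    rw [Equiv.apply_symm_apply]
    refine hom_ext_of_isUniversal hd fun W s ↦ ?_
    rw [hα, pushDer_app, Adjunction.homEquiv_unit]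
    change β.app (U.ι ⁻¹ᵁ W) ((adj.unit.app Ω).app W (d.app W s)) = _
    simp only [adj, Scheme.Modules.restrictAdjunction_unit_app_app]
    change β.app (U.ι ⁻¹ᵁ W) (res Ω (U.ι.image_preimage_le W) (d.app W s)) = _
    rw [← der_res, ← hβ, postcomp_app, restrictDer_app, Scheme.Opens.ι_app]
    rfl

end Restrict

include hd in
/-- On every chart, a universal derivation is the universal derivation of the rings. -/
theorem chartLift_bijective_of_isUniversal (c : Chart f) :
    letI := chartAlg f c.e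
    Function.Bijective (chartLift f c.e d) := by
  have key : ∀ (T : c.U.toScheme.Opens) (_ : IsAffineOpen T) (U' : X.Opens) (_ : c.U.ι ''ᵁ T = U')
      (e : U' ≤ f ⁻¹ᵁ c.V), letI := chartAlg f e
      Function.Bijective (chartLift f e d) := by
    rintro T hT _ rfl e
    let q := c.U.ι ≫ f
    have : QuasiSeparated q := by
      have : IsAffine c.U := c.hU
      have : IsAffine c.V := c.hV
      rw [show q = f.resLE c.V c.U c.e ≫ c.V.ι by simp [q]]
      infer_instance
    obtain ⟨θ, hθ⟩ := exists_hom_of_isUniversal (isUniversal_dOmega q) (restrictDer c.U d)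
    obtain ⟨θ', hθ'⟩ := exists_hom_of_isUniversal (isUniversal_restrictDer hd c.U)
      (OmegaSh.dOmega q)
    have h1 : θ ≫ θ' = 𝟙 _ := hom_ext_of_isUniversal (isUniversal_dOmega q) fun W s ↦ by
      change θ'.app W (θ.app W _) = _
      rw [hθ, hθ']; rfl
    have h2 : θ' ≫ θ = 𝟙 _ := hom_ext_of_isUniversal (isUniversal_restrictDer hd c.U) fun W s ↦ by
      change θ.app W (θ'.app W _) = _
      rw [hθ', hθ]; rfl
    have : IsIso θ := ⟨θ', h1, h2⟩
    have eT : T ≤ q ⁻¹ᵁ c.V := fun p hp ↦ e ⟨p, hp, rfl⟩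
    let a1 : Algebra Γ(Y, c.V) Γ(X, c.U.ι ''ᵁ T) := chartAlg f e
    let a2 : Algebra Γ(Y, c.V) Γ(c.U, T) := chartAlg q eT
    obtain ⟨g, hg, hgs, hgD⟩ := @exists_kaehlerEquiv Γ(Y, c.V) Γ(X, c.U.ι ''ᵁ T)
      Γ(Y, c.V) Γ(c.U, T) _ _ _ _ a1 a2 (RingEquiv.refl _) (RingEquiv.refl _) fun r ↦ by
        change f.appLE c.V (c.U.ι ''ᵁ T) e r = q.appLE c.V T eT r
        rw [Scheme.Hom.appLE, Scheme.Hom.appLE, Scheme.Hom.comp_app, Scheme.Opens.ι_app,
          Scheme.Opens.toScheme_presheaf_map]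
        erw [Category.assoc, ← X.presheaf.map_comp]
        rfl
    let E := chartEquiv q eT c.hV hT
    have hfun : ∀ x, chartLift f e d x = θ.app T (E (g x)) := by
      intro x
      have hx : x ∈ Submodule.span Γ(X, c.U.ι ''ᵁ T)
          (Set.range (KaehlerDifferential.D Γ(Y, c.V) Γ(X, c.U.ι ''ᵁ T))) := by
        rw [KaehlerDifferential.span_range_derivation]; trivial
      induction hx using Submodule.span_induction with
      | mem x hx =>
        obtain ⟨s, rfl⟩ := hx
        rw [chartLift_D, hgD, chartEquiv_D, hθ]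
        rfl
      | zero => rw [map_zero, map_zero, map_zero]; exact (map_zero (θ.app T).hom).symm
      | add a b _ _ ha hb =>
        rw [map_add, ha, hb, map_add, map_add]; exact (map_add (θ.app T).hom _ _).symm
      | smul r a _ ha =>
        rw [map_smul, ha, hgs, map_smul, Scheme.Modules.Hom.app_smul]
        have hsm : ∀ (r : Γ(X, c.U.ι ''ᵁ T)) (y : Γ(Ω, c.U.ι ''ᵁ T)),
            HSMul.hSMul (α := Γ(c.U, T)) (β := Γ(Ω.restrict c.U.ι, T)) r y = r • y := fun r y ↦ by
          change (c.U.ι.appIso T).inv r • y = r • y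
          rw [Scheme.Opens.ι_appIso]
          rfl
        exact (hsm r _).symm
    have hb : Function.Bijective (fun x ↦ θ.app T (E (g x))) :=
      (ConcreteCategory.bijective_of_isIso (θ.app T)).comp (E.bijective.comp hg)
    exact (funext hfun).symm ▸ hb
  have : IsAffine c.U := c.hU
  exact key ⊤ (isAffineOpen_top _) c.U c.U.ι_image_top c.e

include hd in
lemma span_d_of_isUniversal (c : Chart f) :
    Submodule.span Γ(X, c.U) (Set.range (d.app c.U)) = ⊤ := by
  let _ := chartAlg f c.e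
  rw [eq_top_iff]
  rintro x -
  obtain ⟨y, rfl⟩ := (chartLift_bijective_of_isUniversal hd c).2 x
  have hy : y ∈ Submodule.span Γ(X, c.U) (Set.range (KaehlerDifferential.D Γ(Y, c.V) Γ(X, c.U))) := by
    rw [KaehlerDifferential.span_range_derivation]; trivial
  induction hy using Submodule.span_induction with
  | mem y hy => obtain ⟨s, rfl⟩ := hy; rw [chartLift_D]; exact Submodule.subset_span ⟨s, rfl⟩
  | zero => rw [map_zero]; exact zero_mem _
  | add a b _ _ ha hb => rw [map_add]; exact add_mem ha hb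
  | smul r a _ ha => rw [map_smul]; exact Submodule.smul_mem _ _ ha

end Groth.OmegaSheaf
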