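import Groth.Agent.OmegaSheaf.Pull
import Groth.Agent.PropsBasic.LocFreeRank
import Groth.Agent.PropsBasic.LociBaseChange.Alg
import Groth.Agent.PropsBasic.LociBaseChange.Scheme
import Groth.Agent.FibreDim.Retrocompact
import Groth.Agent.PicAux.FreeBasis
import Groth.Agent.S2063

/-!
# Rank of a sheaf of differentials against the dimension of the fibres
-/

set_option autoImplicit false
set_option linter.style.haveILetI false

universe u

open CategoryTheory AlgebraicGeometry TopologicalSpace TensorProduct Opposite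
open Groth.PicAux (Basis')

namespace Groth.OmegaSheaf

/-- The rank of differentials of a fibre ring at a point is the rank upstairs. -/
theorem finrank_kaehler_fiber {A B : Type u} [CommRing A] [CommRing B] [Algebra A B]
    (p : Ideal A) [p.IsPrime] (q : Ideal B) [q.IsPrime] (Q : Ideal (p.Fiber B)) [Q.IsPrime]
    (hQ : Q.comap (Algebra.TensorProduct.includeRight (R := A) (A := p.ResidueField) (B := B)).toRingHom = q) :
    Module.finrank Q.ResidueField (Q.ResidueField ⊗[p.Fiber B] Ω[p.Fiber B⁄p.ResidueField]) =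
      Module.finrank q.ResidueField (q.ResidueField ⊗[B] Ω[B⁄A]) := by
  letI : Algebra B (p.Fiber B) := Algebra.TensorProduct.includeRight.toRingHom.toAlgebra
  haveI : IsScalarTower A B (p.Fiber B) := IsScalarTower.of_algebraMap_eq fun a =>
    (Algebra.TensorProduct.includeRight.commutes a).symm
  haveI : IsScalarTower A p.ResidueField (p.Fiber B) := inferInstance
  haveI hpush : Algebra.IsPushout A p.ResidueField B (p.Fiber B) := inferInstance
  let e := KaehlerDifferential.tensorKaehlerEquiv A p.ResidueField B (p.Fiber B)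
  let φ : q.ResidueField →+* Q.ResidueField :=
    Ideal.ResidueField.map q Q (algebraMap B (p.Fiber B)) hQ.symm
  letI : Algebra q.ResidueField Q.ResidueField := φ.toAlgebra
  haveI : IsScalarTower B (p.Fiber B) Q.ResidueField := inferInstance
  haveI : IsScalarTower B q.ResidueField Q.ResidueField := IsScalarTower.of_algebraMap_eq fun b =>
    (Ideal.ResidueField.map_algebraMap q Q _ hQ.symm b).symm
  have he := (LinearEquiv.baseChange (p.Fiber B) Q.ResidueField (p.Fiber B ⊗[B] Ω[B⁄A])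
    Ω[p.Fiber B⁄p.ResidueField] e).finrank_eq
  have h1 := (AlgebraTensorModule.cancelBaseChange B (p.Fiber B) Q.ResidueField Q.ResidueField Ω[B⁄A]).finrank_eq
  have h2 := (AlgebraTensorModule.cancelBaseChange B q.ResidueField Q.ResidueField Q.ResidueField Ω[B⁄A]).finrank_eq
  rw [← he, h1, ← h2, Module.finrank_baseChange]

/-- Fibre dimension of a map of spectra, in the fibre ring. -/
theorem exists_fibreDimAt_specMap_eq {A B : CommRingCat.{u}} (φ : A ⟶ B) (z : Spec B) :
    letI := φ.hom.toAlgebra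
    ∃ Q : PrimeSpectrum ((z.asIdeal.under A).Fiber B),
      Q.asIdeal.comap (Algebra.TensorProduct.includeRight (R := A) (A := (z.asIdeal.under A).ResidueField)
        (B := B)).toRingHom = z.asIdeal ∧
      FlatMor.fibreDimAt (Spec.map φ) z =
        FlatMor.localDim (PrimeSpectrum ((z.asIdeal.under A).Fiber B)) Q := by
  letI := φ.hom.toAlgebra
  let y : PrimeSpectrum A := ⟨z.asIdeal.under A, inferInstance⟩
  let h := PrimeSpectrum.preimageHomeomorphFiber A B y
  let e : PrimeSpectrum ((z.asIdeal.under A).Fiber B) → Spec B := fun Q => (h.symm Q).1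
  have he : Topology.IsEmbedding e := Topology.IsEmbedding.subtypeVal.comp h.symm.isEmbedding
  have hr : Set.range e = (Spec.map φ).base ⁻¹' {(Spec.map φ).base z} := by
    refine Set.Subset.antisymm ?_ ?_
    · rintro _ ⟨Q, rfl⟩
      exact (h.symm Q).2
    · intro w hw
      exact ⟨h ⟨w, hw⟩, congrArg Subtype.val (h.symm_apply_apply ⟨w, hw⟩)⟩
  obtain ⟨Q, hQ⟩ := hr.ge (show z ∈ (Spec.map φ).base ⁻¹' {(Spec.map φ).base z} from rfl)
  refine ⟨Q, congrArg PrimeSpectrum.asIdeal hQ, ?_⟩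
  rw [← Groth.FibreDim.fibreDimAt_eq_of_range (Spec.map φ) _ he hr Q, hQ]

variable {X Y : Scheme.{u}} {f : X ⟶ Y}

/-- Fibre dimension on a chart. -/
theorem fibreDimAt_chart (c : Chart f) {x : X} (hx : x ∈ c.U) :
    FlatMor.fibreDimAt f x =
      FlatMor.fibreDimAt (Spec.map (f.appLE c.V c.U c.e)) (c.hU.primeIdealOf ⟨x, hx⟩) := by
  have hz : c.hU.fromSpec (c.hU.primeIdealOf ⟨x, hx⟩) = x := c.hU.fromSpec_primeIdealOf ⟨x, hx⟩
  conv_lhs => rw [← hz]
  rw [← Groth.FibreDim.fibreDimAt_openImmersion_comp c.hU.fromSpec f,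
    ← c.hV.SpecMap_appLE_fromSpec f c.hU c.e,
    Groth.FibreDim.fibreDimAt_comp_injective _ _ c.hV.fromSpec.isOpenEmbedding.injective]

/-- Flat with few differentials in the fibre gives smoothness. -/
theorem mem_smoothLocus_of_finrank_le [LocallyOfFinitePresentation f] (c : Chart f) {x : X}
    (hx : x ∈ c.U) (hflat : (f.stalkMap x).hom.Flat)
    (h : letI := chartAlg f c.e
      ((Module.finrank (c.hU.primeIdealOf ⟨x, hx⟩).asIdeal.ResidueField
        ((c.hU.primeIdealOf ⟨x, hx⟩).asIdeal.ResidueField ⊗[Γ(X, c.U)] Ω[Γ(X, c.U)⁄Γ(Y, c.V)]) : ℕ) :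
          WithBot ℕ∞) ≤ FlatMor.fibreDimAt f x) :
    x ∈ f.smoothLocus := by
  rw [Scheme.Hom.mem_smoothLocus, formallySmooth_stalkMap_iff c.V c.hV c.U c.hU c.e hx]
  set z := c.hU.primeIdealOf ⟨x, hx⟩
  let φ := f.appLE c.V c.U c.e
  letI := chartAlg f c.e
  obtain ⟨Q, hQ, hd⟩ := exists_fibreDimAt_specMap_eq φ z
  rw [fibreDimAt_chart c hx, hd, ← finrank_kaehler_fiber _ z.asIdeal Q.asIdeal hQ] at h
  haveI : Algebra.FinitePresentation Γ(Y, c.V) Γ(X, c.U) := f.finitePresentation_appLE c.hV c.hU c.e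
  haveI : Algebra.IsSmoothAt (z.asIdeal.under Γ(Y, c.V)).ResidueField Q.asIdeal :=
    (Groth.Agent.S2063.result Q.asIdeal).2 (by exact_mod_cast h)
  haveI : Module.Flat Γ(Y, c.V) (Localization.AtPrime z.asIdeal) := by
    have h0 := (RingHom.Flat.respectsIso.arrow_mk_iso_iff
        (IsAffineOpen.arrowStalkMapIso f c.V c.hV c.U c.hU c.e hx)).mp hflat
    have hgen : ∀ (p : Ideal Γ(Y, c.V)) [p.IsPrime] (hp : p = z.asIdeal.under Γ(Y, c.V)),
        (Localization.localRingHom p z.asIdeal φ.hom hp).Flat →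
        (Localization.localRingHom (z.asIdeal.under Γ(Y, c.V)) z.asIdeal φ.hom rfl).Flat := by
      intro p _ hp hh
      subst hp
      exact hh
    have h' : (Localization.localRingHom _ z.asIdeal φ.hom rfl).Flat := hgen _ (Groth.PropsBasic.Loci.primeIdealOf_comap f c.hV c.hU c.e hx).symm h0
    haveI : z.asIdeal.LiesOver (z.asIdeal.under Γ(Y, c.V)) := ⟨rfl⟩
    letI := Localization.AtPrime.algebraOfLiesOver (z.asIdeal.under Γ(Y, c.V)) z.asIdeal
    haveI : Module.Flat (Localization.AtPrime (z.asIdeal.under Γ(Y, c.V))) (Localization.AtPrime z.asIdeal) := h'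
    exact Module.Flat.trans Γ(Y, c.V) (Localization.AtPrime (z.asIdeal.under Γ(Y, c.V))) _
  exact Groth.PropsBasic.Loci.isSmoothAt_of_flat_of_fiber (z.asIdeal.under Γ(Y, c.V)) z.asIdeal Q.asIdeal hQ

variable {Ω' : X.Modules} {d : OmegaSh.Der f Ω'}

/-- The rank of a free module of differentials, read in a residue field of a chart. -/
theorem exists_finrank_kaehler_eq (hd : OmegaSh.IsUniversal d) {U : X.Opens} {n : ℕ}
    (hU : Nonempty (Ω'.restrict U.ι ≅ FlatMod.freeMod (↑U) n)) {x : X} (hx : x ∈ U) :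
    ∃ (c : Chart f) (hxc : x ∈ c.U),
      letI := chartAlg f c.e
      Module.finrank (c.hU.primeIdealOf ⟨x, hxc⟩).asIdeal.ResidueField
        ((c.hU.primeIdealOf ⟨x, hxc⟩).asIdeal.ResidueField ⊗[Γ(X, c.U)] Ω[Γ(X, c.U)⁄Γ(Y, c.V)]) = n := by
  obtain ⟨c, hxc, hcU⟩ := exists_chart f hx
  refine ⟨c, hxc, ?_⟩
  letI := chartAlg f c.e
  haveI := isQCoh_of_isUniversal hd
  obtain ⟨e⟩ := hU
  haveI : Nontrivial Γ(X, c.U) := (X.presheaf.germ c.U x hxc).hom.domain_nontrivial
  obtain ⟨s, hs⟩ : ∃ s : Fin n → Γ(Ω', U), Basis' Ω' U s := by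
    obtain ⟨d'⟩ := Groth.PicAux.exists_split_free (X := (U : Scheme.{u})) n
    have h := d'.basis.map e.inv
    refine ⟨fun i => Groth.PicAux.res Ω' (Scheme.Opens.ι_image_top U).ge
      (e.inv.app ⊤ ((d'.s i).app ⊤ (Groth.PicAux.oneSec _ ⊤)) : Γ(Ω', U.ι ''ᵁ ⊤)), ?_⟩
    rw [Groth.PicAux.basis'_iff_restrict]
    convert h using 1
    funext i
    exact (Groth.PicAux.res_res (M := Ω') _ _ _).trans (Groth.PicAux.res_self _ _)
  let L : (Fin n → Γ(X, c.U)) →ₗ[Γ(X, c.U)] Γ(Ω', c.U) :=
    Fintype.linearCombination Γ(X, c.U) fun i => Groth.PicAux.res Ω' hcU (s i)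
  have hL : Function.Bijective L := by
    convert hs c.U hcU using 1
    funext r
    exact Fintype.linearCombination_apply _ _ _
  let b : Module.Basis (Fin n) Γ(X, c.U) Ω[Γ(X, c.U)⁄Γ(Y, c.V)] :=
    Module.Basis.ofEquivFun ((universalChartEquiv hd c).trans (LinearEquiv.ofBijective L hL).symm)
  haveI := Module.Free.of_basis b
  rw [Module.finrank_baseChange, Module.finrank_eq_card_basis b, Fintype.card_fin]

end Groth.OmegaSheaf
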