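import Groth.Agent.OmegaSheaf.Conormal

/-!
# Sections of conormal sheaves: `I / I²` on affine charts of an immersion
-/

universe u

open CategoryTheory Limits AlgebraicGeometry Opposite TopologicalSpace TensorProduct

namespace Groth.OmegaSheaf

open Groth.QCohMod (res res_res res_smul res_app res_self sectionsAlg pullSecTensor
  pullSecTensor_tmul pullSecTensor_bijective)

variable {Z X : Scheme.{u}} (i : Z ⟶ X)

/-- An affine open `W` of `X` on which `i` is, on functions, a closed immersion. -/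
structure IsConormalChart (W : X.Opens) : Prop where
  affine : IsAffineOpen W
  affine_preimage : IsAffineOpen (i ⁻¹ᵁ W)
  surjective : Function.Surjective (i.app W)

/-- An affine open below the coborder of an immersion is a chart. -/
lemma isConormalChart_of_le [IsImmersion i] {W : X.Opens} (hW : IsAffineOpen W)
    (hle : W ≤ i.coborderRange) : IsConormalChart i W := by
  have hr : i.coborderRange.ι ''ᵁ (i.coborderRange.ι ⁻¹ᵁ W) = W := by
    rw [Scheme.Hom.image_preimage_eq_opensRange_inf, Scheme.Opens.opensRange_ι,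
      inf_eq_right.mpr hle]
  generalize hW' : i.coborderRange.ι ⁻¹ᵁ W = W' at hr
  subst hr
  have hW'' : IsAffineOpen W' :=
    (Scheme.Hom.isAffineOpen_iff_of_isOpenImmersion i.coborderRange.ι).mp hW
  refine ⟨hW, ?_, fun t ↦ ?_⟩
  · rw [← i.liftCoborder_preimage]
    exact hW''.preimage i.liftCoborder
  · obtain ⟨w, hw⟩ := i.liftCoborder.app_surjective W' hW''
      (Z.presheaf.map (eqToHom (i.liftCoborder_preimage W')).op t)
    rw [liftCoborder_app] at hw
    change Z.presheaf.map _ (i.app _ w) = _ at hw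
    exact ⟨w, (ConcreteCategory.bijective_of_isIso
      (Z.presheaf.map (eqToHom (i.liftCoborder_preimage W')).op)).1 hw⟩

lemma exists_conormalChart [IsImmersion i] (z : Z) {W₀ : X.Opens} (hz : i z ∈ W₀) :
    ∃ W : X.Opens, IsConormalChart i W ∧ i z ∈ W ∧ W ≤ W₀ := by
  have hzc : i z ∈ i.coborderRange := subset_coborder ⟨z, rfl⟩
  obtain ⟨_, ⟨W : X.Opens, hW, rfl⟩, hzW, hle⟩ := X.isBasis_affineOpens.exists_subset_of_mem_open
    (show i z ∈ W₀ ⊓ i.coborderRange from ⟨hz, hzc⟩) (W₀ ⊓ i.coborderRange).2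
  exact ⟨W, isConormalChart_of_le i hW fun p hp ↦ (hle hp).2, hzW, fun p hp ↦ (hle hp).1⟩

variable {i} {W : X.Opens}

/-- Sections of an inverse image over a chart. -/
theorem IsConormalChart.pullSect_app (h : IsConormalChart i W) (G : X.Modules) [G.IsQuasicoherent] :
    Function.Surjective (OmegaSh.pullSect i G W) ∧ ∀ s : Γ(G, W), OmegaSh.pullSect i G W s = 0 ↔
      s ∈ RingHom.ker (i.app W).hom • (⊤ : Submodule Γ(X, W) Γ(G, W)) := by
  let _ := sectionsAlg i (le_refl (i ⁻¹ᵁ W))
  have hb := pullSecTensor_bijective i G (le_refl (i ⁻¹ᵁ W)) h.affine h.affine_preimage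
  have hu : ∀ s, OmegaSh.pullSect i G W s =
      pullSecTensor i G (le_refl (i ⁻¹ᵁ W)) ((1 : Γ(Z, i ⁻¹ᵁ W)) ⊗ₜ s) := by
    intro s
    rw [pullSecTensor_tmul, one_smul]
    exact (res_self _ _).symm
  have hsurj : Function.Surjective (algebraMap Γ(X, W) Γ(Z, i ⁻¹ᵁ W)) := by
    change Function.Surjective (i.appLE W (i ⁻¹ᵁ W) le_rfl)
    rw [← Scheme.Hom.app_eq_appLE]
    exact h.surjective
  have hker : RingHom.ker (algebraMap Γ(X, W) Γ(Z, i ⁻¹ᵁ W)) = RingHom.ker (i.app W).hom := by
    change RingHom.ker (i.appLE W (i ⁻¹ᵁ W) le_rfl).hom = _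
    rw [← Scheme.Hom.app_eq_appLE]
  refine ⟨fun t ↦ ?_, fun s ↦ ?_⟩
  · obtain ⟨z, rfl⟩ := hb.2 t
    obtain ⟨s, rfl⟩ := TensorProduct.mk_surjective Γ(X, W) Γ(G, W) Γ(Z, i ⁻¹ᵁ W) hsurj z
    exact ⟨s, hu s⟩
  · rw [hu]
    refine (map_eq_zero_iff _ hb.1).trans ?_
    rw [← hker]
    refine ⟨fun h ↦ ?_, fun h ↦ ?_⟩
    · let e : (Γ(X, W) ⧸ RingHom.ker (algebraMap Γ(X, W) Γ(Z, i ⁻¹ᵁ W))) ≃ₐ[Γ(X, W)]
          Γ(Z, i ⁻¹ᵁ W) :=
        Ideal.quotientKerAlgEquivOfSurjective (f := Algebra.ofId Γ(X, W) Γ(Z, i ⁻¹ᵁ W)) hsurj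
      have h' := congr((TensorProduct.congr e.symm.toLinearEquiv (LinearEquiv.refl _ _)) $h)
      rw [TensorProduct.congr_tmul, map_zero] at h'
      simp only [AlgEquiv.toLinearEquiv_apply, map_one, LinearEquiv.refl_apply] at h'
      have h'' := congr((TensorProduct.quotTensorEquivQuotSMul Γ(G, W)
        (RingHom.ker (algebraMap Γ(X, W) Γ(Z, i ⁻¹ᵁ W)))) $h')
      rw [map_zero] at h''
      erw [TensorProduct.quotTensorEquivQuotSMul_mk_tmul, one_smul] at h''
      exact (Submodule.Quotient.mk_eq_zero _).mp h''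
    · induction h using Submodule.smul_induction_on' with
      | smul r hr m hm =>
        rw [tmul_smul, ← algebraMap_smul Γ(Z, i ⁻¹ᵁ W) r,
          show algebraMap Γ(X, W) Γ(Z, i ⁻¹ᵁ W) r = 0 from hr, zero_smul]
      | add p hp q hq hp' hq' => rw [tmul_add, hp', hq', add_zero]

/-- Every section of the conormal sheaf over a chart comes from the ideal. -/
theorem IsConormalChart.conormalSect_surjective (h : IsConormalChart i W) :
    Function.Surjective (OmegaSh.conormalSect i W) :=
  (h.pullSect_app (ClSub.idealMod i.ker)).1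

lemma ker_ideal_eq [QuasiCompact i] (hW : IsAffineOpen W) :
    i.ker.ideal ⟨W, hW⟩ = RingHom.ker (i.app W).hom :=
  Scheme.Hom.ker_apply i ⟨W, hW⟩

/-- Over a chart, the conormal sheaf is `I/I²`. -/
theorem IsConormalChart.conormalSect_eq_zero_iff [QuasiCompact i] (h : IsConormalChart i W)
    (k : Γ(ClSub.idealMod i.ker, W)) :
    OmegaSh.conormalSect i W k = 0 ↔
      OmegaSh.idealSect i.ker W k ∈ RingHom.ker (i.app W).hom ^ 2 := by
  refine ((h.pullSect_app (ClSub.idealMod i.ker)).2 k).trans ?_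
  let E := idealSecEquiv i.ker ⟨W, h.affine⟩
  refine ⟨fun hk ↦ ?_, fun hk ↦ ?_⟩
  · rw [pow_two, ← ker_ideal_eq (i := i) h.affine]
    induction hk using Submodule.smul_induction_on' with
    | smul r hr m _ =>
      rw [idealSect_smul]
      exact Ideal.mul_mem_mul ((ker_ideal_eq (i := i) h.affine).symm ▸ hr)
        (idealSect_mem i.ker ⟨W, h.affine⟩ m)
    | add p hp q hq hp' hq' => rw [map_add]; exact add_mem hp' hq'
  · have key : ∀ x (hx : x ∈ RingHom.ker (i.app W).hom ^ 2), ∀ k' : Γ(ClSub.idealMod i.ker, W),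
        OmegaSh.idealSect i.ker W k' = x →
          k' ∈ RingHom.ker (i.app W).hom • (⊤ : Submodule Γ(X, W) Γ(ClSub.idealMod i.ker, W)) := by
      intro x hx
      rw [pow_two] at hx
      induction hx using Submodule.mul_induction_on' with
      | mem_mul_mem r hr s hs =>
        intro k' hk'
        obtain ⟨m, hm⟩ := exists_idealSect i.ker ⟨W, h.affine⟩ (x := s)
          ((ker_ideal_eq (i := i) h.affine).symm ▸ hs)
        rw [show k' = r • m from idealSect_injective _ _ (by rw [hk', idealSect_smul, hm])]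
        exact Submodule.smul_mem_smul hr trivial
      | add a ha b hb iha ihb =>
        intro k' hk'
        have hle : RingHom.ker (i.app W).hom * RingHom.ker (i.app W).hom ≤
            i.ker.ideal ⟨W, h.affine⟩ := (ker_ideal_eq (i := i) h.affine).symm ▸ Ideal.mul_le_left
        obtain ⟨ma, hma⟩ := exists_idealSect i.ker ⟨W, h.affine⟩ (hle ha)
        obtain ⟨mb, hmb⟩ := exists_idealSect i.ker ⟨W, h.affine⟩ (hle hb)
        rw [show k' = ma + mb from idealSect_injective _ _ (by rw [hk', map_add, hma, hmb])]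
        exact add_mem (iha ma hma) (ihb mb hmb)
    exact key _ hk k rfl

end Groth.OmegaSheaf
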