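import Groth.Agent.OmegaSheaf.ConormalPull
import Groth.Agent.OmegaSheaf.ExactLocal
import Groth.Agent.OmegaSheaf.ConormalExact

/-!
# The transitivity sequence of conormal sheaves
-/

universe u

open CategoryTheory Limits AlgebraicGeometry Opposite TopologicalSpace

namespace Groth.OmegaSheaf

open Groth.QCohMod (res res_res res_smul res_app res_self)

section

variable {Z : Scheme.{u}} (M : Z.Modules)

/-- The identification `𝟙^* M ≅ M` undoes the pullback of sections. -/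
lemma pullbackId_hom_pullSect (U : Z.Opens) (m : Γ(M, U)) :
    ((Scheme.Modules.pullbackId Z).hom.app M).app U (OmegaSh.pullSect (𝟙 Z) M U m) = m := by
  have h := unit_conjugateEquiv .id (Scheme.Modules.pullbackPushforwardAdjunction (𝟙 Z))
    (Scheme.Modules.pullbackId Z).hom M
  rw [Scheme.Modules.conjugateEquiv_pullbackId_hom] at h
  exact (congr((Scheme.Modules.Hom.app $h U) m)).symm

/-- The inverse of `𝟙^* M ≅ M` is the pullback of sections. -/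
lemma pullbackId_inv_app (U : Z.Opens) (m : Γ(M, U)) :
    ((Scheme.Modules.pullbackId Z).inv.app M).app U m = OmegaSh.pullSect (𝟙 Z) M U m := by
  conv_lhs => rw [← pullbackId_hom_pullSect M U m]
  rw [← CategoryTheory.comp_apply, ← Scheme.Modules.Hom.comp_app, Iso.hom_inv_id_app,
    Scheme.Modules.Hom.id_app]
  rfl

end

/-- A map out of `𝟙^* M`, as a map out of `M`. -/
noncomputable def ofPullbackId {Z : Scheme.{u}} {M N : Z.Modules}
    (ψ : (Scheme.Modules.pullback (𝟙 Z)).obj M ⟶ N) : M ⟶ N :=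
  (Scheme.Modules.pullbackId Z).inv.app M ≫ ψ

lemma ofPullbackId_app {Z : Scheme.{u}} {M N : Z.Modules}
    (ψ : (Scheme.Modules.pullback (𝟙 Z)).obj M ⟶ N) (U : Z.Opens) (m : Γ(M, U)) :
    (ofPullbackId ψ).app U m = ψ.app U (OmegaSh.pullSect (𝟙 Z) M U m) := by
  rw [ofPullbackId, Scheme.Modules.Hom.comp_app, CategoryTheory.comp_apply]
  erw [pullbackId_inv_app]

variable {Z Z' Z'' Y Y' : Scheme.{u}} {i' : Z ⟶ Z'} {i'' : Z ⟶ Z''} {n : Z'' ⟶ Z'} {j : Y ⟶ Y'}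
  {i : Z ⟶ Y} {m : Z' ⟶ Y'} [QuasiCompact i'] [QuasiCompact i'']
  {ψ₁ : (Scheme.Modules.pullback i).obj (Omega.conormal j) ⟶ Omega.conormal i'}
  {ψ₂ : (Scheme.Modules.pullback (𝟙 Z)).obj (Omega.conormal i') ⟶ Omega.conormal i''}

omit [QuasiCompact i'] [QuasiCompact i''] in
/-- Sections of `C_{Z/Z'} ⟶ C_{Z/Z''}` over a chart of `i'` on which `n` is a closed immersion. -/
lemma transMap_app (hψ₂ : OmegaSh.IsConormalMap i'' i' n (𝟙 Z) ψ₂) (W' : Z'.Opens)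
    (k : Γ(ClSub.idealMod i'.ker, W')) (u : Γ(ClSub.idealMod i''.ker, n ⁻¹ᵁ W'))
    (hu : OmegaSh.idealSect i''.ker (n ⁻¹ᵁ W') u = n.app W' (OmegaSh.idealSect i'.ker W' k))
    (V : Z.Opens) (h₁ : V ≤ i' ⁻¹ᵁ W') (h₂ : V ≤ i'' ⁻¹ᵁ (n ⁻¹ᵁ W')) :
    res (Omega.conormal i'') h₁ ((ofPullbackId ψ₂).app (i' ⁻¹ᵁ W')
      (OmegaSh.conormalSect i' W' k)) =
      res (Omega.conormal i'') h₂ (OmegaSh.conormalSect i'' (n ⁻¹ᵁ W') u) := by
  rw [ofPullbackId_app]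
  exact hψ₂.2 W' k u hu V h₁ h₂

omit [QuasiCompact i'] in
/-- The composite of the transitivity maps vanishes. -/
theorem transMap_comp_eq_zero (hψ₁ : OmegaSh.IsConormalMap i' j m i ψ₁)
    (hψ₂ : OmegaSh.IsConormalMap i'' i' n (𝟙 Z) ψ₂) [QuasiCompact i'] {e : Z'' ⟶ Y}
    (he : n ≫ m = e ≫ j) :
    ψ₁ ≫ ofPullbackId ψ₂ = 0 := by
  let adj := Scheme.Modules.pullbackPushforwardAdjunction i
  refine (adj.homEquiv (Omega.conormal j) _).injective (conormal_hom_ext fun U s' ↦ ?_)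
  rw [homEquiv_pullback_app (ψ₁ ≫ _) (j ⁻¹ᵁ U), homEquiv_pullback_app 0 (j ⁻¹ᵁ U)]
  obtain ⟨t, ht⟩ : ∃ t, OmegaSh.idealSect i'.ker (m ⁻¹ᵁ U) t =
      m.app U (OmegaSh.idealSect j.ker U s') := by
    refine exists_idealSect_of_app_eq_zero i' ?_
    have key : ∀ q : Z ⟶ Y', q = i ≫ j → q.app U (OmegaSh.idealSect j.ker U s') = 0 := by
      rintro q rfl
      change i.app _ (j.app U _) = 0
      exact (congrArg _ (app_idealSect j U s')).trans (map_zero _)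
    exact key (i' ≫ m) hψ₁.1.symm
  have hn : n.app (m ⁻¹ᵁ U) (m.app U (OmegaSh.idealSect j.ker U s')) = 0 := by
    have key : ∀ q : Z'' ⟶ Y', q = e ≫ j → q.app U (OmegaSh.idealSect j.ker U s') = 0 := by
      rintro q rfl
      change e.app _ (j.app U _) = 0
      exact (congrArg _ (app_idealSect j U s')).trans (map_zero _)
    exact key (n ≫ m) he
  have hT : i ⁻¹ᵁ (j ⁻¹ᵁ U) ≤ i' ⁻¹ᵁ (m ⁻¹ᵁ U) := by
    rw [← Scheme.Hom.comp_preimage, hψ₁.1]; rfl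
  have hT' : i' ⁻¹ᵁ (m ⁻¹ᵁ U) ≤ i'' ⁻¹ᵁ (n ⁻¹ᵁ (m ⁻¹ᵁ U)) := by
    rw [← Scheme.Hom.comp_preimage i'' n, ← hψ₂.1, Category.id_comp]
  have h1 := hψ₁.2 U s' t ht (i ⁻¹ᵁ (j ⁻¹ᵁ U)) le_rfl hT
  have h2 := transMap_app hψ₂ (m ⁻¹ᵁ U) t 0 (by rw [map_zero, ht, hn]) _ le_rfl hT'
  generalize hx : OmegaSh.pullSect i (Omega.conormal j) (j ⁻¹ᵁ U) (OmegaSh.conormalSect j U s') = x
    at h1 ⊢
  change res (Omega.conormal i') le_rfl (ψ₁.app _ x) = res (Omega.conormal i') hT _ at h1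
  rw [res_self] at h1
  rw [res_self, map_zero, map_zero] at h2
  change (ofPullbackId ψ₂).app _ (ψ₁.app _ x) = 0
  rw [h1, ← res_app, h2, map_zero]

section charts

variable [IsImmersion i'] [IsImmersion i'']

omit [QuasiCompact i''] [IsImmersion i''] in
lemma transChart (hψ₂ : OmegaSh.IsConormalMap i'' i' n (𝟙 Z) ψ₂) {W' : Z'.Opens}
    (hW' : IsConormalChart i' W') (hV : IsAffineOpen (n ⁻¹ᵁ W')) :
    IsConormalChart i'' (n ⁻¹ᵁ W') ∧ i'' ⁻¹ᵁ (n ⁻¹ᵁ W') = i' ⁻¹ᵁ W' ∧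
      ∀ x : Γ(Z', W'), i''.app _ (n.app W' x) = 0 → i'.app W' x = 0 := by
  obtain rfl : i'' ≫ n = i' := hψ₂.1.symm.trans (Category.id_comp _)
  refine ⟨⟨hV, hW'.affine_preimage, fun b ↦ ?_⟩, rfl, fun x hx ↦ hx⟩
  obtain ⟨a, rfl⟩ := hW'.surjective b
  exact ⟨n.app W' a, rfl⟩

/-- `C_{Z/Z'} ⟶ C_{Z/Z''}` is an epimorphism when `Z'' ⟶ Z'` is, near `Z`, a closed immersion. -/
theorem transMap_epi (hψ₂ : OmegaSh.IsConormalMap i'' i' n (𝟙 Z) ψ₂)
    (hch : ∀ z : Z, ∃ W' : Z'.Opens, i' z ∈ W' ∧ IsConormalChart i' W' ∧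
      IsAffineOpen (n ⁻¹ᵁ W') ∧ Function.Surjective (n.app W')) :
    Epi ψ₂ := by
  have : Epi (ofPullbackId ψ₂) := by
    refine epi_of_affine_cover _ fun z ↦ ?_
    obtain ⟨W', hz, hW', hV, hn⟩ := hch z
    obtain ⟨hV', heq, hk⟩ := transChart hψ₂ hW' hV
    refine ⟨i' ⁻¹ᵁ W', hW'.affine_preimage, hz, fun y ↦ ?_⟩
    obtain ⟨u, hu⟩ := hV'.conormalSect_surjective (res _ heq.le y)
    obtain ⟨a, ha⟩ := hn (OmegaSh.idealSect i''.ker _ u)
    obtain ⟨k, hk'⟩ := exists_idealSect_of_app_eq_zero i'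
      (hk a (by rw [ha]; exact app_idealSect i'' _ u))
    refine ⟨OmegaSh.conormalSect i' W' k, ?_⟩
    have h := transMap_app hψ₂ W' k u (by rw [hk', ha]) _ le_rfl heq.ge
    rw [res_self, hu, res_res, res_self] at h
    exact h
  exact epi_of_epi_fac (show (Scheme.Modules.pullbackId Z).inv.app (Omega.conormal i') ≫ ψ₂ = ofPullbackId ψ₂ from rfl)

/-- Exactness in the middle of the transitivity sequence. -/
theorem transMap_exact (hψ₁ : OmegaSh.IsConormalMap i' j m i ψ₁)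
    (hψ₂ : OmegaSh.IsConormalMap i'' i' n (𝟙 Z) ψ₂) [QuasiCompact j]
    (hch : ∀ z : Z, ∃ (W : Y'.Opens) (W' : Z'.Opens) (e : W' ≤ m ⁻¹ᵁ W), i' z ∈ W' ∧
      IsConormalChart i' W' ∧ IsAffineOpen (n ⁻¹ᵁ W') ∧ Function.Surjective (n.app W') ∧
      RingHom.ker (n.app W').hom ≤ (RingHom.ker (j.app W).hom).map (m.appLE W W' e).hom)
    (w : ψ₁ ≫ (ofPullbackId ψ₂) = 0) :
    (ShortComplex.mk _ _ w).Exact := by
  refine exact_of_affine_cover _ fun z ↦ ?_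
  obtain ⟨W, W', e, hz, hW', hV, hn, hker⟩ := hch z
  obtain ⟨hV', heq, hk⟩ := transChart hψ₂ hW' hV
  refine ⟨i' ⁻¹ᵁ W', hW'.affine_preimage, hz, fun y hy ↦ ?_⟩
  change (ofPullbackId ψ₂).app (i' ⁻¹ᵁ W') y = 0 at hy
  obtain ⟨k, rfl⟩ := hW'.conormalSect_surjective y
  have hx : i'.app W' (OmegaSh.idealSect i'.ker W' k) = 0 := app_idealSect i' _ k
  generalize hxk : OmegaSh.idealSect i'.ker W' k = x at hx
  have hnx : i''.app _ (n.app W' x) = 0 := by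
    obtain rfl : i'' ≫ n = i' := hψ₂.1.symm.trans (Category.id_comp _)
    exact hx
  obtain ⟨u, hu⟩ := exists_idealSect_of_app_eq_zero i'' hnx
  have hu0 := transMap_app hψ₂ W' k u (by rw [hxk, hu]) _ heq.le le_rfl
  rw [hy, map_zero, res_self] at hu0
  have hmem := (hV'.conormalSect_eq_zero_iff u).mp hu0.symm
  rw [hu] at hmem
  have hJ : RingHom.ker (i''.app (n ⁻¹ᵁ W')).hom ≤
      (RingHom.ker (i'.app W').hom).map (n.app W').hom := fun b hb ↦ by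
    obtain ⟨a, rfl⟩ := hn b
    exact Ideal.mem_map_of_mem _ (hk a hb)
  obtain ⟨q, hq, hqx⟩ : ∃ q ∈ RingHom.ker (i'.app W').hom ^ 2, n.app W' q = n.app W' x := by
    have := Ideal.pow_right_mono hJ 2 hmem
    rw [← Ideal.map_pow] at this
    exact (Ideal.mem_map_iff_of_surjective _ hn).mp this
  have hd : x - q ∈ RingHom.ker (n.app W').hom := by
    change n.app W' (x - q) = 0
    rw [map_sub, hqx, sub_self]
  have hT : i' ⁻¹ᵁ W' ≤ i ⁻¹ᵁ (j ⁻¹ᵁ W) := by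
    rw [← Scheme.Hom.comp_preimage, hψ₁.1]
    exact i'.preimage_mono e
  have key : ∀ y ∈ (RingHom.ker (j.app W).hom).map (m.appLE W W' e).hom,
      ∃ (k' : Γ(ClSub.idealMod i'.ker, W')) (l : _),
        OmegaSh.idealSect i'.ker W' k' = y ∧
          ψ₁.app (i' ⁻¹ᵁ W') l = OmegaSh.conormalSect i' W' k' := by
    intro y hy
    induction hy using Submodule.span_induction with
    | zero => exact ⟨0, 0, map_zero _, by rw [map_zero, map_zero]⟩
    | add a b _ _ ha hb =>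
      obtain ⟨ka, la, hka, hla⟩ := ha; obtain ⟨kb, lb, hkb, hlb⟩ := hb
      exact ⟨ka + kb, la + lb, by rw [map_add, hka, hkb], by rw [map_add, map_add, hla, hlb]⟩
    | smul t a _ ha =>
      obtain ⟨ka, la, hka, hla⟩ := ha
      exact ⟨t • ka, i'.app W' t • la, by rw [idealSect_smul, hka]; rfl,
        by rw [Scheme.Modules.Hom.app_smul, conormalSect_smul, hla]⟩
    | mem y hy =>
      obtain ⟨r, hr, rfl⟩ := hy
      obtain ⟨s', hs'⟩ := exists_idealSect_of_app_eq_zero j (x := r) hr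
      obtain ⟨s, hs⟩ : ∃ s, OmegaSh.idealSect i'.ker (m ⁻¹ᵁ W) s =
          m.app W (OmegaSh.idealSect j.ker W s') := by
        refine exists_idealSect_of_app_eq_zero i' ?_
        have key : ∀ q : Z ⟶ Y', q = i ≫ j → q.app W (OmegaSh.idealSect j.ker W s') = 0 := by
          rintro q rfl
          change i.app _ (j.app W _) = 0
          exact (congrArg _ (app_idealSect j W s')).trans (map_zero _)
        exact key (i' ≫ m) hψ₁.1.symm
      refine ⟨res _ e s, res _ hT (OmegaSh.pullSect i (Omega.conormal j)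
        (j ⁻¹ᵁ W) (OmegaSh.conormalSect j W s')), ?_, ?_⟩
      · change OmegaSh.idealSect i'.ker W' ((ClSub.idealMod i'.ker).presheaf.map _ s) = _
        rw [idealSect_res, hs, hs']
        rfl
      · rw [← res_app, ← res_conormalSect i' e]
        exact hψ₁.2 W s' s hs _ hT (i'.preimage_mono e)
  obtain ⟨k', l, hk', hl⟩ := key _ (hker hd)
  refine ⟨l, ?_⟩
  change ψ₁.app (i' ⁻¹ᵁ W') l = _
  rw [hl, ← sub_eq_zero, ← map_sub, hW'.conormalSect_eq_zero_iff, map_sub, hk', hxk]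
  simpa using neg_mem hq

/-- The transitivity sequence in the form of a complex on `𝟙^*`. -/
theorem transMap_exact' (hψ₁ : OmegaSh.IsConormalMap i' j m i ψ₁)
    (hψ₂ : OmegaSh.IsConormalMap i'' i' n (𝟙 Z) ψ₂) [QuasiCompact j] {e : Z'' ⟶ Y}
    (he : n ≫ m = e ≫ j)
    (hch : ∀ z : Z, ∃ (W : Y'.Opens) (W' : Z'.Opens) (e : W' ≤ m ⁻¹ᵁ W), i' z ∈ W' ∧
      IsConormalChart i' W' ∧ IsAffineOpen (n ⁻¹ᵁ W') ∧ Function.Surjective (n.app W') ∧
      RingHom.ker (n.app W').hom ≤ (RingHom.ker (j.app W).hom).map (m.appLE W W' e).hom) :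
    ∃ w : (Scheme.Modules.pullback (𝟙 Z)).map ψ₁ ≫ ψ₂ = 0,
      (ShortComplex.mk _ _ w).Exact ∧ Epi ψ₂ := by
  have w₀ := transMap_comp_eq_zero hψ₁ hψ₂ he
  let η := (Scheme.Modules.pullbackId Z)
  have hnat : (Scheme.Modules.pullback (𝟙 Z)).map ψ₁ ≫ η.hom.app _ =
      η.hom.app _ ≫ ψ₁ := η.hom.naturality ψ₁
  have w : (Scheme.Modules.pullback (𝟙 Z)).map ψ₁ ≫ ψ₂ = 0 := by
    rw [← (η.app (Omega.conormal i')).hom_inv_id_assoc ψ₂, Iso.app_hom, Iso.app_inv,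
      reassoc_of% hnat]
    exact (congrArg (η.hom.app _ ≫ ·) w₀).trans comp_zero
  refine ⟨w, ?_, transMap_epi hψ₂ fun z ↦ ?_⟩
  · refine (ShortComplex.exact_iff_of_iso ?_).mpr (transMap_exact hψ₁ hψ₂ hch w₀)
    exact ShortComplex.isoMk (η.app _) (η.app _) (Iso.refl _) hnat.symm (by simp [η, ofPullbackId])
  · obtain ⟨W, W', e', hz, hW', hV, hn, -⟩ := hch z
    exact ⟨W', hz, hW', hV, hn⟩

end charts

end Groth.OmegaSheaf
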