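import Groth.Agent.QCohMod.QCQS
import Mathlib.AlgebraicGeometry.Modules.Tilde

/-!
# Morphisms out of a quasi-coherent module on an affine scheme
-/

universe u

open CategoryTheory Limits AlgebraicGeometry Opposite TopologicalSpace

namespace Groth.OmegaSheaf

/-- On `Spec R`, a morphism out of a quasi-coherent module is given on global sections. -/
lemma exists_hom_spec {R : CommRingCat.{u}} {M F : (Spec R).Modules} [M.IsQuasicoherent]
    (L : (moduleSpecΓFunctor (R := R)).obj M ⟶ (moduleSpecΓFunctor (R := R)).obj F) :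
    ∃ β : M ⟶ F, (moduleSpecΓFunctor (R := R)).map β = L := by
  let adj := tilde.adjunction (R := R)
  have : IsIso (adj.counit.app M) := inferInstanceAs (IsIso M.fromTildeΓ)
  let β : M ⟶ F := inv (adj.counit.app M) ≫ (adj.homEquiv _ F).symm L
  refine ⟨β, ?_⟩
  have h : adj.counit.app M ≫ β = (adj.homEquiv _ F).symm L := IsIso.hom_inv_id_assoc _ _
  have h2 : adj.homEquiv _ M (adj.counit.app M) = 𝟙 ((moduleSpecΓFunctor (R := R)).obj M) := by
    rw [Adjunction.homEquiv_unit]
    exact adj.right_triangle_components M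
  have h3 := congrArg (adj.homEquiv _ F) h
  rw [Equiv.apply_symm_apply, adj.homEquiv_naturality_right] at h3
  exact ((congrArg (· ≫ (moduleSpecΓFunctor (R := R)).map β) h2).trans
    (Category.id_comp _)).symm.trans h3

/-- On `Spec R`, morphisms out of a quasi-coherent module are determined on global sections. -/
lemma hom_ext_spec {R : CommRingCat.{u}} {M F : (Spec R).Modules} [M.IsQuasicoherent]
    {β β' : M ⟶ F}
    (h : (moduleSpecΓFunctor (R := R)).map β = (moduleSpecΓFunctor (R := R)).map β') : β = β' := by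
  let adj := tilde.adjunction (R := R)
  have : IsIso (adj.counit.app M) := inferInstanceAs (IsIso M.fromTildeΓ)
  refine (cancel_epi (adj.counit.app M)).mp ((adj.homEquiv _ F).injective ?_)
  rw [adj.homEquiv_naturality_right, adj.homEquiv_naturality_right]
  exact congrArg (_ ≫ ·) h

variable {X : Scheme.{u}} [IsAffine X] {M F : X.Modules} [M.IsQuasicoherent]

/-- On an affine scheme, every linear map of global sections comes from a morphism out of a
quasi-coherent module. -/
theorem exists_hom_of_linear (L : Γ(M, ⊤) →+ Γ(F, ⊤))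
    (hL : ∀ (r : Γ(X, ⊤)) (m : Γ(M, ⊤)), L (r • m) = r • L m) :
    ∃ α : M ⟶ F, ∀ m, α.app ⊤ m = L m := by
  let e := X.isoSpec.hom
  let P := Scheme.Modules.pushforward e
  have : (P.obj M).IsQuasicoherent := Groth.QCohMod.isQCoh_pushforward (M := M) e
  let L' : (moduleSpecΓFunctor (R := Γ(X, ⊤))).obj (P.obj M) ⟶
      (moduleSpecΓFunctor (R := Γ(X, ⊤))).obj (P.obj F) :=
    ModuleCat.ofHom
      (X := (moduleSpecΓFunctor (R := Γ(X, ⊤))).obj (P.obj M))
      (Y := (moduleSpecΓFunctor (R := Γ(X, ⊤))).obj (P.obj F))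
      { toFun := fun m ↦ L m
        map_add' := map_add L
        map_smul' := fun r m ↦ hL (e.app ⊤ ((Scheme.ΓSpecIso Γ(X, ⊤)).inv r)) m }
  obtain ⟨β, hβ⟩ := exists_hom_spec L'
  obtain ⟨α, hα⟩ := P.map_surjective β
  exact ⟨α, fun m ↦ (congr(($hα).app ⊤ m)).trans congr(($hβ).hom m)⟩

/-- On an affine scheme, morphisms out of a quasi-coherent module are determined on global
sections. -/
theorem hom_ext_of_top {α β : M ⟶ F} (h : ∀ m : Γ(M, ⊤), α.app ⊤ m = β.app ⊤ m) : α = β := by
  let e := X.isoSpec.hom
  let P := Scheme.Modules.pushforward e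
  have : (P.obj M).IsQuasicoherent := Groth.QCohMod.isQCoh_pushforward (M := M) e
  refine P.map_injective (hom_ext_spec (R := Γ(X, ⊤)) ?_)
  ext m
  exact h m

end Groth.OmegaSheaf
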