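import Groth.Agent.Calg5.KoszulColon
import Mathlib.RingTheory.Localization.Away.Basic

/-!
# Trivial relations: `N ⊓ J² ≤ J N` when `J / N` is Koszul regular
-/

universe u

namespace Groth.OmegaSheaf

open Groth.FrobLCI.CE

variable {P Q : Type u} [CommRing P] [CommRing Q]

/-- If the relations of the images of `g` in `Q` are trivial, `N ⊓ J² ≤ J N` for `N` the kernel. -/
theorem ker_inf_sq_le_of_exact (π : P →+* Q) (hπ : Function.Surjective π) {n : ℕ} (g : Fin n → P)
    (hex : ∀ v : idx n 1 → Q, d (π ∘ g) 0 v = 0 → ∃ w, d (π ∘ g) 1 w = v) :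
    RingHom.ker π ⊓ (RingHom.ker π ⊔ Ideal.span (Set.range g)) ^ 2 ≤
      (RingHom.ker π ⊔ Ideal.span (Set.range g)) * RingHom.ker π := by
  set N := RingHom.ker π with hN
  set G := Ideal.span (Set.range g) with hG
  set J := N ⊔ G with hJ
  rintro u ⟨huN, huJ⟩
  rw [SetLike.mem_coe, pow_two] at huJ
  conv at huJ => arg 1; arg 1; rw [hJ]
  rw [Ideal.sup_mul, Submodule.mem_sup] at huJ
  obtain ⟨a, ha, b, hb, rfl⟩ := huJ
  refine add_mem (by rwa [mul_comm]) ?_
  have hbN : b ∈ N := (add_mem_cancel_left (Ideal.mul_le_left ha)).mp huN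
  have hbJ : b ∈ J := Ideal.mul_le_right hb
  have hb' : (⟨b, hbJ⟩ : J) ∈ (G • ⊤ : Submodule P J) := by
    rw [Submodule.mem_smul_top_iff]
    exact hb
  obtain ⟨v, hv⟩ := exists_d_eq g _ hb'
  let v₀ : idx n 1 → P := fun k ↦ (v k : P)
  have hv₀ : ∀ j, d g 0 v₀ j = b := fun j ↦ by
    rw [show v₀ = (Submodule.subtype J) ∘ v from rfl, d_map, Function.comp_apply, eq_pt n j, hv]
    rfl
  obtain ⟨w', hw'⟩ := hex (π ∘ v₀) (funext fun j ↦ by
    rw [d_ringHom, Function.comp_apply, hv₀]
    exact hbN)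
  choose w hw using fun k ↦ hπ (w' k)
  let c : idx n 1 → N := fun k ↦ ⟨v₀ k - d g 1 w k, by
    rw [hN, RingHom.mem_ker, map_sub, sub_eq_zero]
    have := congrFun ((d_ringHom π g 1 w).symm.trans
      ((congrArg (d (π ∘ g) 1) (funext hw)).trans hw')) k
    exact this.symm⟩
  have hc : d g 0 (fun k ↦ (c k : P)) (pt n) = b := by
    have : (fun k ↦ (c k : P)) = v₀ - d g 1 w := rfl
    rw [this]
    change dL g 0 (v₀ - d g 1 w) (pt n) = b
    rw [map_sub, Pi.sub_apply]
    change d g 0 v₀ (pt n) - d g 0 (d g 1 w) (pt n) = b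
    rw [hv₀, d_d, Pi.zero_apply, sub_zero]
  have hmem := d_mem_smul_top g 0 c (pt n)
  rw [Submodule.mem_smul_top_iff] at hmem
  have he : ((d g 0 c (pt n) : N) : P) = b := by
    rw [← hc, show (fun k ↦ (c k : P)) = (Submodule.subtype N) ∘ c from rfl, d_map]
    rfl
  rw [he] at hmem
  exact Ideal.mul_mono_left le_sup_right hmem

/-- The same, for a Koszul regular ideal of the quotient. -/
theorem ker_inf_sq_le_of_koszul (π : P →+* Q) (hπ : Function.Surjective π) {K : Ideal Q}
    (hK : LCI.IsKoszulRegularIdeal K) :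
    RingHom.ker π ⊓ (K.comap π) ^ 2 ≤ K.comap π * RingHom.ker π := by
  set J := K.comap π with hJ
  set N := RingHom.ker π with hN
  rintro u ⟨huN, huJ⟩
  let S : Ideal P := Submodule.colon (J * N) {u}
  have hS : ∀ x, x ∈ S ↔ x * u ∈ J * N := fun x ↦ Submodule.mem_colon_singleton
  suffices S = ⊤ by
    have h1 := (hS 1).mp (this ▸ Submodule.mem_top)
    rwa [one_mul] at h1
  by_contra hne
  obtain ⟨q, hq, hSq⟩ := Ideal.exists_le_maximal S hne
  have hJq : J ≤ q := fun x hx ↦ hSq ((hS x).mpr (Ideal.mul_mem_mul hx huN))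
  have hNJ : N ≤ J := fun x hx ↦ by
    change π x ∈ K
    rw [show π x = 0 from hx]
    exact zero_mem _
  have hNq : N ≤ q := hNJ.trans hJq
  have hqp : (q.map π).IsPrime := Ideal.map_isPrime_of_surjective hπ hNq
  have hKq : K ≤ q.map π := by
    rw [← Ideal.map_comap_of_surjective π hπ K]
    exact Ideal.map_mono hJq
  obtain ⟨g, hg, l, hl, hspan⟩ := hK ⟨q.map π, hqp⟩ hKq
  obtain ⟨G, rfl⟩ := hπ g
  have hGq : G ∉ q := fun h ↦ hg (Ideal.mem_map_of_mem π h)
  let π' : Localization.Away G →+* Localization.Away (π G) :=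
    IsLocalization.Away.map (Localization.Away G) (Localization.Away (π G)) π G
  have hcomp : π'.comp (algebraMap P _) = (algebraMap Q _).comp π := IsLocalization.map_comp _
  have hπ' : Function.Surjective π' := by
    have hmap : (Submonoid.powers G).map π = Submonoid.powers (π G) := Submonoid.map_powers π G
    have : IsLocalization ((Submonoid.powers G).map π) (Localization.Away (π G)) :=
      hmap.symm ▸ (inferInstance : IsLocalization (Submonoid.powers (π G)) (Localization.Away (π G)))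
    exact IsLocalization.map_surjective_of_surjective _ _ _ hπ
  have hker : RingHom.ker π' = N.map (algebraMap P (Localization.Away G)) :=
    IsLocalization.ker_map (Localization.Away (π G)) π (Submonoid.map_powers π G)
  choose f hf using fun k : Fin l.length ↦ hπ' (l.get k)
  have hfl : π' ∘ f = l.get := funext hf
  have hrange : Set.range (π' ∘ f) = {x | x ∈ l} := by
    rw [hfl, Set.range_list_get]
  set J' := J.map (algebraMap P (Localization.Away G)) with hJ'
  have hJ'eq : J' = RingHom.ker π' ⊔ Ideal.span (Set.range f) := by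
    have h1 : J'.map π' = (Ideal.span (Set.range f)).map π' := by
      rw [Ideal.map_map, hcomp, ← Ideal.map_map, Ideal.map_comap_of_surjective π hπ, hspan,
        Ideal.map_span, ← Set.range_comp, hrange]
    have h2 : RingHom.ker π' ≤ J' := hker ▸ Ideal.map_mono hNJ
    have h3 := congrArg (Ideal.comap π') h1
    rw [Ideal.comap_map_of_surjective π' hπ', Ideal.comap_map_of_surjective π' hπ',
      ← RingHom.ker_eq_comap_bot, sup_eq_left.mpr h2] at h3
    rw [h3, sup_comm]
  have hex := ker_inf_sq_le_of_exact π' hπ' f (fun v hv ↦ by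
    refine Groth.Calg5.KoszulColon.exact_of_isKoszulRegularSeq (π' ∘ f) ?_ 0 v hv
    rwa [hfl, List.ofFn_get])
  rw [← hJ'eq, hker, hJ', ← Ideal.map_pow, ← Ideal.map_mul] at hex
  have hu' := hex ⟨Ideal.mem_map_of_mem _ huN, Ideal.mem_map_of_mem _ huJ⟩
  obtain ⟨⟨⟨a, ha⟩, ⟨s, hs⟩⟩, hx⟩ := (IsLocalization.mem_map_algebraMap_iff (Submonoid.powers G) _).mp hu'
  rw [← map_mul, IsLocalization.eq_iff_exists (Submonoid.powers G)] at hx
  obtain ⟨⟨t, ht⟩, ht'⟩ := hx
  obtain ⟨ns, rfl⟩ := hs
  obtain ⟨nt, rfl⟩ := ht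
  have hmem : G ^ (nt + ns) ∈ S := (hS _).mpr (by
    rw [pow_add, mul_assoc, mul_comm (G ^ ns) u, show G ^ nt * (u * G ^ ns) = G ^ nt * a from ht']
    exact Ideal.mul_mem_left _ _ ha)
  exact hGq (hq.isPrime.mem_of_pow_mem _ (hSq hmem))

end Groth.OmegaSheaf
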