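import Groth.Agent.OmegaSheaf.PullChart
import Groth.Agent.OmegaSheaf.ExactLocal
import Groth.Agent.FlatmorThree.FormalLift
import Mathlib.AlgebraicGeometry.Morphisms.FormallyUnramified
import Mathlib.RingTheory.Kaehler.JacobiZariski

/-!
# The map `f^*Ω_{Y/S} → Ω_{X/S}` and formal unramifiedness / smoothness of `f`
-/

set_option autoImplicit false
set_option linter.style.haveILetI false

universe u

open CategoryTheory AlgebraicGeometry TopologicalSpace TensorProduct Opposite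

namespace Groth.OmegaSheaf

variable {X Y S : Scheme.{u}} {g : Y ⟶ S} {f : X ⟶ Y}
  {ΩY : Y.Modules} {dY : OmegaSh.Der g ΩY} {ΩX : X.Modules} {dX : OmegaSh.Der (f ≫ g) ΩX}
  {c : (Scheme.Modules.pullback f).obj ΩY ⟶ ΩX}

/-- On charts the comparison map is the base change map of Kähler differentials. -/
theorem app_iff_mapBaseChange (hY : OmegaSh.IsUniversal dY) (hX : OmegaSh.IsUniversal dX)
    (hc : OmegaSh.IsDiffCompat f dY dX c) (c₁ : Chart g) {P : X.Opens} (hP : IsAffineOpen P)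
    (e : P ≤ f ⁻¹ᵁ c₁.U) :
    letI := chartAlg g c₁.e
    letI := Groth.QCohMod.sectionsAlg f e
    letI := (g.appLE c₁.V c₁.U c₁.e ≫ f.appLE c₁.U P e).hom.toAlgebra
    haveI : IsScalarTower Γ(S, c₁.V) Γ(Y, c₁.U) Γ(X, P) := IsScalarTower.of_algebraMap_eq fun _ => rfl
    (Function.Injective (c.app P) ↔
      Function.Injective (KaehlerDifferential.mapBaseChange Γ(S, c₁.V) Γ(Y, c₁.U) Γ(X, P))) ∧
    (Function.Surjective (c.app P) ↔
      Function.Surjective (KaehlerDifferential.mapBaseChange Γ(S, c₁.V) Γ(Y, c₁.U) Γ(X, P))) := by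
  let _ := chartAlg g c₁.e
  let _ := Groth.QCohMod.sectionsAlg f e
  have e' : P ≤ (f ≫ g) ⁻¹ᵁ c₁.V := e.trans (f.preimage_mono c₁.e)
  have heq : (f ≫ g).appLE c₁.V P e' = g.appLE c₁.V c₁.U c₁.e ≫ f.appLE c₁.U P e :=
    (Scheme.Hom.appLE_comp_appLE ..).symm
  let E := pullChartEquiv hY f c₁ hP e
  let c₂ : Chart (f ≫ g) := ⟨P, c₁.V, hP, c₁.hV, e'⟩
  have key : ∀ (a : Γ(S, c₁.V) ⟶ Γ(X, P)) (ha : a = (f ≫ g).appLE c₁.V P e'),
      letI := a.hom.toAlgebra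
      ∀ (Φ : Γ(X, P) ⊗[Γ(Y, c₁.U)] Ω[Γ(Y, c₁.U)⁄Γ(S, c₁.V)] →ₗ[Γ(X, P)] Ω[Γ(X, P)⁄Γ(S, c₁.V)]),
      (∀ b s, Φ (b ⊗ₜ KaehlerDifferential.D Γ(S, c₁.V) Γ(Y, c₁.U) s) =
        b • KaehlerDifferential.D Γ(S, c₁.V) Γ(X, P) (f.appLE c₁.U P e s)) →
      ∃ L : Ω[Γ(X, P)⁄Γ(S, c₁.V)] → Γ(ΩX, P), Function.Bijective L ∧
        ∀ z, c.app P (E z) = L (Φ z) := by
    rintro a rfl Φ hΦ
    exact ⟨_, chartLift_bijective_of_isUniversal hX c₂,
      app_pullChartEquiv hY f c₁ hP e hc e' Φ hΦ⟩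
  letI := (g.appLE c₁.V c₁.U c₁.e ≫ f.appLE c₁.U P e).hom.toAlgebra
  haveI : IsScalarTower Γ(S, c₁.V) Γ(Y, c₁.U) Γ(X, P) := IsScalarTower.of_algebraMap_eq fun _ => rfl
  obtain ⟨L, hL, hcomp⟩ := key _ heq.symm
    (KaehlerDifferential.mapBaseChange Γ(S, c₁.V) Γ(Y, c₁.U) Γ(X, P)) (fun b s => by
      rw [KaehlerDifferential.mapBaseChange_tmul, KaehlerDifferential.map_D]
      rfl)
  have hfun : (c.app P : _ → _) ∘ E =
      L ∘ KaehlerDifferential.mapBaseChange Γ(S, c₁.V) Γ(Y, c₁.U) Γ(X, P) := funext hcomp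
  refine ⟨?_, ?_⟩
  · rw [← Function.Injective.of_comp_iff' _ E.bijective, hfun, hL.1.of_comp_iff]
  · rw [← E.surjective.of_comp_iff, hfun, Function.Surjective.of_comp_iff' hL]

theorem exists_chart_triple (f : X ⟶ Y) (g : Y ⟶ S) (x : X) :
    ∃ (c₁ : Chart g) (P : X.Opens) (_ : IsAffineOpen P) (_ : P ≤ f ⁻¹ᵁ c₁.U), x ∈ P := by
  obtain ⟨c₁, hx, -⟩ := exists_chart g (W := ⊤) (Opens.mem_top (f x))
  obtain ⟨_, ⟨P, hP, rfl⟩, hxP, hle⟩ :=
    X.isBasis_affineOpens.exists_subset_of_mem_open hx (f ⁻¹ᵁ c₁.U).2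
  exact ⟨c₁, P, hP, hle, hxP⟩

/-- `f` is formally unramified iff `f^*Ω_{Y/S} → Ω_{X/S}` is an epimorphism. -/
theorem formallyUnramified_iff_epi (hY : OmegaSh.IsUniversal dY) (hX : OmegaSh.IsUniversal dX)
    (hc : OmegaSh.IsDiffCompat f dY dX c) : FormallyUnramified f ↔ Epi c := by
  haveI := isQCoh_of_isUniversal hY
  haveI := isQCoh_of_isUniversal hX
  refine ⟨fun _ => epi_of_affine_cover c fun x => ?_, fun _ => ?_⟩
  · obtain ⟨c₁, P, hP, e, hxP⟩ := exists_chart_triple f g x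
    refine ⟨P, hP, hxP, (app_iff_mapBaseChange hY hX hc c₁ hP e).2.mpr ?_⟩
    let _ := chartAlg g c₁.e
    let _ := Groth.QCohMod.sectionsAlg f e
    letI := (g.appLE c₁.V c₁.U c₁.e ≫ f.appLE c₁.U P e).hom.toAlgebra
    haveI : IsScalarTower Γ(S, c₁.V) Γ(Y, c₁.U) Γ(X, P) := IsScalarTower.of_algebraMap_eq fun _ => rfl
    haveI : Algebra.FormallyUnramified Γ(Y, c₁.U) Γ(X, P) := f.formallyUnramified_appLE c₁.hU hP e
    exact fun y => (KaehlerDifferential.exact_mapBaseChange_map Γ(S, c₁.V) Γ(Y, c₁.U) Γ(X, P) y).mp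
      (Subsingleton.elim _ _)
  · rw [HasRingHomProperty.iff_exists_appLE (P := @FormallyUnramified)
      (RingHom.FormallyUnramified.stableUnderComposition.stableUnderCompositionWithLocalizationAway
        RingHom.FormallyUnramified.holdsForLocalizationAway).1]
    intro x
    obtain ⟨c₁, P, hP, e, hxP⟩ := exists_chart_triple f g x
    refine ⟨⟨c₁.U, c₁.hU⟩, ⟨P, hP⟩, hxP, e, ?_⟩
    let _ := chartAlg g c₁.e
    let _ := Groth.QCohMod.sectionsAlg f e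
    letI := (g.appLE c₁.V c₁.U c₁.e ≫ f.appLE c₁.U P e).hom.toAlgebra
    haveI : IsScalarTower Γ(S, c₁.V) Γ(Y, c₁.U) Γ(X, P) := IsScalarTower.of_algebraMap_eq fun _ => rfl
    have hs := (app_iff_mapBaseChange hY hX hc c₁ hP e).2.mp
      (Groth.QCohMod.app_surjective_of_epi c hP)
    change Algebra.FormallyUnramified Γ(Y, c₁.U) Γ(X, P)
    refine ⟨⟨fun a b => ?_⟩⟩
    suffices ∀ a : Ω[Γ(X, P)⁄Γ(Y, c₁.U)], a = 0 by rw [this a, this b]
    intro a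
    obtain ⟨y, rfl⟩ := KaehlerDifferential.map_surjective Γ(S, c₁.V) Γ(Y, c₁.U) Γ(X, P) a
    obtain ⟨z, rfl⟩ := hs y
    exact (KaehlerDifferential.exact_mapBaseChange_map Γ(S, c₁.V) Γ(Y, c₁.U) Γ(X, P) _).mpr ⟨z, rfl⟩

/-- For formally smooth `f` the map `f^*Ω_{Y/S} → Ω_{X/S}` is a monomorphism. -/
theorem mono_of_formallySmooth (hf : MoreMor.IsFormallySmoothHom f) (hY : OmegaSh.IsUniversal dY)
    (hX : OmegaSh.IsUniversal dX) (hc : OmegaSh.IsDiffCompat f dY dX c) : Mono c := by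
  haveI := isQCoh_of_isUniversal hY
  haveI := isQCoh_of_isUniversal hX
  refine mono_of_affine_cover c fun x => ?_
  obtain ⟨c₁, P, hP, e, hxP⟩ := exists_chart_triple f g x
  refine ⟨P, hP, hxP, (app_iff_mapBaseChange hY hX hc c₁ hP e).1.mpr ?_⟩
  let _ := chartAlg g c₁.e
  let _ := Groth.QCohMod.sectionsAlg f e
  letI := (g.appLE c₁.V c₁.U c₁.e ≫ f.appLE c₁.U P e).hom.toAlgebra
  haveI : IsScalarTower Γ(S, c₁.V) Γ(Y, c₁.U) Γ(X, P) := IsScalarTower.of_algebraMap_eq fun _ => rfl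
  haveI : Algebra.FormallySmooth Γ(Y, c₁.U) Γ(X, P) :=
    Groth.FlatmorThree.FormalLift.formallySmooth_appLE hf hP c₁.hU e
  refine (injective_iff_map_eq_zero _).mpr fun a ha => ?_
  obtain ⟨b, rfl⟩ := (Algebra.H1Cotangent.exact_δ_mapBaseChange Γ(S, c₁.V) Γ(Y, c₁.U) Γ(X, P) a).mp ha
  rw [Subsingleton.elim b 0, map_zero]

end Groth.OmegaSheaf
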