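import Groth.Agent.OmegaSheaf.ConormalExact

/-!
# The sequence `C_{Z/Y} → C_{Z/X} → i^*Ω_{X/Y} → 0`
-/

universe u

open CategoryTheory Limits AlgebraicGeometry Opposite TopologicalSpace TensorProduct

namespace Groth.OmegaSheaf

open Groth.QCohMod (res res_res res_smul res_app res_self sectionsAlg)

/-- If `1 ⊗ dx = 0` for `x` killed in `B`, and `R → B` is surjective, then `x` comes from the kernel
of `R → B` up to the square of the kernel of `A → B`. -/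
lemma mem_sup_of_tmul_D_eq_zero {R A B : Type u} [CommRing R] [CommRing A] [CommRing B]
    [Algebra R A] [Algebra A B] [Algebra R B] [IsScalarTower R A B]
    (hRB : Function.Surjective (algebraMap R B)) (hAB : Function.Surjective (algebraMap A B))
    {x : A} (hx : algebraMap A B x = 0)
    (h : (1 : B) ⊗ₜ[A] KaehlerDifferential.D R A x = 0) :
    x ∈ (RingHom.ker (algebraMap R B)).map (algebraMap R A) ⊔ RingHom.ker (algebraMap A B) ^ 2 := by
  set I := RingHom.ker (algebraMap A B) with hI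
  set K := (RingHom.ker (algebraMap R B)).map (algebraMap R A) ⊔ I ^ 2 with hK
  choose r hr using fun a : A ↦ hRB (algebraMap A B a)
  have hwd : ∀ (a : A) (r' : R), algebraMap R B r' = algebraMap A B a →
      Ideal.Quotient.mk K (a - algebraMap R A (r a)) = Ideal.Quotient.mk K (a - algebraMap R A r') := by
    intro a r' hr'
    refine Ideal.Quotient.eq.mpr (Ideal.mem_sup_left ?_)
    rw [show a - algebraMap R A (r a) - (a - algebraMap R A r') = algebraMap R A (r' - r a) by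
      rw [map_sub]; ring]
    refine Ideal.mem_map_of_mem _ ?_
    rw [RingHom.mem_ker, map_sub, hr, hr', sub_self]
  have hmem : ∀ a, a - algebraMap R A (r a) ∈ I := fun a ↦ by
    rw [hI, RingHom.mem_ker, map_sub, ← IsScalarTower.algebraMap_apply, hr, sub_self]
  let δ : Derivation R A (A ⧸ K) := Derivation.mk'
    { toFun := fun a ↦ Ideal.Quotient.mk K (a - algebraMap R A (r a))
      map_add' := fun a b ↦ by
        rw [hwd (a + b) (r a + r b) (by rw [map_add, map_add, hr, hr]), ← map_add]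
        congr 1
        rw [map_add]; ring
      map_smul' := fun t a ↦ by
        have hts : algebraMap R B (t * r a) = algebraMap A B (t • a) := by
          rw [map_mul, hr, Algebra.smul_def, map_mul, ← IsScalarTower.algebraMap_apply]
        rw [hwd (t • a) (t * r a) hts, RingHom.id_apply, Algebra.smul_def,
          Algebra.smul_def, IsScalarTower.algebraMap_apply R A (A ⧸ K), Ideal.Quotient.algebraMap_eq,
          ← map_mul]
        congr 1
        rw [map_mul]; ring }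
    fun a b ↦ by
      change Ideal.Quotient.mk K (a * b - algebraMap R A (r (a * b))) =
        a • Ideal.Quotient.mk K (b - algebraMap R A (r b)) +
          b • Ideal.Quotient.mk K (a - algebraMap R A (r a))
      rw [hwd (a * b) (r a * r b) (by rw [map_mul, map_mul, hr, hr]), Algebra.smul_def,
        Algebra.smul_def, Ideal.Quotient.algebraMap_eq, ← map_mul, ← map_mul, ← map_add]
      refine Ideal.Quotient.eq.mpr ?_
      rw [show a * b - algebraMap R A (r a * r b) -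
          (a * (b - algebraMap R A (r b)) + b * (a - algebraMap R A (r a))) =
          -((a - algebraMap R A (r a)) * (b - algebraMap R A (r b))) by rw [map_mul]; ring]
      refine Ideal.mem_sup_right (neg_mem ?_)
      rw [pow_two]
      exact Ideal.mul_mem_mul (hmem a) (hmem b)
  let L := δ.liftKaehlerDifferential
  have hLrange : ∀ ω : Ω[A⁄R], ∃ y ∈ I, L ω = Ideal.Quotient.mk K y := by
    intro ω
    have hω : ω ∈ Submodule.span A (Set.range (KaehlerDifferential.D R A)) := by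
      rw [KaehlerDifferential.span_range_derivation]; trivial
    induction hω using Submodule.span_induction with
    | mem w hw =>
      obtain ⟨a, rfl⟩ := hw
      exact ⟨_, hmem a, δ.liftKaehlerDifferential_comp_D a⟩
    | zero => exact ⟨0, zero_mem _, by rw [map_zero, map_zero]⟩
    | add a b _ _ ha hb =>
      obtain ⟨y, hy, hy'⟩ := ha; obtain ⟨y', hy1, hy2⟩ := hb
      exact ⟨y + y', add_mem hy hy1, by rw [map_add, map_add, hy', hy2]⟩
    | smul t a _ ha =>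
      obtain ⟨y, hy, hy'⟩ := ha
      exact ⟨t * y, Ideal.mul_mem_left _ _ hy, by
        rw [map_smul, hy', Algebra.smul_def, Ideal.Quotient.algebraMap_eq, map_mul]⟩
  have hex : Function.Exact I.subtype (Algebra.linearMap A B) := fun a ↦
    ⟨fun ha ↦ ⟨⟨a, ha⟩, rfl⟩, fun ⟨y, hy⟩ ↦ hy ▸ y.2⟩
  have h' : ((Algebra.linearMap A B).rTensor Ω[A⁄R])
      ((1 : A) ⊗ₜ[A] KaehlerDifferential.D R A x) = 0 := by
    rw [LinearMap.rTensor_tmul, Algebra.linearMap_apply, map_one]; exact h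
  obtain ⟨w, hw⟩ := ((rTensor_exact Ω[A⁄R] hex hAB) _).mp h'
  have hzero : ∀ w, L (TensorProduct.lid A Ω[A⁄R] (I.subtype.rTensor Ω[A⁄R] w)) = 0 := by
    intro w
    induction w using TensorProduct.induction_on with
    | zero => simp
    | add a b ha hb => rw [map_add, map_add, map_add, ha, hb, add_zero]
    | tmul a ω =>
      rw [LinearMap.rTensor_tmul, TensorProduct.lid_tmul, map_smul]
      obtain ⟨y, hy, hy'⟩ := hLrange ω
      rw [hy', Algebra.smul_def, Ideal.Quotient.algebraMap_eq, ← map_mul,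
        Ideal.Quotient.eq_zero_iff_mem]
      refine Ideal.mem_sup_right ?_
      rw [pow_two]
      exact Ideal.mul_mem_mul a.2 hy
  have hLx : L (KaehlerDifferential.D R A x) = 0 := by
    have := hzero w
    rw [hw, TensorProduct.lid_tmul, one_smul] at this
    exact this
  rw [Derivation.liftKaehlerDifferential_comp_D] at hLx
  change Ideal.Quotient.mk K (x - algebraMap R A (r x)) = 0 at hLx
  rw [hwd x 0 (by rw [map_zero, hx]), map_zero, sub_zero] at hLx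
  exact Ideal.Quotient.eq_zero_iff_mem.mp hLx

variable {Z X Y : Scheme.{u}} (p : X ⟶ Y) (i : Z ⟶ X)

/-- A chart of `p` on which both `i` and `i ≫ p` are closed immersions on functions, with the same
trace on `Z`. -/
lemma exists_triangle_chart [IsImmersion i] [IsImmersion (i ≫ p)] (z : Z) :
    ∃ c₁ : Chart p, IsConormalChart i c₁.U ∧ IsConormalChart (i ≫ p) c₁.V ∧ i z ∈ c₁.U ∧
      i ⁻¹ᵁ c₁.U = (i ≫ p) ⁻¹ᵁ c₁.V := by
  have hzY : (i ≫ p) z ∈ (i ≫ p).coborderRange := subset_coborder ⟨z, rfl⟩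
  obtain ⟨_, ⟨V : Y.Opens, hV, rfl⟩, hzV, hVle⟩ :=
    Y.isBasis_affineOpens.exists_subset_of_mem_open hzY (i ≫ p).coborderRange.2
  have hzX : i z ∈ p ⁻¹ᵁ V ⊓ i.coborderRange := ⟨hzV, subset_coborder ⟨z, rfl⟩⟩
  obtain ⟨_, ⟨W : X.Opens, hW, rfl⟩, hzW, hWle⟩ :=
    X.isBasis_affineOpens.exists_subset_of_mem_open hzX (p ⁻¹ᵁ V ⊓ i.coborderRange).2
  have hVc := isConormalChart_of_le (i ≫ p) hV hVle
  obtain ⟨b, hb, hzb⟩ := hVc.affine_preimage.exists_basicOpen_le (V := i ⁻¹ᵁ W)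
    ⟨z, hzW⟩ (show z ∈ (i ≫ p) ⁻¹ᵁ V from hzV)
  obtain ⟨g, rfl⟩ := hVc.surjective b
  rw [← Scheme.preimage_basicOpen] at hb hzb
  have hWV : W ≤ p ⁻¹ᵁ V := fun q hq ↦ (hWle hq).1
  have heq : X.basicOpen (p.appLE V W hWV g) = W ⊓ p ⁻¹ᵁ Y.basicOpen g :=
    Scheme.basicOpen_appLE p W V hWV g
  have hD := hV.basicOpen g
  have hDle : Y.basicOpen g ≤ V := Y.basicOpen_le g
  have hW' : IsAffineOpen (W ⊓ p ⁻¹ᵁ Y.basicOpen g) := heq ▸ hW.basicOpen _
  refine ⟨⟨W ⊓ p ⁻¹ᵁ Y.basicOpen g, Y.basicOpen g, hW', hD, inf_le_right⟩,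
    isConormalChart_of_le i hW' fun q hq ↦ (hWle hq.1).2,
    isConormalChart_of_le (i ≫ p) hD (hDle.trans hVle), ⟨hzW, hzb⟩, ?_⟩
  exact le_antisymm (fun q hq ↦ hq.2) fun q hq ↦ ⟨hb hq, hq⟩

variable {p i}
variable {Ω : X.Modules} {d : OmegaSh.Der p Ω}
  {ψ : (Scheme.Modules.pullback (𝟙 Z)).obj (Omega.conormal (i ≫ p)) ⟶ Omega.conormal i}
  {φ : Omega.conormal i ⟶ (Scheme.Modules.pullback i).obj Ω}
  [QuasiCompact i]

lemma exists_lift_base (U' : Y.Opens) (s' : Γ(ClSub.idealMod (i ≫ p).ker, U')) :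
    ∃ s : Γ(ClSub.idealMod i.ker, p ⁻¹ᵁ U'), OmegaSh.idealSect i.ker (p ⁻¹ᵁ U') s =
      p.app U' (OmegaSh.idealSect (i ≫ p).ker U' s') :=
  exists_idealSect_of_app_eq_zero i (app_idealSect (i ≫ p) U' s')

/-- `ψ ≫ φ = 0`. -/
theorem conormalMap_comp_conormalDiff (hψ : OmegaSh.IsConormalMap i (i ≫ p) p (𝟙 Z) ψ)
    (hφ : OmegaSh.IsConormalDiff i d φ) : ψ ≫ φ = 0 := by
  let adj := Scheme.Modules.pullbackPushforwardAdjunction (𝟙 Z)
  refine (adj.homEquiv (Omega.conormal (i ≫ p)) _).injective (conormal_hom_ext fun U' s' ↦ ?_)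
  rw [homEquiv_pullback_app (ψ ≫ φ) ((i ≫ p) ⁻¹ᵁ U'), homEquiv_pullback_app 0 ((i ≫ p) ⁻¹ᵁ U')]
  obtain ⟨s, hs⟩ := exists_lift_base U' s'
  have hT : 𝟙 Z ⁻¹ᵁ ((i ≫ p) ⁻¹ᵁ U') ≤ i ⁻¹ᵁ (p ⁻¹ᵁ U') := le_of_eq rfl
  have h1 := hψ.2 U' s' s hs (𝟙 Z ⁻¹ᵁ ((i ≫ p) ⁻¹ᵁ U')) le_rfl hT
  generalize hx : OmegaSh.pullSect (𝟙 Z) (Omega.conormal (i ≫ p)) ((i ≫ p) ⁻¹ᵁ U')
    (OmegaSh.conormalSect (i ≫ p) U' s') = x at h1 ⊢
  change res (Omega.conormal i) le_rfl (ψ.app _ x) =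
    res (Omega.conormal i) hT (OmegaSh.conormalSect i (p ⁻¹ᵁ U') s) at h1
  rw [res_self] at h1
  change φ.app _ (ψ.app _ x) = 0
  rw [h1, ← res_app, hφ (p ⁻¹ᵁ U') s, hs,
    show d.app (p ⁻¹ᵁ U') (p.app U' _) = 0 from d.d_app (X := op U') _, map_zero, map_zero]

variable [IsImmersion i] [IsImmersion (i ≫ p)] (hd : OmegaSh.IsUniversal d)

omit [QuasiCompact i] [IsImmersion i] [IsImmersion (i ≫ p)] in
/-- The base is surjective on a triangle chart. -/
lemma surjective_triangle (c₁ : Chart p) (hV : IsConormalChart (i ≫ p) c₁.V)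
    (heq : i ⁻¹ᵁ c₁.U = (i ≫ p) ⁻¹ᵁ c₁.V) :
    Function.Surjective ((i ≫ p).appLE c₁.V (i ⁻¹ᵁ c₁.U) (i.preimage_mono c₁.e)) := fun b ↦ by
  obtain ⟨g, hg⟩ := hV.surjective (Z.presheaf.map (eqToHom heq.symm).op b)
  refine ⟨g, ?_⟩
  change Z.presheaf.map _ ((i ≫ p).app c₁.V g) = b
  refine (congrArg _ hg).trans ?_
  rw [← CommRingCat.comp_apply, ← Functor.map_comp]
  exact congr($(Z.presheaf.map_id _) b)

include hd in
/-- The last map is an epimorphism. -/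
theorem conormalDiff_epi (hφ : OmegaSh.IsConormalDiff i d φ) : Epi φ := by
  have := isQCoh_of_isUniversal hd
  refine epi_of_affine_cover φ fun z ↦ ?_
  obtain ⟨c₁, hW, hV, hz, heq⟩ := exists_triangle_chart p i z
  refine ⟨i ⁻¹ᵁ c₁.U, hW.affine_preimage, hz, fun y ↦ ?_⟩
  let _ := chartAlg p c₁.e
  let _ : Algebra Γ(Y, c₁.V) Γ(Z, i ⁻¹ᵁ c₁.U) :=
    ((i ≫ p).appLE c₁.V (i ⁻¹ᵁ c₁.U) (i.preimage_mono c₁.e)).hom.toAlgebra
  let _ := sectionsAlg i (le_refl (i ⁻¹ᵁ c₁.U))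
  have : IsScalarTower Γ(Y, c₁.V) Γ(X, c₁.U) Γ(Z, i ⁻¹ᵁ c₁.U) :=
    IsScalarTower.of_algebraMap_eq fun r ↦ (appLE_appLE_chart c₁ r).symm
  have hsurj : Function.Surjective (algebraMap Γ(X, c₁.U) Γ(Z, i ⁻¹ᵁ c₁.U)) := by
    change Function.Surjective (i.appLE c₁.U (i ⁻¹ᵁ c₁.U) le_rfl)
    rw [← Scheme.Hom.app_eq_appLE]
    exact hW.surjective
  have := KaehlerDifferential.subsingleton_of_surjective Γ(Y, c₁.V) Γ(Z, i ⁻¹ᵁ c₁.U)
    (surjective_triangle c₁ hV heq)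
  obtain ⟨z', rfl⟩ := (pullChartEquiv hd i c₁ hW.affine_preimage le_rfl).surjective y
  obtain ⟨w, rfl⟩ := (KaehlerDifferential.exact_kerCotangentToTensor_mapBaseChange Γ(Y, c₁.V)
    Γ(X, c₁.U) Γ(Z, i ⁻¹ᵁ c₁.U) hsurj z').mp (Subsingleton.elim _ _)
  obtain ⟨⟨x, hx⟩, rfl⟩ := Ideal.toCotangent_surjective _ w
  obtain ⟨k, hk⟩ := exists_idealSect_of_app_eq_zero i (x := x)
    (by rw [Scheme.Hom.app_eq_appLE]; exact hx)
  refine ⟨OmegaSh.conormalSect i c₁.U k, ?_⟩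
  rw [app_conormalSect_chart hd hφ c₁ hW, hk, KaehlerDifferential.kerCotangentToTensor_toCotangent]

include hd in
/-- Exactness in the middle. -/
theorem conormalMap_exact [QuasiCompact (i ≫ p)] (hψ : OmegaSh.IsConormalMap i (i ≫ p) p (𝟙 Z) ψ)
    (hφ : OmegaSh.IsConormalDiff i d φ) (w : ψ ≫ φ = 0) :
    (ShortComplex.mk ψ φ w).Exact := by
  have := isQCoh_of_isUniversal hd
  refine exact_of_affine_cover _ fun z ↦ ?_
  obtain ⟨c₁, hW, hV, hz, heq⟩ := exists_triangle_chart p i z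
  refine ⟨i ⁻¹ᵁ c₁.U, hW.affine_preimage, hz, fun m hm ↦ ?_⟩
  change φ.app (i ⁻¹ᵁ c₁.U) m = 0 at hm
  let _ := chartAlg p c₁.e
  let _ : Algebra Γ(Y, c₁.V) Γ(Z, i ⁻¹ᵁ c₁.U) :=
    ((i ≫ p).appLE c₁.V (i ⁻¹ᵁ c₁.U) (i.preimage_mono c₁.e)).hom.toAlgebra
  let _ := sectionsAlg i (le_refl (i ⁻¹ᵁ c₁.U))
  have : IsScalarTower Γ(Y, c₁.V) Γ(X, c₁.U) Γ(Z, i ⁻¹ᵁ c₁.U) :=
    IsScalarTower.of_algebraMap_eq fun r ↦ (appLE_appLE_chart c₁ r).symm
  have hsurj : Function.Surjective (algebraMap Γ(X, c₁.U) Γ(Z, i ⁻¹ᵁ c₁.U)) := by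
    change Function.Surjective (i.appLE c₁.U (i ⁻¹ᵁ c₁.U) le_rfl)
    rw [← Scheme.Hom.app_eq_appLE]
    exact hW.surjective
  obtain ⟨k, rfl⟩ := hW.conormalSect_surjective m
  rw [app_conormalSect_chart hd hφ c₁ hW] at hm
  have hx : algebraMap Γ(X, c₁.U) Γ(Z, i ⁻¹ᵁ c₁.U) (OmegaSh.idealSect i.ker c₁.U k) = 0 := by
    change i.appLE c₁.U (i ⁻¹ᵁ c₁.U) le_rfl _ = 0
    rw [← Scheme.Hom.app_eq_appLE]
    exact app_idealSect i _ k
  have hmem := mem_sup_of_tmul_D_eq_zero (surjective_triangle c₁ hV heq) hsurj hx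
    ((pullChartEquiv hd i c₁ hW.affine_preimage le_rfl).map_eq_zero_iff.mp hm)
  obtain ⟨y, hy, q, hq, hyq⟩ := Submodule.mem_sup.mp hmem
  have h₁ : i ⁻¹ᵁ c₁.U ≤ 𝟙 Z ⁻¹ᵁ ((i ≫ p) ⁻¹ᵁ c₁.V) := heq.le
  have key : ∀ y ∈ (RingHom.ker (algebraMap Γ(Y, c₁.V) Γ(Z, i ⁻¹ᵁ c₁.U))).map
      (algebraMap Γ(Y, c₁.V) Γ(X, c₁.U)),
      ∃ (k' : Γ(ClSub.idealMod i.ker, c₁.U)) (l : _),
        OmegaSh.idealSect i.ker c₁.U k' = y ∧
          ψ.app (i ⁻¹ᵁ c₁.U) l = OmegaSh.conormalSect i c₁.U k' := by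
    intro y hy
    induction hy using Submodule.span_induction with
    | zero => exact ⟨0, 0, map_zero _, by rw [map_zero, map_zero]⟩
    | add a b _ _ ha hb =>
      obtain ⟨ka, la, hka, hla⟩ := ha; obtain ⟨kb, lb, hkb, hlb⟩ := hb
      exact ⟨ka + kb, la + lb, by rw [map_add, hka, hkb], by rw [map_add, map_add, hla, hlb]⟩
    | smul t a _ ha =>
      obtain ⟨ka, la, hka, hla⟩ := ha
      exact ⟨t • ka, i.app c₁.U t • la, by rw [idealSect_smul, hka]; rfl,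
        by rw [Scheme.Modules.Hom.app_smul, conormalSect_smul, hla]⟩
    | mem y hy =>
      obtain ⟨r, hr, rfl⟩ := hy
      have hr0 : (i ≫ p).app c₁.V r = 0 := by
        apply (ConcreteCategory.bijective_of_isIso (Z.presheaf.map (eqToHom heq).op)).1
        rw [map_zero]
        exact hr
      obtain ⟨s', hs'⟩ := exists_idealSect_of_app_eq_zero (i ≫ p) hr0
      obtain ⟨s, hs⟩ := exists_lift_base (i := i) c₁.V s'
      refine ⟨res _ c₁.e s, res _ h₁ (OmegaSh.pullSect (𝟙 Z) (Omega.conormal (i ≫ p))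
        ((i ≫ p) ⁻¹ᵁ c₁.V) (OmegaSh.conormalSect (i ≫ p) c₁.V s')), ?_, ?_⟩
      · change OmegaSh.idealSect i.ker c₁.U ((ClSub.idealMod i.ker).presheaf.map _ s) = _
        rw [idealSect_res, hs, hs']
        rfl
      · rw [← res_app, ← res_conormalSect i c₁.e]
        exact hψ.2 c₁.V s' s hs _ h₁ (i.preimage_mono c₁.e)
  obtain ⟨k', l, hk', hl⟩ := key y hy
  refine ⟨l, ?_⟩
  change ψ.app (i ⁻¹ᵁ c₁.U) l = _
  rw [hl, ← sub_eq_zero, ← map_sub, hW.conormalSect_eq_zero_iff, map_sub, hk', ← hyq]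
  have hq' : q ∈ RingHom.ker (i.app c₁.U).hom ^ 2 := by
    rw [Scheme.Hom.app_eq_appLE]; exact hq
  simpa using neg_mem hq'

end Groth.OmegaSheaf
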