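import Groth.Agent.OmegaSheaf.Universal
import Mathlib.AlgebraicGeometry.Modules.Tilde

/-!
# The sheaf of differentials of a morphism of affine schemes
-/

universe u

open CategoryTheory Limits AlgebraicGeometry Opposite TopologicalSpace

namespace Groth.OmegaSheaf

lemma exists_kaehlerMap {R S R' S' : Type u} [CommRing R] [CommRing S] [CommRing R'] [CommRing S']
    [Algebra R S] [Algebra R' S'] (eR : R →+* R') (eS : S →+* S')
    (h : ∀ r, eS (algebraMap R S r) = algebraMap R' S' (eR r)) :
    ∃ g : Ω[S⁄R] →+ Ω[S'⁄R'], (∀ s x, g (s • x) = eS s • g x) ∧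
      ∀ s, g (KaehlerDifferential.D R S s) = KaehlerDifferential.D R' S' (eS s) := by
  let _ : Module S Ω[S'⁄R'] := Module.compHom _ eS
  let _ : Module R Ω[S'⁄R'] := Module.compHom _ ((algebraMap R' S').comp eR)
  have : IsScalarTower R S Ω[S'⁄R'] := IsScalarTower.of_algebraMap_smul fun r x ↦ by
    change eS (algebraMap R S r) • x = algebraMap R' S' (eR r) • x
    rw [h]
  let d : Derivation R S Ω[S'⁄R'] := Derivation.mk'
    { toFun := fun s ↦ KaehlerDifferential.D R' S' (eS s)
      map_add' := fun a b ↦ by rw [map_add, map_add]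
      map_smul' := fun r a ↦ by
        change _ = algebraMap R' S' (eR r) • KaehlerDifferential.D R' S' (eS a)
        rw [Algebra.smul_def, map_mul, h, Derivation.leibniz, Derivation.map_algebraMap,
          smul_zero, add_zero] }
    (fun a b ↦ by
      change KaehlerDifferential.D R' S' (eS (a * b)) =
        eS a • KaehlerDifferential.D R' S' (eS b) + eS b • KaehlerDifferential.D R' S' (eS a)
      rw [map_mul, Derivation.leibniz])
  exact ⟨d.liftKaehlerDifferential.toAddMonoidHom, fun s x ↦ map_smul d.liftKaehlerDifferential s x,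
    fun s ↦ d.liftKaehlerDifferential_comp_D s⟩

/-- Kähler differentials are invariant under isomorphisms of ring maps. -/
lemma exists_kaehlerEquiv {R S R' S' : Type u} [CommRing R] [CommRing S] [CommRing R'] [CommRing S']
    [Algebra R S] [Algebra R' S'] (eR : R ≃+* R') (eS : S ≃+* S')
    (h : ∀ r, eS (algebraMap R S r) = algebraMap R' S' (eR r)) :
    ∃ g : Ω[S⁄R] →+ Ω[S'⁄R'], Function.Bijective g ∧ (∀ s x, g (s • x) = eS s • g x) ∧
      ∀ s, g (KaehlerDifferential.D R S s) = KaehlerDifferential.D R' S' (eS s) := by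
  obtain ⟨g, hg, hgD⟩ := exists_kaehlerMap eR.toRingHom eS.toRingHom h
  obtain ⟨g', hg', hgD'⟩ := exists_kaehlerMap eR.symm.toRingHom eS.symm.toRingHom fun r ↦ by
    apply eS.injective
    simp [h]
  refine ⟨g, Function.bijective_iff_has_inverse.mpr ⟨g', fun x ↦ ?_, fun x ↦ ?_⟩, hg, hgD⟩
  · have hx : x ∈ Submodule.span S (Set.range (KaehlerDifferential.D R S)) := by
      rw [KaehlerDifferential.span_range_derivation]; trivial
    induction hx using Submodule.span_induction with
    | mem x hx => obtain ⟨s, rfl⟩ := hx; simp [hgD, hgD']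
    | zero => simp
    | add a b _ _ ha hb => simp [ha, hb]
    | smul r a _ ha => simp [hg, hg', ha]
  · have hx : x ∈ Submodule.span S' (Set.range (KaehlerDifferential.D R' S')) := by
      rw [KaehlerDifferential.span_range_derivation]; trivial
    induction hx using Submodule.span_induction with
    | mem x hx => obtain ⟨s, rfl⟩ := hx; simp [hgD, hgD']
    | zero => simp
    | add a b _ _ ha hb => simp [ha, hb]
    | smul r a _ ha => simp [hg, hg', ha]

variable (R A : Type u) [CommRing R] [CommRing A] [Algebra R A]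

/-- Global differentials of `Spec A → Spec R`. -/
theorem exists_gammaEquiv :
    ∃ g : Ω[A⁄R] ≃ₗ[A] (moduleSpecΓFunctor (R := CommRingCat.of A)).obj
        (Omega.sheaf (Spec.map (CommRingCat.ofHom (algebraMap R A)))),
      ∀ a, g (KaehlerDifferential.D R A a) =
        (OmegaSh.dOmega (Spec.map (CommRingCat.ofHom (algebraMap R A)))).app ⊤
          ((Scheme.ΓSpecIso (CommRingCat.of A)).inv a) := by
  let f := Spec.map (CommRingCat.ofHom (algebraMap R A))
  let e : (⊤ : (Spec (CommRingCat.of A)).Opens) ≤ f ⁻¹ᵁ ⊤ := le_rfl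
  let _ := chartAlg f e
  let eR : R ≃+* Γ(Spec (CommRingCat.of R), ⊤) :=
    (Scheme.ΓSpecIso (CommRingCat.of R)).symm.commRingCatIsoToRingEquiv
  let eA : A ≃+* Γ(Spec (CommRingCat.of A), ⊤) :=
    (Scheme.ΓSpecIso (CommRingCat.of A)).symm.commRingCatIsoToRingEquiv
  have h : ∀ r, eA (algebraMap R A r) = algebraMap Γ(Spec (CommRingCat.of R), ⊤) _ (eR r) :=
    fun r ↦ by
      have := congr($(Scheme.ΓSpecIso_inv_naturality (CommRingCat.ofHom (algebraMap R A))) r)
      change (Scheme.ΓSpecIso (CommRingCat.of A)).inv (algebraMap R A r) = f.appLE ⊤ ⊤ e _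
      change _ = f.appLE ⊤ (f ⁻¹ᵁ ⊤) le_rfl _
      rw [← Scheme.Hom.app_eq_appLE]
      exact this
  obtain ⟨g, hg, hgs, hgD⟩ := exists_kaehlerEquiv eR eA h
  let E := chartEquiv f e (isAffineOpen_top _) (isAffineOpen_top _)
  let M := (moduleSpecΓFunctor (R := CommRingCat.of A)).obj (Omega.sheaf f)
  let φ : Ω[A⁄R] → M := fun x ↦ E (g x)
  have hbij : Function.Bijective φ := E.bijective.comp hg
  refine ⟨LinearEquiv.ofBijective
    { toFun := φ
      map_add' := fun x y ↦ (congrArg E (map_add g x y)).trans (map_add E _ _)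
      map_smul' := fun a x ↦ ?_ } hbij, fun a ↦ ?_⟩
  · simp only [φ]
    rw [hgs, map_smul]
    change _ • _ = ((Spec (CommRingCat.of A)).presheaf.map (⊤ : (Spec (CommRingCat.of A)).Opens).leTop.op
      ((Scheme.ΓSpecIso (CommRingCat.of A)).inv a)) • E (g x)
    rw [Subsingleton.elim (⊤ : (Spec (CommRingCat.of A)).Opens).leTop (𝟙 _), op_id,
      CategoryTheory.Functor.map_id]
    rfl
  · change E (g _) = _
    rw [hgD, chartEquiv_D]
    rfl

/-- The sheaf of differentials of `Spec A → Spec R` is `Ω[A⁄R]~`. -/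
theorem nonempty_sheaf_iso_tilde :
    Nonempty (Omega.sheaf (Spec.map (CommRingCat.ofHom (algebraMap R A))) ≅
      tilde (R := CommRingCat.of A) (ModuleCat.of A (Ω[A⁄R]))) := by
  obtain ⟨g, -⟩ := exists_gammaEquiv R A
  let M := Omega.sheaf (Spec.map (CommRingCat.ofHom (algebraMap R A)))
  have : M.IsQuasicoherent := inferInstance
  have : IsIso (Scheme.Modules.fromTildeΓ (R := CommRingCat.of A) M) :=
    Scheme.Modules.isIso_fromTildeΓ_of_isQuasicoherent (R := CommRingCat.of A) M
  exact ⟨(asIso (Scheme.Modules.fromTildeΓ (R := CommRingCat.of A) M)).symm ≪≫ (tilde.functor (CommRingCat.of A)).mapIso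
    g.symm.toModuleIso⟩

end Groth.OmegaSheaf
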