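import Groth.Agent.OmegaSheaf.IdealMod
import Mathlib.RingTheory.Kaehler.Basic
import Mathlib.AlgebraicGeometry.Morphisms.Flat

/-!
# Sections of the sheaf of differentials on an affine chart

For `f : X ⟶ Y` quasi-separated, `U ⊆ f⁻¹ V` affine opens: `Γ(Ω_{X/Y}, U) = Ω[Γ(U)⁄Γ(V)]`,
matching `OmegaSh.dOmega f` with the universal derivation.
-/

universe u

open CategoryTheory Limits AlgebraicGeometry Opposite TopologicalSpace TensorProduct

namespace Groth.OmegaSheaf

variable {X Y : Scheme.{u}} (f : X ⟶ Y) {U : X.Opens} {V : Y.Opens} (e : U ≤ f ⁻¹ᵁ V)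

/-- `Γ(Y, V) → Γ(X, U)`. -/
@[reducible]
noncomputable def chartAlg : Algebra Γ(Y, V) Γ(X, U) := (f.appLE V U e).hom.toAlgebra

lemma diagonal_preimage_diagNbhd :
    pullback.diagonal f ⁻¹ᵁ OmegaSh.diagNbhd f U = U :=
  le_antisymm (OmegaSh.diagonal_preimage_le f le_rfl) (OmegaSh.le_preimage_diagNbhd f U)

variable (hV : IsAffineOpen V) (hU : IsAffineOpen U)

include hV hU in
lemma isAffineOpen_diagNbhd (e : U ≤ f ⁻¹ᵁ V) : IsAffineOpen (OmegaSh.diagNbhd f U) :=
  have : IsAffine U := hU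
  have : IsAffine V := hV
  .of_isIso (Scheme.Hom.isPullback_resLE (IsPullback.of_hasPullback f f) e e rfl).isoPullback.hom

include hV hU in
lemma isPushout_diagNbhd :
    IsPushout (f.appLE V U e) (f.appLE V U e)
      ((pullback.fst f f).appLE U (OmegaSh.diagNbhd f U) inf_le_left)
      ((pullback.snd f f).appLE U (OmegaSh.diagNbhd f U) inf_le_right) :=
  (isIso_pushoutSection_iff (H := IsPullback.of_hasPullback f f) e e rfl).mp
    (isIso_pushoutSection_of_isAffineOpen _ e e rfl hV hU hU)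

/-- `A ⊗_R A ≅ Γ(U ×_V U)`. -/
noncomputable def θ :
    letI := chartAlg f e
    (Γ(X, U) ⊗[Γ(Y, V)] Γ(X, U)) ≃+* Γ(pullback f f, OmegaSh.diagNbhd f U) :=
  letI := chartAlg f e
  ((CommRingCat.isPushout_tensorProduct Γ(Y, V) Γ(X, U) Γ(X, U)).isoIsPushout _ _
    (isPushout_diagNbhd f e hV hU)).commRingCatIsoToRingEquiv

lemma θ_inl (a : Γ(X, U)) :
    letI := chartAlg f e
    θ f e hV hU (a ⊗ₜ 1) = (pullback.fst f f).appLE U (OmegaSh.diagNbhd f U) inf_le_left a := by
  letI := chartAlg f e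
  exact congr($((CommRingCat.isPushout_tensorProduct Γ(Y, V) Γ(X, U) Γ(X, U)).inl_isoIsPushout_hom
    _ _ (isPushout_diagNbhd f e hV hU)) a)

lemma θ_inr (a : Γ(X, U)) :
    letI := chartAlg f e
    θ f e hV hU (1 ⊗ₜ a) = (pullback.snd f f).appLE U (OmegaSh.diagNbhd f U) inf_le_right a := by
  letI := chartAlg f e
  exact congr($((CommRingCat.isPushout_tensorProduct Γ(Y, V) Γ(X, U) Γ(X, U)).inr_isoIsPushout_hom
    _ _ (isPushout_diagNbhd f e hV hU)) a)

/-- `Δ♯ : Γ(U ×_V U) → Γ(U)`. -/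
noncomputable def δ : Γ(pullback f f, OmegaSh.diagNbhd f U) →+* Γ(X, U) :=
  ((pullback.diagonal f).appLE (OmegaSh.diagNbhd f U) U (OmegaSh.le_preimage_diagNbhd f U)).hom

lemma δ_fst (a : Γ(X, U)) :
    δ f (U := U) ((pullback.fst f f).appLE U (OmegaSh.diagNbhd f U) inf_le_left a) = a :=
  OmegaSh.res_diagonal_app_appLE f _ (pullback.diagonal_fst f) U inf_le_left a

lemma δ_snd (a : Γ(X, U)) :
    δ f (U := U) ((pullback.snd f f).appLE U (OmegaSh.diagNbhd f U) inf_le_right a) = a :=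
  OmegaSh.res_diagonal_app_appLE f _ (pullback.diagonal_snd f) U inf_le_right a

lemma δ_θ :
    letI := chartAlg f e
    ∀ x : Γ(X, U) ⊗[Γ(Y, V)] Γ(X, U),
      δ f (U := U) (θ f e hV hU x) = Algebra.TensorProduct.lmul' Γ(Y, V) x := by
  letI := chartAlg f e
  intro x
  induction x using TensorProduct.induction_on with
  | zero => rw [map_zero, map_zero, map_zero]
  | tmul a b =>
    have hab : (a ⊗ₜ[Γ(Y, V)] b) = (a ⊗ₜ 1) * (1 ⊗ₜ b) := by
      rw [Algebra.TensorProduct.tmul_mul_tmul, mul_one, one_mul]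
    rw [hab, map_mul, map_mul, map_mul, θ_inl, θ_inr, δ_fst, δ_snd]
    simp
  | add x y hx hy => rw [map_add, map_add, map_add, hx, hy]

variable [QuasiSeparated f]

include hV hU in
lemma mem_ker_ideal_iff (e : U ≤ f ⁻¹ᵁ V) (x : Γ(pullback f f, OmegaSh.diagNbhd f U)) :
    x ∈ (pullback.diagonal f).ker.ideal ⟨_, isAffineOpen_diagNbhd f hV hU e⟩ ↔
      δ f (U := U) x = 0 := by
  rw [Scheme.Hom.ker_apply, RingHom.mem_ker]
  have : IsIso (homOfLE (OmegaSh.le_preimage_diagNbhd f U)) :=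
    ⟨homOfLE (diagonal_preimage_diagNbhd f).le, Subsingleton.elim _ _, Subsingleton.elim _ _⟩
  exact ((map_eq_zero_iff _ (ConcreteCategory.bijective_of_isIso
    (X.presheaf.map (homOfLE (OmegaSh.le_preimage_diagNbhd f U)).op)).1).symm :)

lemma idealSect_idealLift (s : Γ(X, U)) :
    OmegaSh.idealSect (pullback.diagonal f).ker (OmegaSh.diagNbhd f U) (OmegaSh.idealLift f U s) =
      OmegaSh.diagDiff f U s :=
  congrArg (OmegaSh.fnSect (pullback f f) _) (OmegaSh.ι_idealLift f U s)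

include hV hU in
lemma span_idealLift (e : U ≤ f ⁻¹ᵁ V) :
    Submodule.span Γ(pullback f f, OmegaSh.diagNbhd f U)
      (Set.range (OmegaSh.idealLift f U)) = ⊤ := by
  let _ := chartAlg f e
  rw [eq_top_iff]
  intro k _
  have hW := isAffineOpen_diagNbhd f hV hU e
  have hk := (mem_ker_ideal_iff f hV hU e _).mp (idealSect_mem _ ⟨_, hW⟩ k)
  have hmem : (θ f e hV hU).symm
      (OmegaSh.idealSect (pullback.diagonal f).ker _ k) ∈
      KaehlerDifferential.ideal Γ(Y, V) Γ(X, U) := by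
    rw [RingHom.mem_ker, ← δ_θ f e hV hU, RingEquiv.apply_symm_apply, hk]
  rw [← KaehlerDifferential.span_range_eq_ideal] at hmem
  have key : ∀ z ∈ Ideal.span (Set.range fun s : Γ(X, U) ↦ (1 : Γ(X, U)) ⊗ₜ[Γ(Y, V)] s - s ⊗ₜ 1),
      ∃ k' ∈ Submodule.span Γ(pullback f f, OmegaSh.diagNbhd f U)
        (Set.range (OmegaSh.idealLift f U)),
        OmegaSh.idealSect (pullback.diagonal f).ker _ k' = θ f e hV hU z := by
    intro z hz
    induction hz using Submodule.span_induction with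
    | mem z hz =>
      obtain ⟨s, rfl⟩ := hz
      refine ⟨_, Submodule.subset_span ⟨s, rfl⟩, ?_⟩
      rw [idealSect_idealLift, map_sub, θ_inl, θ_inr]
      rfl
    | zero => exact ⟨0, zero_mem _, by rw [map_zero, map_zero]⟩
    | add x y _ _ hx hy =>
      obtain ⟨a, ha, ha'⟩ := hx
      obtain ⟨b, hb, hb'⟩ := hy
      exact ⟨a + b, add_mem ha hb, by rw [map_add, map_add, ha', hb']⟩
    | smul r x _ hx =>
      obtain ⟨a, ha, ha'⟩ := hx
      exact ⟨θ f e hV hU r • a, Submodule.smul_mem _ _ ha, by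
        rw [idealSect_smul, smul_eq_mul, map_mul, ha']⟩
  obtain ⟨k', hk', h'⟩ := key _ hmem
  rw [RingEquiv.apply_symm_apply] at h'
  rwa [← idealSect_injective _ _ h']

/-- `Γ(idealMod, U ×_V U) → Ω[A⁄R]`. -/
noncomputable def ψ :
    letI := chartAlg f e
    Γ(ClSub.idealMod (pullback.diagonal f).ker, OmegaSh.diagNbhd f U) →+ Ω[Γ(X, U)⁄Γ(Y, V)] :=
  letI := chartAlg f e
  AddMonoidHom.mk'
    (fun k ↦ KaehlerDifferential.fromIdeal Γ(Y, V) Γ(X, U)
      ⟨(θ f e hV hU).symm (OmegaSh.idealSect (pullback.diagonal f).ker _ k), by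
        rw [RingHom.mem_ker, ← δ_θ f e hV hU, RingEquiv.apply_symm_apply,
          ← mem_ker_ideal_iff f hV hU e]
        exact idealSect_mem _ ⟨_, isAffineOpen_diagNbhd f hV hU e⟩ k⟩)
    (fun a b ↦ by
      rw [← map_add]
      congr 1
      exact Subtype.ext (by simp))

lemma tensor_smul_kaehler {R S : Type u} [CommRing R] [CommRing S] [Algebra R S] (b : S ⊗[R] S)
    (x : Ω[S⁄R]) : b • x = Algebra.TensorProduct.lmul' R b • x := by
  obtain ⟨x, rfl⟩ := KaehlerDifferential.fromIdeal_surjective R S x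
  have h : b - Algebra.TensorProduct.lmul' R b ⊗ₜ 1 ∈ KaehlerDifferential.ideal R S := by
    simp [RingHom.mem_ker]
  have h0 : (b - Algebra.TensorProduct.lmul' R b ⊗ₜ 1) •
      KaehlerDifferential.fromIdeal R S x = 0 := by
    rw [← map_smul]
    refine ((KaehlerDifferential.ideal R S).toCotangent_eq_zero _).mpr ?_
    rw [pow_two]
    exact Ideal.mul_mem_mul h x.2
  rw [sub_smul, sub_eq_zero] at h0
  rw [h0]
  exact algebraMap_smul (S ⊗[R] S) (Algebra.TensorProduct.lmul' R b) _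

lemma ψ_smul (r : Γ(pullback f f, OmegaSh.diagNbhd f U))
    (k : Γ(ClSub.idealMod (pullback.diagonal f).ker, OmegaSh.diagNbhd f U)) :
    letI := chartAlg f e
    ψ f e hV hU (r • k) = δ f (U := U) r • ψ f e hV hU k := by
  letI := chartAlg f e
  have h : ψ f e hV hU (r • k) = (θ f e hV hU).symm r • ψ f e hV hU k := by
    change KaehlerDifferential.fromIdeal _ _ _ =
      (θ f e hV hU).symm r • KaehlerDifferential.fromIdeal _ _ _
    rw [← map_smul]
    congr 1
    exact Subtype.ext (by simp [idealSect_smul])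
  rw [h, tensor_smul_kaehler, ← δ_θ f e hV hU, RingEquiv.apply_symm_apply]

lemma ψ_idealLift (s : Γ(X, U)) :
    letI := chartAlg f e
    ψ f e hV hU (OmegaSh.idealLift f U s) = KaehlerDifferential.D Γ(Y, V) Γ(X, U) s := by
  letI := chartAlg f e
  change KaehlerDifferential.fromIdeal _ _ _ = KaehlerDifferential.fromIdeal _ _ _
  congr 1
  refine Subtype.ext ((θ f e hV hU).injective ?_)
  change (θ f e hV hU) ((θ f e hV hU).symm _) = θ f e hV hU (1 ⊗ₜ s - s ⊗ₜ 1)
  rw [RingEquiv.apply_symm_apply, idealSect_idealLift, map_sub, θ_inl, θ_inr]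
  rfl

/-- A semilinear map on sections factors through the sections of the inverse image. -/
lemma exists_pullHom {P Z : Scheme.{u}} (g : Z ⟶ P) (M : P.Modules) [M.IsQuasicoherent]
    {W : P.Opens} {T : Z.Opens} (hle : T ≤ g ⁻¹ᵁ W) (hW : IsAffineOpen W) (hT : IsAffineOpen T)
    {N : Type u} [AddCommGroup N] [Module Γ(Z, T) N] (φ : Γ(M, W) →+ N)
    (hφ : ∀ (r : Γ(P, W)) (m : Γ(M, W)), φ (r • m) = g.appLE W T hle r • φ m) :
    ∃ Φ : Γ((Scheme.Modules.pullback g).obj M, T) →ₗ[Γ(Z, T)] N,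
      ∀ m, Φ (Groth.QCohMod.res _ hle (Groth.PicAux.pullSec g M m)) = φ m := by
  let _ := Groth.QCohMod.sectionsAlg g hle
  let _ : Module Γ(P, W) N := Module.compHom N (g.appLE W T hle).hom
  have : IsScalarTower Γ(P, W) Γ(Z, T) N := IsScalarTower.of_algebraMap_smul fun _ _ ↦ rfl
  let Ψ : Γ(Z, T) ⊗[Γ(P, W)] Γ(M, W) →ₗ[Γ(Z, T)] N :=
    LinearMap.liftBaseChange Γ(Z, T) { toFun := φ, map_add' := map_add φ, map_smul' := hφ }
  let E := Groth.QCohMod.pullSecEquiv g M hle hW hT
  refine ⟨Ψ ∘ₗ E.symm.toLinearMap, fun m ↦ ?_⟩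
  have h : E.symm (Groth.QCohMod.res _ hle (Groth.PicAux.pullSec g M m)) = 1 ⊗ₜ m := by
    rw [LinearEquiv.symm_apply_eq]
    change _ = Groth.QCohMod.pullSecTensor _ _ _ _
    rw [Groth.QCohMod.pullSecTensor_tmul, one_smul]
  rw [LinearMap.comp_apply, LinearEquiv.coe_coe, h, LinearMap.liftBaseChange_tmul, one_smul]
  rfl

/-- Restriction to `U` of pulled back ideal sections. -/
noncomputable def pullIdeal :
    Γ(ClSub.idealMod (pullback.diagonal f).ker, OmegaSh.diagNbhd f U) →+ Γ(Omega.sheaf f, U) :=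
  AddMonoidHom.mk'
    (fun k ↦ Groth.QCohMod.res _ (OmegaSh.le_preimage_diagNbhd f U)
      (Groth.PicAux.pullSec (pullback.diagonal f) (ClSub.idealMod (pullback.diagonal f).ker) k))
    (fun a b ↦ (congrArg _ (map_add _ a b)).trans (map_add _ _ _))

lemma pullIdeal_idealLift (s : Γ(X, U)) :
    pullIdeal f (OmegaSh.idealLift f U s) = (OmegaSh.dOmega f).app U s :=
  rfl

include hV hU in
lemma span_d (e : U ≤ f ⁻¹ᵁ V) :
    Submodule.span Γ(X, U) (Set.range ((OmegaSh.dOmega f).app U)) = ⊤ := by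
  letI := Groth.QCohMod.sectionsAlg (pullback.diagonal f) (OmegaSh.le_preimage_diagNbhd f U)
  letI := chartAlg f e
  rw [eq_top_iff]
  rintro x -
  obtain ⟨z, rfl⟩ := (Groth.QCohMod.pullSecTensor_bijective (pullback.diagonal f)
    (ClSub.idealMod (pullback.diagonal f).ker) (OmegaSh.le_preimage_diagNbhd f U)
    (isAffineOpen_diagNbhd f hV hU e) hU).2 x
  induction z using TensorProduct.induction_on with
  | zero => rw [map_zero]; exact zero_mem _
  | add a b ha hb => rw [map_add]; exact add_mem ha hb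
  | tmul b m =>
    rw [Groth.QCohMod.pullSecTensor_tmul]
    refine Submodule.smul_mem _ _ ?_
    have hm : m ∈ Submodule.span Γ(pullback f f, OmegaSh.diagNbhd f U)
        (Set.range (OmegaSh.idealLift f U)) := by
      rw [span_idealLift f hV hU e]; trivial
    induction hm using Submodule.span_induction with
    | mem m hm =>
      obtain ⟨s, rfl⟩ := hm
      exact Submodule.subset_span ⟨s, rfl⟩
    | zero => exact (map_zero (pullIdeal f (U := U))).symm ▸ zero_mem _
    | add a b _ _ ha hb => exact (map_add (pullIdeal f (U := U)) a b).symm ▸ add_mem ha hb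
    | smul r a _ ha =>
      rw [Groth.QCohMod.res_pullSec_smul]
      exact Submodule.smul_mem _ _ ha

/-- `R`-module structure on the sections. -/
@[reducible]
noncomputable def chartModule (M : X.Modules) : Module Γ(Y, V) Γ(M, U) :=
  Module.compHom _ (f.appLE V U e).hom

/-- `dOmega f` on the chart, as a derivation. -/
noncomputable def chartDer {M : X.Modules} (D : OmegaSh.Der f M) :
    letI := chartAlg f e
    letI := chartModule f e M
    Derivation Γ(Y, V) Γ(X, U) Γ(M, U) :=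
  letI := chartAlg f e
  letI := chartModule f e M
  Derivation.mk'
    { toFun := fun a ↦ D.app U a
      map_add' := map_add (D.app U)
      map_smul' := fun r a ↦ by
        change D.app U (f.appLE V U e r * a) = f.appLE V U e r • D.app U a
        have h0 : D.app U (f.appLE V U e r) = 0 := by
          have h1 : D.app U (X.presheaf.map (homOfLE e).op (f.app V r)) =
              M.presheaf.map (homOfLE e).op (D.app (f ⁻¹ᵁ V) (f.app V r)) :=
            D.d_map (homOfLE e).op _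
          have h2 : D.app (f ⁻¹ᵁ V) (f.app V r) = 0 := D.d_app (X := op V) r
          rw [h2, map_zero] at h1
          exact h1
        have hm : D.app U (f.appLE V U e r * a) =
            f.appLE V U e r • D.app U a + a • D.app U (f.appLE V U e r) := D.d_mul _ _
        rw [hm, h0, smul_zero, add_zero] }
    (fun a b ↦ D.d_mul a b)

omit [QuasiSeparated f] in
@[simp]
lemma chartDer_apply {M : X.Modules} (D : OmegaSh.Der f M) (a : Γ(X, U)) :
    letI := chartAlg f e
    letI := chartModule f e M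
    chartDer f e D a = D.app U a :=
  rfl

/-- The linear map `Ω[A⁄R] → Γ(M, U)` of a derivation. -/
noncomputable def chartLift {M : X.Modules} (D : OmegaSh.Der f M) :
    letI := chartAlg f e
    Ω[Γ(X, U)⁄Γ(Y, V)] →ₗ[Γ(X, U)] Γ(M, U) :=
  letI := chartAlg f e
  letI := chartModule f e M
  haveI : IsScalarTower Γ(Y, V) Γ(X, U) Γ(M, U) := IsScalarTower.of_algebraMap_smul fun _ _ ↦ rfl
  (chartDer f e D).liftKaehlerDifferential

omit [QuasiSeparated f] in
lemma chartLift_D {M : X.Modules} (D : OmegaSh.Der f M) (a : Γ(X, U)) :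
    letI := chartAlg f e
    chartLift f e D (KaehlerDifferential.D Γ(Y, V) Γ(X, U) a) = D.app U a := by
  letI := chartAlg f e
  letI := chartModule f e M
  haveI : IsScalarTower Γ(Y, V) Γ(X, U) Γ(M, U) := IsScalarTower.of_algebraMap_smul fun _ _ ↦ rfl
  exact (chartDer f e D).liftKaehlerDifferential_comp_D a

include hV hU in
theorem chartLift_bijective :
    letI := chartAlg f e
    Function.Bijective (chartLift f e (OmegaSh.dOmega f)) := by
  let _ := chartAlg f e
  obtain ⟨Φ, hΦ'⟩ : ∃ Φ : Γ(Omega.sheaf f, U) →ₗ[Γ(X, U)] Ω[Γ(X, U)⁄Γ(Y, V)],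
      ∀ k, Φ (pullIdeal f k) = ψ f e hV hU k := exists_pullHom (pullback.diagonal f)
    (ClSub.idealMod (pullback.diagonal f).ker) (OmegaSh.le_preimage_diagNbhd f U)
    (isAffineOpen_diagNbhd f hV hU e) hU (ψ f e hV hU) (ψ_smul f e hV hU)
  have hΦ : ∀ s, Φ ((OmegaSh.dOmega f).app U s) = KaehlerDifferential.D Γ(Y, V) Γ(X, U) s :=
    fun s ↦ (hΦ' _).trans (ψ_idealLift f e hV hU s)
  have hinv : ∀ x, Φ (chartLift f e (OmegaSh.dOmega f) x) = x := by
    intro x
    have hx : x ∈ Submodule.span Γ(X, U) (Set.range (KaehlerDifferential.D Γ(Y, V) Γ(X, U))) := by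
      rw [KaehlerDifferential.span_range_derivation]; trivial
    induction hx using Submodule.span_induction with
    | mem x hx => obtain ⟨s, rfl⟩ := hx; rw [chartLift_D, hΦ]
    | zero => rw [map_zero, map_zero]
    | add a b _ _ ha hb => rw [map_add, map_add, ha, hb]
    | smul r a _ ha => rw [map_smul, map_smul, ha]
  refine ⟨fun a b h ↦ by rw [← hinv a, h, hinv b], fun x ↦ ?_⟩
  have hx : x ∈ Submodule.span Γ(X, U) (Set.range ((OmegaSh.dOmega f).app U)) := by
    rw [span_d f hV hU e]; trivial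
  have hle : Submodule.span Γ(X, U) (Set.range ((OmegaSh.dOmega f).app U)) ≤
      LinearMap.range (chartLift f e (OmegaSh.dOmega f)) := by
    rw [Submodule.span_le]
    rintro _ ⟨s, rfl⟩
    exact ⟨_, chartLift_D f e _ s⟩
  exact hle hx

/-- **The affine chart**: `Ω[Γ(U)⁄Γ(V)] ≅ Γ(Ω_{X/Y}, U)`. -/
noncomputable def chartEquiv :
    letI := chartAlg f e
    Ω[Γ(X, U)⁄Γ(Y, V)] ≃ₗ[Γ(X, U)] Γ(Omega.sheaf f, U) :=
  letI := chartAlg f e
  LinearEquiv.ofBijective (chartLift f e (OmegaSh.dOmega f)) (chartLift_bijective f e hV hU)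

lemma chartEquiv_D (a : Γ(X, U)) :
    letI := chartAlg f e
    chartEquiv f e hV hU (KaehlerDifferential.D Γ(Y, V) Γ(X, U) a) = (OmegaSh.dOmega f).app U a :=
  chartLift_D f e _ a

end Groth.OmegaSheaf
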