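import Groth.Agent.OmegaSheaf.ConormalExact

/-!
# Splitting of the conormal sequence along a retraction
-/

universe u

open CategoryTheory Limits AlgebraicGeometry Opposite TopologicalSpace

namespace Groth.OmegaSheaf

open Groth.QCohMod (res res_res res_smul res_app res_self)

variable {Z X S : Scheme.{u}} {f : X ⟶ S} {i : Z ⟶ X} {g : X ⟶ Z}

/-- Rewriting `appLE` along an equality of morphisms. -/
lemma appLE_of_eq {A B : Scheme.{u}} {q q' : A ⟶ B} (h : q = q') {V : B.Opens} {U : A.Opens}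
    (e : U ≤ q ⁻¹ᵁ V) (e' : U ≤ q' ⁻¹ᵁ V) (r : Γ(B, V)) :
    q.appLE V U e r = q'.appLE V U e' r := by
  subst h; rfl

lemma id_appLE_apply {A : Scheme.{u}} {U V : A.Opens} (e : U ≤ V) (r : Γ(A, V)) :
    (𝟙 A : A ⟶ A).appLE V U e r = A.presheaf.map (homOfLE e).op r := by
  change ((𝟙 A : A ⟶ A).app V ≫ A.presheaf.map _) r = _
  simp
  rfl

lemma le_preimage_retract (hgi : i ≫ g = 𝟙 Z) (U : Z.Opens) : U ≤ i ⁻¹ᵁ (g ⁻¹ᵁ U) := by
  rw [← Scheme.Hom.comp_preimage, hgi]; exact le_of_eq rfl

/-- A retraction gives a section of `i^*Ω_{X/S} → Ω_{Z/S}`. -/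
theorem exists_section_of_retraction (hgi : i ≫ g = 𝟙 Z) (hgS : g ≫ i ≫ f = f)
    {ΩX : X.Modules} {dX : OmegaSh.Der f ΩX}
    {ΩZ : Z.Modules} {dZ : OmegaSh.Der (i ≫ f) ΩZ} (hZ : OmegaSh.IsUniversal dZ)
    {c : (Scheme.Modules.pullback i).obj ΩX ⟶ ΩZ} (hc : OmegaSh.IsDiffCompat i dX dZ c) :
    ∃ σ : ΩZ ⟶ (Scheme.Modules.pullback i).obj ΩX, σ ≫ c = 𝟙 _ := by
  let P := (Scheme.Modules.pullback i).obj ΩX
  let a : ∀ U : Z.Opens, Γ(Z, U) →+ Γ(P, U) := fun U ↦
    (res P (le_preimage_retract hgi U)).comp ((OmegaSh.pullSect i ΩX (g ⁻¹ᵁ U)).hom.comp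
      ((dX.app (g ⁻¹ᵁ U)).comp (g.app U).hom.toAddMonoidHom))
  have hret : ∀ (U : Z.Opens) (x : Γ(Z, U)),
      i.appLE (g ⁻¹ᵁ U) U (le_preimage_retract hgi U) (g.app U x) = x := by
    intro U x
    rw [Scheme.Hom.app_eq_appLE, ← CommRingCat.comp_apply, Scheme.Hom.appLE_comp_appLE]
    exact (appLE_of_eq hgi _ (le_refl U) x).trans
      ((id_appLE_apply (le_refl U) x).trans congr($(Z.presheaf.map_id _) x))
  let D : OmegaSh.Der (i ≫ f) P :=
    { d := fun {U} ↦ a U.unop
      d_mul := fun {U} (x y : Γ(Z, U.unop)) ↦ by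
        change res P _ (OmegaSh.pullSect i ΩX _ (dX.app _ (g.app U.unop (x * y)))) =
          x • res P _ (OmegaSh.pullSect i ΩX _ (dX.app _ (g.app U.unop y))) +
            y • res P _ (OmegaSh.pullSect i ΩX _ (dX.app _ (g.app U.unop x)))
        rw [map_mul, der_mul, map_add, map_add, pullSect_smul, pullSect_smul, res_smul, res_smul]
        change i.appLE _ _ _ (g.app U.unop x) • _ + i.appLE _ _ _ (g.app U.unop y) • _ = _
        rw [hret, hret]
        rfl
      d_map := fun {U U'} k x ↦ by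
        have h : U'.unop ≤ U.unop := leOfHom k.unop
        change res P _ (OmegaSh.pullSect i ΩX _ (dX.app _ (g.app U'.unop (Z.presheaf.map k x)))) =
          res P h (res P _ (OmegaSh.pullSect i ΩX _ (dX.app _ (g.app U.unop x))))
        have hx : g.app U'.unop (Z.presheaf.map k x) =
            X.presheaf.map (homOfLE (g.preimage_mono h)).op (g.app U.unop x) := by
          rw [← CommRingCat.comp_apply, g.naturality k, CommRingCat.comp_apply]
          rfl
        rw [hx, der_res, ← res_pullSect ΩX (g.preimage_mono h), res_res, res_res]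
      d_app := fun {V} r ↦ by
        change res P _ (OmegaSh.pullSect i ΩX _ (dX.app _ (g.app _ ((i ≫ f).app V.unop r)))) = 0
        have key : ∀ q : X ⟶ S, q = f → dX.app (q ⁻¹ᵁ V.unop) (q.app V.unop r) = 0 :=
          fun q hq ↦ der_app_of_eq dX hq _ r
        have h0 := key (g ≫ i ≫ f) hgS
        change dX.app (g ⁻¹ᵁ ((i ≫ f) ⁻¹ᵁ V.unop)) (g.app _ ((i ≫ f).app V.unop r)) = 0 at h0
        rw [h0, map_zero, map_zero] }
  obtain ⟨σ, hσ⟩ := exists_hom_of_isUniversal hZ D
  refine ⟨σ, hom_ext_of_isUniversal hZ fun U x ↦ ?_⟩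
  change c.app U (σ.app U (dZ.app U x)) = dZ.app U x
  rw [hσ]
  change c.app U (res P _ (OmegaSh.pullSect i ΩX _ (dX.app _ (g.app U x)))) = _
  rw [← res_app, hc, ← der_res]
  exact congrArg (dZ.app U) (hret U x)

/-- A retraction splits `C_{Z/X} → i^*Ω_{X/S}`. -/
theorem exists_retraction_conormal [QuasiCompact i] (hgi : i ≫ g = 𝟙 Z) (hgS : g ≫ i ≫ f = f)
    {ΩX : X.Modules} {dX : OmegaSh.Der f ΩX} (hX : OmegaSh.IsUniversal dX)
    {φ : Omega.conormal i ⟶ (Scheme.Modules.pullback i).obj ΩX}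
    (hφ : OmegaSh.IsConormalDiff i dX φ) :
    ∃ r : (Scheme.Modules.pullback i).obj ΩX ⟶ Omega.conormal i, φ ≫ r = 𝟙 _ := by
  let N := Omega.conormal i
  let U' : X.Opens → X.Opens := fun U ↦ U ⊓ g ⁻¹ᵁ (i ⁻¹ᵁ U)
  have hU'le : ∀ U, U' U ≤ U := fun U ↦ inf_le_left
  have hle : ∀ U, i ⁻¹ᵁ U ≤ i ⁻¹ᵁ (U' U) := fun U z hz ↦
    ⟨hz, le_preimage_retract hgi (i ⁻¹ᵁ U) hz⟩
  let α : ∀ U, Γ(X, U) →+* Γ(X, U' U) := fun U ↦ (X.presheaf.map (homOfLE (hU'le U)).op).hom
  let β : ∀ U, Γ(X, U) →+* Γ(X, U' U) := fun U ↦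
    (g.appLE (i ⁻¹ᵁ U) (U' U) inf_le_right).hom.comp (i.app U).hom
  have hiβ : ∀ U a, i.app (U' U) (β U a) = i.app (U' U) (α U a) := by
    intro U a
    change i.app (U' U) (g.appLE (i ⁻¹ᵁ U) (U' U) inf_le_right (i.app U a)) =
      i.app (U' U) (X.presheaf.map (homOfLE (hU'le U)).op a)
    rw [Scheme.Hom.app_eq_appLE, ← CommRingCat.comp_apply (g.appLE _ _ _),
      Scheme.Hom.appLE_comp_appLE, appLE_of_eq hgi _ (i.preimage_mono (hU'le U)), id_appLE_apply,
      ← CommRingCat.comp_apply (X.presheaf.map _), Scheme.Hom.map_appLE, Scheme.Hom.app_eq_appLE,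
      ← CommRingCat.comp_apply, Scheme.Hom.appLE_map]
  have hk : ∀ U a, ∃ k : Γ(ClSub.idealMod i.ker, U' U),
      OmegaSh.idealSect i.ker (U' U) k = α U a - β U a := fun U a ↦
    exists_idealSect_of_app_eq_zero i (by rw [map_sub, hiβ, sub_self])
  choose k hk using hk
  have kuniq : ∀ U a (k' : Γ(ClSub.idealMod i.ker, U' U)),
      OmegaSh.idealSect i.ker (U' U) k' = α U a - β U a → k U a = k' := fun U a k' h ↦
    idealSect_injective _ _ ((hk U a).trans h.symm)
  let D₀ : ∀ U : X.Opens, Γ(X, U) →+ Γ(N, i ⁻¹ᵁ U) := fun U ↦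
    AddMonoidHom.mk' (fun a ↦ res N (hle U) (OmegaSh.conormalSect i (U' U) (k U a))) fun a b ↦ by
      rw [← map_add, ← map_add]
      congr 2
      refine kuniq _ _ _ ?_
      rw [map_add, map_add, map_add, hk, hk]; ring
  let D : OmegaSh.Der f ((Scheme.Modules.pushforward i).obj N) :=
    { d := fun {U} ↦ D₀ U.unop
      d_mul := fun {U} (a b : Γ(X, U.unop)) ↦ by
        change D₀ U.unop (a * b) = i.app U.unop a • D₀ U.unop b + i.app U.unop b • D₀ U.unop a
        change res N _ (OmegaSh.conormalSect i _ (k U.unop (a * b))) =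
          i.app U.unop a • res N _ (OmegaSh.conormalSect i _ (k U.unop b)) +
            i.app U.unop b • res N _ (OmegaSh.conormalSect i _ (k U.unop a))
        have : k U.unop (a * b) = α U.unop a • k U.unop b + β U.unop b • k U.unop a := by
          refine kuniq _ _ _ ?_
          rw [map_add, idealSect_smul, idealSect_smul, hk, hk, map_mul, map_mul]; ring
        rw [this, map_add, map_add, conormalSect_smul, conormalSect_smul, hiβ, res_smul, res_smul]
        have hα : ∀ x : Γ(X, U.unop), Z.presheaf.map (homOfLE (hle U.unop)).op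
            (i.app (U' U.unop) (α U.unop x)) = i.app U.unop x := fun x ↦ by
          change Z.presheaf.map _ (i.app _ (X.presheaf.map _ x)) = _
          rw [← CommRingCat.comp_apply (X.presheaf.map _), Scheme.Hom.naturality,
            CommRingCat.comp_apply, ← CommRingCat.comp_apply, ← Functor.map_comp]
          exact congr($(Z.presheaf.map_id _) _)
        change Z.presheaf.map _ (i.app _ (α U.unop a)) • _ +
          Z.presheaf.map _ (i.app _ (α U.unop b)) • _ = _
        rw [hα, hα]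
      d_map := fun {U V} j a ↦ by
        have h : V.unop ≤ U.unop := leOfHom j.unop
        change res N _ (OmegaSh.conormalSect i _ (k V.unop (X.presheaf.map j a))) =
          res N (i.preimage_mono h) (res N _ (OmegaSh.conormalSect i _ (k U.unop a)))
        have h' : U' V.unop ≤ U' U.unop := inf_le_inf h (g.preimage_mono (i.preimage_mono h))
        have : k V.unop (X.presheaf.map j a) = res _ h' (k U.unop a) := by
          refine kuniq _ _ _ ?_
          change OmegaSh.idealSect i.ker _ ((ClSub.idealMod i.ker).presheaf.map _ _) = _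
          rw [idealSect_res, hk, map_sub]
          congr 1
          · change X.presheaf.map _ (X.presheaf.map _ a) = X.presheaf.map _ (X.presheaf.map j a)
            rw [← CommRingCat.comp_apply, ← CommRingCat.comp_apply, ← Functor.map_comp,
              ← Functor.map_comp]
            rfl
          · change X.presheaf.map _ (g.appLE _ _ _ (i.app U.unop a)) =
              g.appLE _ _ _ (i.app V.unop (X.presheaf.map j a))
            rw [← CommRingCat.comp_apply (X.presheaf.map j), Scheme.Hom.naturality,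
              CommRingCat.comp_apply, ← CommRingCat.comp_apply (g.appLE _ _ _), Scheme.Hom.appLE_map]
            rw [← CommRingCat.comp_apply (Z.presheaf.map _) (g.appLE _ _ _), Scheme.Hom.map_appLE]
        rw [this, ← res_conormalSect i h', res_res, res_res]
      d_app := fun {V} r ↦ by
        change res N _ (OmegaSh.conormalSect i _ (k (f ⁻¹ᵁ V.unop) (f.app V.unop r))) = 0
        have : k (f ⁻¹ᵁ V.unop) (f.app V.unop r) = 0 := by
          refine kuniq _ _ _ ?_
          rw [map_zero, eq_comm, sub_eq_zero]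
          change X.presheaf.map _ (f.app V.unop r) = g.appLE _ _ _ (i.app _ (f.app V.unop r))
          rw [← CommRingCat.comp_apply (f.app _), ← Scheme.Hom.appLE,
            ← CommRingCat.comp_apply (f.app _)]
          change _ = g.appLE _ _ _ ((i ≫ f).app V.unop r)
          rw [Scheme.Hom.app_eq_appLE, ← CommRingCat.comp_apply]
          exact (appLE_of_eq hgS.symm _ inf_le_right r).trans
            congr($((Scheme.Hom.appLE_comp_appLE g (i ≫ f) V.unop ((i ≫ f) ⁻¹ᵁ V.unop) _ le_rfl
              inf_le_right).symm).hom r)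
        rw [this, map_zero, map_zero] }
  obtain ⟨ρ, hρ⟩ := exists_hom_of_isUniversal hX D
  let adj := Scheme.Modules.pullbackPushforwardAdjunction i
  refine ⟨(adj.homEquiv ΩX N).symm ρ, conormal_hom_ext fun U s ↦ ?_⟩
  change ((adj.homEquiv ΩX N).symm ρ).app _ (φ.app _ (OmegaSh.conormalSect i U s)) = _
  rw [hφ U s]
  refine (homEquiv_pullback_app _ U _).symm.trans ?_
  rw [Equiv.apply_symm_apply, hρ]
  change res N (hle U) (OmegaSh.conormalSect i _ (k U (OmegaSh.idealSect i.ker U s))) =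
    OmegaSh.conormalSect i U s
  have : k U (OmegaSh.idealSect i.ker U s) = res _ (hU'le U) s := by
    refine kuniq _ _ _ ?_
    change OmegaSh.idealSect i.ker _ ((ClSub.idealMod i.ker).presheaf.map _ _) = _
    rw [idealSect_res, eq_comm, sub_eq_self]
    change g.appLE _ _ _ (i.app U (OmegaSh.idealSect i.ker U s)) = 0
    rw [app_idealSect, map_zero]
  rw [this, ← res_conormalSect i (hU'le U), res_res, res_self]

end Groth.OmegaSheaf
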