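import Mathlib.RingTheory.Etale.Kaehler
import Mathlib.RingTheory.Smooth.Basic

/-!
# `H^{-1}` of the naive cotangent complex and the kernel of the structure map
-/

universe u

namespace Groth.OmegaSheaf

open Algebra

section ofKer

variable {R S : Type u} [CommRing R] [CommRing S] [Algebra R S]

/-- The class of an element of the kernel of `R → S` in `H^{-1}(NL_{S/R})`. -/
noncomputable def ofKer (a : RingHom.ker (algebraMap R S)) : H1Cotangent R S :=
  ⟨Extension.Cotangent.mk ⟨MvPolynomial.C a.1, by
      change algebraMap (Generators.self R S).Ring S (MvPolynomial.C a.1) = 0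
      rw [Generators.algebraMap_eq]
      simp only [RingHom.coe_coe, MvPolynomial.aeval_C]
      exact a.2⟩, by
    rw [LinearMap.mem_ker, Extension.cotangentComplex_mk]
    have : KaehlerDifferential.D R (Generators.self R S).toExtension.Ring (MvPolynomial.C a.1) = 0 :=
      (KaehlerDifferential.D R _).map_algebraMap a.1
    rw [this, TensorProduct.tmul_zero]⟩

lemma ofKer_val (a : RingHom.ker (algebraMap R S)) :
    (ofKer a).1 = Extension.Cotangent.mk ⟨MvPolynomial.C a.1, by
      change algebraMap (Generators.self R S).Ring S (MvPolynomial.C a.1) = 0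
      rw [Generators.algebraMap_eq]
      simp only [RingHom.coe_coe, MvPolynomial.aeval_C]
      exact a.2⟩ := rfl

lemma ofKer_add (a b : RingHom.ker (algebraMap R S)) : ofKer (a + b) = ofKer a + ofKer b := by
  apply Subtype.ext
  rw [Extension.H1Cotangent.val_add, ofKer_val, ofKer_val, ofKer_val, ← map_add]
  congr 1
  ext1
  exact map_add (MvPolynomial.C (σ := S) (R := R)) a.1 b.1

lemma ofKer_smul (r : R) (a : RingHom.ker (algebraMap R S)) :
    ofKer (r • a) = algebraMap R S r • ofKer a := by
  apply Subtype.ext
  rw [algebraMap_smul, Extension.H1Cotangent.val_smul, ofKer_val, ofKer_val]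
  rw [← LinearMap.map_smul_of_tower]
  congr 1
  ext1
  change MvPolynomial.C (r * a.1) = r • MvPolynomial.C a.1
  rw [MvPolynomial.smul_eq_C_mul, map_mul]

/-- For a surjection, `H^{-1}` is spanned by the kernel. -/
theorem ofKer_surjective (h : Function.Surjective (algebraMap R S)) :
    Function.Surjective (ofKer : RingHom.ker (algebraMap R S) → H1Cotangent R S) := by
  let Q : Extension R S := Extension.ofSurjective (Algebra.ofId R S) h
  let f : (Generators.self R S).toExtension.Hom Q := Extension.defaultHom R S Q
  let g : Q.Hom (Generators.self R S).toExtension :=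
    .ofAlgHom (Algebra.ofId R (Generators.self R S).toExtension.Ring) (by ext)
  intro x
  obtain ⟨⟨y, hy⟩, hye⟩ := Extension.Cotangent.mk_surjective (Extension.H1Cotangent.map f x).1
  refine ⟨⟨y, hy⟩, ?_⟩
  have h1 : Extension.H1Cotangent.map g (Extension.H1Cotangent.map f x) = x := by
    have := Extension.H1Cotangent.map_eq (g.comp f) (.id _)
    rw [Extension.H1Cotangent.map_comp] at this
    exact (congr($this x)).trans (by rw [Extension.H1Cotangent.map_id]; rfl)
  rw [← h1]
  apply Subtype.ext
  change _ = Extension.Cotangent.map g (Extension.H1Cotangent.map f x).1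
  rw [← hye, Extension.Cotangent.map_mk]
  rfl

/-- The kernel of `ker → H^{-1}` is the square of the kernel. -/
theorem ofKer_eq_zero_iff (h : Function.Surjective (algebraMap R S))
    (a : RingHom.ker (algebraMap R S)) :
    ofKer a = 0 ↔ a.1 ∈ RingHom.ker (algebraMap R S) ^ 2 := by
  constructor
  · intro ha
    let Q : Extension R S := Extension.ofSurjective (Algebra.ofId R S) h
    let f : (Generators.self R S).toExtension.Hom Q := Extension.defaultHom R S Q
    have h2 : Extension.Cotangent.map f (ofKer a).1 = 0 := by
      rw [ha]; exact map_zero _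
    rw [ofKer_val, Extension.Cotangent.map_mk, Extension.Cotangent.mk_eq_zero_iff] at h2
    have e : f.toAlgHom (MvPolynomial.C a.1) = a.1 := f.toAlgHom.commutes a.1
    exact e ▸ h2
  · intro ha
    apply Subtype.ext
    rw [ofKer_val, Extension.H1Cotangent.val_zero, Extension.Cotangent.mk_eq_zero_iff]
    have : Ideal.map (MvPolynomial.C (σ := S)) (RingHom.ker (algebraMap R S)) ≤
        (Generators.self R S).toExtension.ker := by
      refine Ideal.map_le_iff_le_comap.mpr fun b hb ↦ by
        change algebraMap (Generators.self R S).Ring S (MvPolynomial.C b) = 0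
        rw [Generators.algebraMap_eq]
        simp only [RingHom.coe_coe, MvPolynomial.aeval_C]
        exact hb
    refine Ideal.pow_right_mono this 2 ?_
    rw [← Ideal.map_pow]
    exact Ideal.mem_map_of_mem _ ha

end ofKer

section functorial

variable {R R' S S' : Type u} [CommRing R] [CommRing R'] [CommRing S] [CommRing S']
variable [Algebra R R'] [Algebra R S] [Algebra R' S'] [Algebra S S'] [Algebra R S']
variable [IsScalarTower R R' S'] [IsScalarTower R S S']

lemma algebraMap_mem_ker {a : R} (ha : a ∈ RingHom.ker (algebraMap R S)) :
    algebraMap R R' a ∈ RingHom.ker (algebraMap R' S') := by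
  rw [RingHom.mem_ker, ← IsScalarTower.algebraMap_apply, IsScalarTower.algebraMap_apply R S S',
    RingHom.mem_ker.mp ha, map_zero]

/-- `ofKer` is natural. -/
lemma map_ofKer (a : RingHom.ker (algebraMap R S)) :
    H1Cotangent.map R R' S S' (ofKer a) = ofKer ⟨algebraMap R R' a.1, algebraMap_mem_ker a.2⟩ := by
  apply Subtype.ext
  change Extension.Cotangent.map
    (Generators.defaultHom (Generators.self R S) (Generators.self R' S')).toExtensionHom (ofKer a).1 = _
  rw [ofKer_val, Extension.Cotangent.map_mk, ofKer_val]
  congr 1
  ext1
  exact ((Generators.defaultHom (Generators.self R S)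
    (Generators.self R' S')).toExtensionHom.toAlgHom.commutes a.1)

variable {R'' S'' : Type u} [CommRing R''] [CommRing S'']
variable [Algebra R R''] [Algebra R' R''] [IsScalarTower R R' R'']
variable [Algebra S S''] [Algebra S' S''] [IsScalarTower S S' S'']
variable [Algebra R S''] [Algebra R' S''] [Algebra R'' S'']
variable [IsScalarTower R R'' S''] [IsScalarTower R S S''] [IsScalarTower R' R'' S'']
variable [IsScalarTower R' S' S''] [IsScalarTower R R' S''] [IsScalarTower R S' S'']

omit [IsScalarTower R R' S''] [IsScalarTower R S' S''] in
lemma map_map (x : H1Cotangent R S) :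
    H1Cotangent.map R' R'' S' S'' (H1Cotangent.map R R' S S' x) =
      H1Cotangent.map R R'' S S'' x := by
  have := Extension.H1Cotangent.map_eq
    ((Generators.defaultHom (Generators.self R' S') (Generators.self R'' S'')).toExtensionHom.comp
      (Generators.defaultHom (Generators.self R S) (Generators.self R' S')).toExtensionHom)
    (Generators.defaultHom (Generators.self R S) (Generators.self R'' S'')).toExtensionHom
  rw [Extension.H1Cotangent.map_comp] at this
  exact congr($this x)

end functorial

section base

variable (R R' S : Type u) [CommRing R] [CommRing R'] [CommRing S]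
variable [Algebra R R'] [Algebra R S] [Algebra R' S] [IsScalarTower R R' S]

/-- Changing to a formally unramified base is surjective on `H^{-1}`. -/
theorem map_base_surjective [FormallyUnramified R R'] :
    Function.Surjective (H1Cotangent.map R R' S S) := fun x ↦
  (H1Cotangent.exact_map_δ R R' S x).mp (Subsingleton.elim _ _)

/-- Changing to a formally étale base is injective on `H^{-1}`. -/
theorem map_base_injective [FormallyEtale R R'] :
    Function.Injective (H1Cotangent.map R R' S S) := by
  let P' : Extension R' S := (Generators.self R' S).toExtension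
  let P : Extension R S := Extension.ofSurjective
    ((MvPolynomial.aeval (R := R') (id : S → S)).restrictScalars R)
    fun s ↦ ⟨MvPolynomial.X s, MvPolynomial.aeval_X _ _⟩
  let h : P.Hom P' :=
    { toRingHom := RingHom.id _
      toRingHom_algebraMap := fun r ↦ rfl
      algebraMap_toRingHom := fun x ↦ rfl }
  have hh : Function.Injective (Extension.H1Cotangent.map h) := by
    intro x y hxy
    apply Subtype.ext
    have := congr(($hxy).1)
    change Extension.Cotangent.map h x.1 = Extension.Cotangent.map h y.1 at this
    obtain ⟨a, ha⟩ := Extension.Cotangent.mk_surjective x.1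
    obtain ⟨b, hb⟩ := Extension.Cotangent.mk_surjective y.1
    rw [← ha, ← hb] at this ⊢
    rw [Extension.Cotangent.map_mk, Extension.Cotangent.map_mk,
      Extension.Cotangent.mk_eq_mk_iff_sub_mem] at this
    rw [Extension.Cotangent.mk_eq_mk_iff_sub_mem]
    exact this
  have : FormallySmooth R P.Ring := FormallySmooth.comp R R' (MvPolynomial S R')
  have : FormallySmooth R (Generators.self R S).toExtension.Ring :=
    inferInstanceAs (@FormallySmooth R (MvPolynomial S R) _ _ AddMonoidAlgebra.algebra)
  have hb : Function.Bijective (Extension.H1Cotangent.map (Extension.defaultHom R S P)) := by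
    convert! (Extension.H1Cotangent.equivOfFormallySmooth (Generators.self R S).toExtension P).bijective
      using 1
    funext x
    exact (Extension.H1Cotangent.equivOfFormallySmooth_apply (Extension.defaultHom R S P) x).symm
  have key := Extension.H1Cotangent.map_eq (h.comp (Extension.defaultHom R S P))
    (Generators.defaultHom (Generators.self R S) (Generators.self R' S)).toExtensionHom
  rw [Extension.H1Cotangent.map_comp] at key
  intro x y hxy
  exact hb.1 (hh ((congr($key x)).trans (hxy.trans (congr($key y)).symm)))

end base

section away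

variable {R R' S S' : Type u} [CommRing R] [CommRing R'] [CommRing S] [CommRing S']
variable [Algebra R R'] [Algebra R S] [Algebra R' S'] [Algebra S S'] [Algebra R S']
variable [IsScalarTower R R' S'] [IsScalarTower R S S'] [FormallyEtale R R'] (g : S)
variable [IsLocalization.Away g S']

/-- Along a formally étale base and a localization, an element killed is killed by a power. -/
theorem exists_pow_smul_of_map_eq_zero {x : H1Cotangent R S}
    (hx : H1Cotangent.map R R' S S' x = 0) : ∃ n : ℕ, g ^ n • x = 0 := by
  rw [← map_map (R' := R) (S' := S') (R'' := R') (S'' := S')] at hx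
  have h0 : H1Cotangent.map R R S S' x = 0 :=
    map_base_injective R R' S' (hx.trans (map_zero _).symm)
  obtain ⟨⟨_, n, rfl⟩, hn⟩ :=
    (IsLocalizedModule.eq_zero_iff (Submonoid.powers g) (H1Cotangent.map R R S S')).mp h0
  exact ⟨n, hn⟩

/-- Along a formally étale base and a localization, every element lifts up to a power. -/
theorem exists_map_eq_pow_smul (y : H1Cotangent R' S') :
    ∃ (n : ℕ) (x : H1Cotangent R S),
      H1Cotangent.map R R' S S' x = algebraMap S S' g ^ n • y := by
  obtain ⟨z, rfl⟩ := map_base_surjective R R' S' y
  obtain ⟨⟨x, _, n, rfl⟩, hn⟩ :=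
    IsLocalizedModule.surj (Submonoid.powers g) (H1Cotangent.map R R S S') z
  refine ⟨n, x, ?_⟩
  rw [← map_map (R' := R) (S' := S') (R'' := R') (S'' := S'), ← hn, ← map_pow, ← map_smul,
    algebraMap_smul]
  rfl

end away

end Groth.OmegaSheaf
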