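import Groth.Prelude.Def_SheafNL
import Groth.Agent.OmegaSheaf.NLKer
import Mathlib.AlgebraicGeometry.Morphisms.Etale

/-!
# The restriction maps of the chartwise `H^{-1}` of the naive cotangent complex
-/

universe u

open CategoryTheory Limits AlgebraicGeometry Opposite TopologicalSpace

namespace Groth.OmegaSheaf

variable {X Y : Scheme.{u}} {f : X ⟶ Y}

/-- The class of a function killed by the chart map in the chart's `H^{-1}`. -/
noncomputable def kerH1 (U : X.affineOpens) (V : Y.affineOpens)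
    (e : (U : X.Opens) ≤ f ⁻¹ᵁ (V : Y.Opens)) (a : Γ(Y, (V : Y.Opens)))
    (ha : f.appLE V U e a = 0) : NLCx.ChartH1 f U V e :=
  letI := (f.appLE (V : Y.Opens) (U : X.Opens) e).hom.toAlgebra
  ofKer ⟨a, ha⟩

variable {U U' U'' : X.affineOpens} {V V' V'' : Y.affineOpens}
  {e : (U : X.Opens) ≤ f ⁻¹ᵁ (V : Y.Opens)} {e' : (U' : X.Opens) ≤ f ⁻¹ᵁ (V' : Y.Opens)}
  {e'' : (U'' : X.Opens) ≤ f ⁻¹ᵁ (V'' : Y.Opens)}

lemma chartRes_comp (hU : (U' : X.Opens) ≤ U) (hV : (V' : Y.Opens) ≤ V)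
    (hU' : (U'' : X.Opens) ≤ U') (hV' : (V'' : Y.Opens) ≤ V') (x : NLCx.ChartH1 f U V e) :
    NLCx.chartRes e' e'' hU' hV' (NLCx.chartRes e e' hU hV x) =
      NLCx.chartRes e e'' (hU'.trans hU) (hV'.trans hV) x := by
  let _ := (f.appLE (V : Y.Opens) (U : X.Opens) e).hom.toAlgebra
  let _ := (f.appLE (V' : Y.Opens) (U' : X.Opens) e').hom.toAlgebra
  let _ := (f.appLE (V'' : Y.Opens) (U'' : X.Opens) e'').hom.toAlgebra
  let _ := (f.appLE (V : Y.Opens) (U' : X.Opens) (hU.trans e)).hom.toAlgebra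
  let _ := (f.appLE (V : Y.Opens) (U'' : X.Opens) ((hU'.trans hU).trans e)).hom.toAlgebra
  let _ := (f.appLE (V' : Y.Opens) (U'' : X.Opens) (hU'.trans e')).hom.toAlgebra
  let _ := (X.presheaf.map (homOfLE hU).op).hom.toAlgebra
  let _ := (X.presheaf.map (homOfLE hU').op).hom.toAlgebra
  let _ := (X.presheaf.map (homOfLE (hU'.trans hU)).op).hom.toAlgebra
  let _ := (Y.presheaf.map (homOfLE hV).op).hom.toAlgebra
  let _ := (Y.presheaf.map (homOfLE hV').op).hom.toAlgebra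
  let _ := (Y.presheaf.map (homOfLE (hV'.trans hV)).op).hom.toAlgebra
  have hY : IsScalarTower Γ(Y, (V : Y.Opens)) Γ(Y, (V' : Y.Opens)) Γ(Y, (V'' : Y.Opens)) :=
    IsScalarTower.of_algebraMap_eq' (by
      change (Y.presheaf.map _).hom = (Y.presheaf.map _).hom.comp (Y.presheaf.map _).hom
      rw [← CommRingCat.hom_comp, ← Functor.map_comp]; rfl)
  have hX : IsScalarTower Γ(X, (U : X.Opens)) Γ(X, (U' : X.Opens)) Γ(X, (U'' : X.Opens)) :=
    IsScalarTower.of_algebraMap_eq' (by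
      change (X.presheaf.map _).hom = (X.presheaf.map _).hom.comp (X.presheaf.map _).hom
      rw [← CommRingCat.hom_comp, ← Functor.map_comp]; rfl)
  have h1 : IsScalarTower Γ(Y, (V : Y.Opens)) Γ(Y, (V' : Y.Opens)) Γ(X, (U' : X.Opens)) :=
    IsScalarTower.of_algebraMap_eq' (by
      change (f.appLE _ _ _).hom = (f.appLE _ _ _).hom.comp (Y.presheaf.map _).hom
      rw [← CommRingCat.hom_comp, Scheme.Hom.map_appLE])
  have h2 : IsScalarTower Γ(Y, (V : Y.Opens)) Γ(X, (U : X.Opens)) Γ(X, (U' : X.Opens)) :=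
    IsScalarTower.of_algebraMap_eq' (by
      change (f.appLE _ _ _).hom = (X.presheaf.map _).hom.comp (f.appLE _ _ _).hom
      rw [← CommRingCat.hom_comp, Scheme.Hom.appLE_map])
  have h3 : IsScalarTower Γ(Y, (V : Y.Opens)) Γ(Y, (V'' : Y.Opens)) Γ(X, (U'' : X.Opens)) :=
    IsScalarTower.of_algebraMap_eq' (by
      change (f.appLE _ _ _).hom = (f.appLE _ _ _).hom.comp (Y.presheaf.map _).hom
      rw [← CommRingCat.hom_comp, Scheme.Hom.map_appLE])
  have h4 : IsScalarTower Γ(Y, (V : Y.Opens)) Γ(X, (U : X.Opens)) Γ(X, (U'' : X.Opens)) :=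
    IsScalarTower.of_algebraMap_eq' (by
      change (f.appLE _ _ _).hom = (X.presheaf.map _).hom.comp (f.appLE _ _ _).hom
      rw [← CommRingCat.hom_comp, Scheme.Hom.appLE_map])
  have h5 : IsScalarTower Γ(Y, (V' : Y.Opens)) Γ(Y, (V'' : Y.Opens)) Γ(X, (U'' : X.Opens)) :=
    IsScalarTower.of_algebraMap_eq' (by
      change (f.appLE _ _ _).hom = (f.appLE _ _ _).hom.comp (Y.presheaf.map _).hom
      rw [← CommRingCat.hom_comp, Scheme.Hom.map_appLE])
  have h6 : IsScalarTower Γ(Y, (V' : Y.Opens)) Γ(X, (U' : X.Opens)) Γ(X, (U'' : X.Opens)) :=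
    IsScalarTower.of_algebraMap_eq' (by
      change (f.appLE _ _ _).hom = (X.presheaf.map _).hom.comp (f.appLE _ _ _).hom
      rw [← CommRingCat.hom_comp, Scheme.Hom.appLE_map])
  exact map_map (R := Γ(Y, (V : Y.Opens))) (R' := Γ(Y, (V' : Y.Opens)))
    (R'' := Γ(Y, (V'' : Y.Opens))) (S := Γ(X, (U : X.Opens))) (S' := Γ(X, (U' : X.Opens)))
    (S'' := Γ(X, (U'' : X.Opens))) x

lemma chartRes_smul (hU : (U' : X.Opens) ≤ U) (hV : (V' : Y.Opens) ≤ V) (b : Γ(X, (U : X.Opens)))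
    (x : NLCx.ChartH1 f U V e) :
    NLCx.chartRes e e' hU hV (b • x) =
      X.presheaf.map (homOfLE hU).op b • NLCx.chartRes e e' hU hV x := by
  let _ := (f.appLE (V : Y.Opens) (U : X.Opens) e).hom.toAlgebra
  let _ := (f.appLE (V' : Y.Opens) (U' : X.Opens) e').hom.toAlgebra
  let _ := (f.appLE (V : Y.Opens) (U' : X.Opens) (hU.trans e)).hom.toAlgebra
  let _ := (X.presheaf.map (homOfLE hU).op).hom.toAlgebra
  let _ := (Y.presheaf.map (homOfLE hV).op).hom.toAlgebra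
  have : IsScalarTower Γ(Y, (V : Y.Opens)) Γ(Y, (V' : Y.Opens)) Γ(X, (U' : X.Opens)) :=
    IsScalarTower.of_algebraMap_eq' (by
      change (f.appLE _ _ _).hom = (f.appLE _ _ _).hom.comp (Y.presheaf.map _).hom
      rw [← CommRingCat.hom_comp, Scheme.Hom.map_appLE])
  have : IsScalarTower Γ(Y, (V : Y.Opens)) Γ(X, (U : X.Opens)) Γ(X, (U' : X.Opens)) :=
    IsScalarTower.of_algebraMap_eq' (by
      change (f.appLE _ _ _).hom = (X.presheaf.map _).hom.comp (f.appLE _ _ _).hom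
      rw [← CommRingCat.hom_comp, Scheme.Hom.appLE_map])
  change Algebra.H1Cotangent.map Γ(Y, (V : Y.Opens)) Γ(Y, (V' : Y.Opens)) Γ(X, (U : X.Opens))
    Γ(X, (U' : X.Opens)) (b • x) = algebraMap Γ(X, (U : X.Opens)) Γ(X, (U' : X.Opens)) b •
      Algebra.H1Cotangent.map Γ(Y, (V : Y.Opens)) Γ(Y, (V' : Y.Opens)) Γ(X, (U : X.Opens))
        Γ(X, (U' : X.Opens)) x
  rw [map_smul, algebraMap_smul]

lemma chartRes_kerH1 (hU : (U' : X.Opens) ≤ U) (hV : (V' : Y.Opens) ≤ V)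
    (a : Γ(Y, (V : Y.Opens))) (ha : f.appLE V U e a = 0)
    (ha' : f.appLE V' U' e' (Y.presheaf.map (homOfLE hV).op a) = 0) :
    NLCx.chartRes e e' hU hV (kerH1 U V e a ha) =
      kerH1 U' V' e' (Y.presheaf.map (homOfLE hV).op a) ha' := by
  let _ := (f.appLE (V : Y.Opens) (U : X.Opens) e).hom.toAlgebra
  let _ := (f.appLE (V' : Y.Opens) (U' : X.Opens) e').hom.toAlgebra
  let _ := (f.appLE (V : Y.Opens) (U' : X.Opens) (hU.trans e)).hom.toAlgebra
  let _ := (X.presheaf.map (homOfLE hU).op).hom.toAlgebra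
  let _ := (Y.presheaf.map (homOfLE hV).op).hom.toAlgebra
  have : IsScalarTower Γ(Y, (V : Y.Opens)) Γ(Y, (V' : Y.Opens)) Γ(X, (U' : X.Opens)) :=
    IsScalarTower.of_algebraMap_eq' (by
      change (f.appLE _ _ _).hom = (f.appLE _ _ _).hom.comp (Y.presheaf.map _).hom
      rw [← CommRingCat.hom_comp, Scheme.Hom.map_appLE])
  have : IsScalarTower Γ(Y, (V : Y.Opens)) Γ(X, (U : X.Opens)) Γ(X, (U' : X.Opens)) :=
    IsScalarTower.of_algebraMap_eq' (by
      change (f.appLE _ _ _).hom = (X.presheaf.map _).hom.comp (f.appLE _ _ _).hom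
      rw [← CommRingCat.hom_comp, Scheme.Hom.appLE_map])
  exact map_ofKer (R := Γ(Y, (V : Y.Opens))) (R' := Γ(Y, (V' : Y.Opens)))
    (S := Γ(X, (U : X.Opens))) (S' := Γ(X, (U' : X.Opens))) ⟨a, ha⟩

/-- The restriction maps of `Y` between affine opens are formally étale. -/
lemma formallyEtale_res (hV : (V' : Y.Opens) ≤ V) :
    (Y.presheaf.map (homOfLE hV).op).hom.FormallyEtale := by
  have h := (𝟙 Y : Y ⟶ Y).etale_appLE V.2 V'.2 hV
  have e1 : (𝟙 Y : Y ⟶ Y).appLE V V' hV = Y.presheaf.map (homOfLE hV).op := by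
    simp [Scheme.Hom.appLE]
    rfl
  rw [e1] at h
  exact h.formallyEtale

lemma exists_pow_smul_of_chartRes_eq_zero (hU : (U' : X.Opens) ≤ U) (hV : (V' : Y.Opens) ≤ V)
    (g : Γ(X, (U : X.Opens))) (hg : (U' : X.Opens) = X.basicOpen g) {x : NLCx.ChartH1 f U V e}
    (hx : NLCx.chartRes e e' hU hV x = 0) : ∃ n : ℕ, g ^ n • x = 0 := by
  let _ := (f.appLE (V : Y.Opens) (U : X.Opens) e).hom.toAlgebra
  let _ := (f.appLE (V' : Y.Opens) (U' : X.Opens) e').hom.toAlgebra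
  let _ := (f.appLE (V : Y.Opens) (U' : X.Opens) (hU.trans e)).hom.toAlgebra
  let _ := (X.presheaf.map (homOfLE hU).op).hom.toAlgebra
  let _ := (Y.presheaf.map (homOfLE hV).op).hom.toAlgebra
  have : IsScalarTower Γ(Y, (V : Y.Opens)) Γ(Y, (V' : Y.Opens)) Γ(X, (U' : X.Opens)) :=
    IsScalarTower.of_algebraMap_eq' (by
      change (f.appLE _ _ _).hom = (f.appLE _ _ _).hom.comp (Y.presheaf.map _).hom
      rw [← CommRingCat.hom_comp, Scheme.Hom.map_appLE])
  have : IsScalarTower Γ(Y, (V : Y.Opens)) Γ(X, (U : X.Opens)) Γ(X, (U' : X.Opens)) :=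
    IsScalarTower.of_algebraMap_eq' (by
      change (f.appLE _ _ _).hom = (X.presheaf.map _).hom.comp (f.appLE _ _ _).hom
      rw [← CommRingCat.hom_comp, Scheme.Hom.appLE_map])
  have : Algebra.FormallyEtale Γ(Y, (V : Y.Opens)) Γ(Y, (V' : Y.Opens)) :=
    RingHom.formallyEtale_algebraMap.mp (formallyEtale_res hV)
  have : IsLocalization.Away g Γ(X, (U' : X.Opens)) :=
    U.2.isLocalization_of_eq_basicOpen g (homOfLE hU) hg
  exact exists_pow_smul_of_map_eq_zero (R := Γ(Y, (V : Y.Opens))) (R' := Γ(Y, (V' : Y.Opens)))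
    (S := Γ(X, (U : X.Opens))) (S' := Γ(X, (U' : X.Opens))) g hx

lemma exists_chartRes_eq_pow_smul (hU : (U' : X.Opens) ≤ U) (hV : (V' : Y.Opens) ≤ V)
    (g : Γ(X, (U : X.Opens))) (hg : (U' : X.Opens) = X.basicOpen g)
    (y : NLCx.ChartH1 f U' V' e') :
    ∃ (n : ℕ) (x : NLCx.ChartH1 f U V e),
      NLCx.chartRes e e' hU hV x = X.presheaf.map (homOfLE hU).op g ^ n • y := by
  let _ := (f.appLE (V : Y.Opens) (U : X.Opens) e).hom.toAlgebra
  let _ := (f.appLE (V' : Y.Opens) (U' : X.Opens) e').hom.toAlgebra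
  let _ := (f.appLE (V : Y.Opens) (U' : X.Opens) (hU.trans e)).hom.toAlgebra
  let _ := (X.presheaf.map (homOfLE hU).op).hom.toAlgebra
  let _ := (Y.presheaf.map (homOfLE hV).op).hom.toAlgebra
  have : IsScalarTower Γ(Y, (V : Y.Opens)) Γ(Y, (V' : Y.Opens)) Γ(X, (U' : X.Opens)) :=
    IsScalarTower.of_algebraMap_eq' (by
      change (f.appLE _ _ _).hom = (f.appLE _ _ _).hom.comp (Y.presheaf.map _).hom
      rw [← CommRingCat.hom_comp, Scheme.Hom.map_appLE])
  have : IsScalarTower Γ(Y, (V : Y.Opens)) Γ(X, (U : X.Opens)) Γ(X, (U' : X.Opens)) :=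
    IsScalarTower.of_algebraMap_eq' (by
      change (f.appLE _ _ _).hom = (X.presheaf.map _).hom.comp (f.appLE _ _ _).hom
      rw [← CommRingCat.hom_comp, Scheme.Hom.appLE_map])
  have : Algebra.FormallyEtale Γ(Y, (V : Y.Opens)) Γ(Y, (V' : Y.Opens)) :=
    RingHom.formallyEtale_algebraMap.mp (formallyEtale_res hV)
  have : IsLocalization.Away g Γ(X, (U' : X.Opens)) :=
    U.2.isLocalization_of_eq_basicOpen g (homOfLE hU) hg
  exact exists_map_eq_pow_smul (R := Γ(Y, (V : Y.Opens))) (R' := Γ(Y, (V' : Y.Opens)))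
    (S := Γ(X, (U : X.Opens))) (S' := Γ(X, (U' : X.Opens))) g y

end Groth.OmegaSheaf
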