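import Groth.Agent.OmegaSheaf.H1Chart
import Groth.Agent.OmegaSheaf.Universal

/-!
# Gluing the chartwise `H^{-1}` of the naive cotangent complex
-/

universe u

open CategoryTheory Limits AlgebraicGeometry Opposite TopologicalSpace

namespace Groth.OmegaSheaf

variable {X Y : Scheme.{u}} {f : X ⟶ Y}

/-- The source of a chart as an affine open. -/
abbrev Chart.src (c : Chart f) : X.affineOpens := ⟨c.U, c.hU⟩

/-- The target of a chart as an affine open. -/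
abbrev Chart.tgt (c : Chart f) : Y.affineOpens := ⟨c.V, c.hV⟩

/-- `H^{-1}` of a chart. -/
abbrev Chart.H (c : Chart f) : Type u := NLCx.ChartH1 f c.src c.tgt c.e

/-- Refinement of charts. -/
structure Chart.Le (c' c : Chart f) : Prop where
  hU : c'.U ≤ c.U
  hV : c'.V ≤ c.V

lemma Chart.Le.trans {a b c : Chart f} (h : a.Le b) (h' : b.Le c) : a.Le c :=
  ⟨h.hU.trans h'.hU, h.hV.trans h'.hV⟩

lemma Chart.Le.refl (c : Chart f) : c.Le c := ⟨le_rfl, le_rfl⟩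

/-- Restriction along a refinement. -/
noncomputable def Chart.Le.res {c' c : Chart f} (h : c'.Le c) : c.H →+ c'.H :=
  NLCx.chartRes c.e c'.e h.hU h.hV

lemma Chart.Le.res_res {a b c : Chart f} (h : a.Le b) (h' : b.Le c) (x : c.H) :
    h.res (h'.res x) = (h.trans h').res x :=
  chartRes_comp (U := c.src) (U' := b.src) (U'' := a.src) (V := c.tgt) (V' := b.tgt) (V'' := a.tgt) (e := c.e) (e' := b.e) (e'' := a.e) h'.hU h'.hV h.hU h.hV x

lemma Chart.Le.res_smul {c' c : Chart f} (h : c'.Le c) (b : Γ(X, c.U)) (x : c.H) :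
    h.res (b • x) = X.presheaf.map (homOfLE h.hU).op b • h.res x :=
  chartRes_smul (U := c.src) (U' := c'.src) (V := c.tgt) (V' := c'.tgt) (e := c.e) (e' := c'.e) h.hU h.hV b x

/-- The chart cut out by a function. -/
def Chart.basic (c : Chart f) (g : Γ(X, c.U)) : Chart f :=
  ⟨X.basicOpen g, c.V, c.hU.basicOpen g, c.hV, (X.basicOpen_le g).trans c.e⟩

lemma Chart.basic_le (c : Chart f) (g : Γ(X, c.U)) : (c.basic g).Le c :=
  ⟨X.basicOpen_le g, le_rfl⟩

lemma exists_chart_le (c : Chart f) {x : X} {W : X.Opens} (hx : x ∈ c.U) (hxW : x ∈ W)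
    {V₀ : Y.Opens} (hxV : f x ∈ V₀) :
    ∃ c' : Chart f, c'.Le c ∧ x ∈ c'.U ∧ c'.U ≤ W ∧ c'.V ≤ V₀ := by
  obtain ⟨_, ⟨V : Y.Opens, hV, rfl⟩, hxV', hVle⟩ := Y.isBasis_affineOpens.exists_subset_of_mem_open
    (show f x ∈ c.V ⊓ V₀ from ⟨c.e hx, hxV⟩) (c.V ⊓ V₀).2
  obtain ⟨_, ⟨U : X.Opens, hU, rfl⟩, hxU, hle⟩ := X.isBasis_affineOpens.exists_subset_of_mem_open
    (show x ∈ c.U ⊓ W ⊓ f ⁻¹ᵁ V from ⟨⟨hx, hxW⟩, hxV'⟩) (c.U ⊓ W ⊓ f ⁻¹ᵁ V).2
  exact ⟨⟨U, V, hU, hV, fun p hp ↦ (hle hp).2⟩,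
    ⟨fun p hp ↦ (hle hp).1.1, fun p hp ↦ (hVle hp).1⟩, hxU, fun p hp ↦ (hle hp).1.2,
    fun p hp ↦ (hVle hp).2⟩

lemma exists_pow_smul_of_res_eq_zero {c' c : Chart f} (h : c'.Le c) (g : Γ(X, c.U))
    (hg : c'.U = X.basicOpen g) {x : c.H} (hx : h.res x = 0) : ∃ n : ℕ, g ^ n • x = 0 :=
  exists_pow_smul_of_chartRes_eq_zero (U := c.src) (U' := c'.src) (V := c.tgt) (V' := c'.tgt) (e := c.e) (e' := c'.e) h.hU h.hV g hg hx

lemma exists_res_eq_pow_smul {c' c : Chart f} (h : c'.Le c) (g : Γ(X, c.U))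
    (hg : c'.U = X.basicOpen g) (y : c'.H) :
    ∃ (n : ℕ) (x : c.H), h.res x = X.presheaf.map (homOfLE h.hU).op g ^ n • y :=
  exists_chartRes_eq_pow_smul (U := c.src) (U' := c'.src) (V := c.tgt) (V' := c'.tgt) (e := c.e) (e' := c'.e) h.hU h.hV g hg y

/-- Only the source of a chart matters. -/
lemma res_bijective {c' c : Chart f} (h : c'.Le c) (hU : c'.U = c.U) :
    Function.Bijective h.res := by
  have h1 : c'.U = X.basicOpen (1 : Γ(X, c.U)) := by
    rw [X.basicOpen_of_isUnit isUnit_one]; exact hU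
  refine ⟨(injective_iff_map_eq_zero _).mpr fun x hx ↦ ?_, fun y ↦ ?_⟩
  · obtain ⟨n, hn⟩ := exists_pow_smul_of_res_eq_zero h 1 h1 hx
    rwa [one_pow, one_smul] at hn
  · obtain ⟨n, x, hx⟩ := exists_res_eq_pow_smul h 1 h1 y
    exact ⟨x, by rwa [map_one, one_pow, one_smul] at hx⟩

/-- Classes agreeing on a cover by refinements are equal. -/
lemma ext_of_cover (c : Chart f) {x y : c.H}
    (hxy : ∀ p ∈ c.U, ∃ (c' : Chart f) (h : c'.Le c), p ∈ c'.U ∧ h.res x = h.res y) : x = y := by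
  rw [← sub_eq_zero]
  let J : Ideal Γ(X, c.U) :=
    LinearMap.ker (LinearMap.toSpanSingleton Γ(X, c.U) c.H (x - y))
  suffices J = ⊤ by
    have h1 : (1 : Γ(X, c.U)) ∈ J := this ▸ Submodule.mem_top
    simpa [J] using h1
  rw [← Ideal.radical_eq_top, ← top_le_iff,
    ← (c.hU.self_le_iSup_basicOpen_iff (s := (J.radical : Set _))).mp fun p hp ↦ ?_]
  · exact (Ideal.span_eq J.radical).le
  · obtain ⟨c', h, hpc', he⟩ := hxy p hp
    obtain ⟨g, hg, hpg⟩ := c.hU.exists_basicOpen_le ⟨p, hpc'⟩ hp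
    let c'' : Chart f := ⟨X.basicOpen g, c'.V, c.hU.basicOpen g, c'.hV, le_trans hg c'.e⟩
    have h'' : c''.Le c' := ⟨hg, le_rfl⟩
    have h0 : (h''.trans h).res (x - y) = 0 := by
      rw [← h''.res_res h, map_sub, he, sub_self, map_zero]
    obtain ⟨n, hn⟩ := exists_pow_smul_of_res_eq_zero (h''.trans h) g rfl h0
    exact Opens.mem_iSup.mpr ⟨⟨g, ⟨n, hn⟩⟩, hpg⟩

/-- Compatible classes on a finite basic cover glue. -/
lemma exists_glue_basic (c : Chart f) {ι : Type u} [Fintype ι] (g : ι → Γ(X, c.U))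
    (hg : Ideal.span (Set.range g) = ⊤) (y : ∀ j, (c.basic (g j)).H)
    (hy : ∀ j k (c' : Chart f) (h₁ : c'.Le (c.basic (g j))) (h₂ : c'.Le (c.basic (g k))),
      h₁.res (y j) = h₂.res (y k)) :
    ∃ x : c.H, ∀ j, (c.basic_le (g j)).res x = y j := by
  classical
  choose n₀ x₀ hx₀ using fun j ↦ exists_res_eq_pow_smul (c.basic_le (g j)) (g j) rfl (y j)
  let n := Finset.univ.sup n₀
  obtain ⟨x, hx⟩ : ∃ x : ι → c.H, ∀ j, (c.basic_le (g j)).res (x j) =
      X.presheaf.map (homOfLE (c.basic_le (g j)).hU).op (g j) ^ n • y j := by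
    refine ⟨fun j ↦ g j ^ (n - n₀ j) • x₀ j, fun j ↦ ?_⟩
    rw [Chart.Le.res_smul, hx₀, map_pow, smul_smul, ← pow_add,
      Nat.sub_add_cancel (Finset.le_sup (f := n₀) (Finset.mem_univ j))]
  have hkey : ∀ j k, ∃ N : ℕ, (g j * g k) ^ N • (g k ^ n • x j - g j ^ n • x k) = 0 := by
    intro j k
    let c' := c.basic (g j * g k)
    have hj : c'.Le (c.basic (g j)) :=
      ⟨(X.basicOpen_mul (g j) (g k)).le.trans inf_le_left, le_rfl⟩
    have hk : c'.Le (c.basic (g k)) :=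
      ⟨(X.basicOpen_mul (g j) (g k)).le.trans inf_le_right, le_rfl⟩
    refine exists_pow_smul_of_res_eq_zero (hj.trans (c.basic_le _)) _ rfl ?_
    have hA : ∀ l (hl : c'.Le (c.basic (g l))), (hj.trans (c.basic_le (g j))).res (x l) =
        X.presheaf.map (homOfLE (hj.trans (c.basic_le (g j))).hU).op (g l) ^ n • hl.res (y l) := by
      intro l hl
      have : (hl.trans (c.basic_le (g l))).res (x l) =
          hl.res ((c.basic_le (g l)).res (x l)) := (hl.res_res _ _).symm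
      refine this.trans ?_
      rw [hx, Chart.Le.res_smul, map_pow, ← CommRingCat.comp_apply, ← Functor.map_comp]
      rfl
    rw [map_sub, Chart.Le.res_smul, Chart.Le.res_smul, hA j hj, hA k hk, hy j k c' hj hk,
      map_pow, map_pow, smul_smul, smul_smul, mul_comm, sub_self]
  choose N₀ hN₀ using hkey
  let N := Finset.univ.sup fun p : ι × ι ↦ N₀ p.1 p.2
  have hN : ∀ j k, (g j * g k) ^ N • (g k ^ n • x j - g j ^ n • x k) = 0 := by
    intro j k
    have hle : N₀ j k ≤ N :=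
      Finset.le_sup (f := fun p : ι × ι ↦ N₀ p.1 p.2) (Finset.mem_univ (j, k))
    rw [← Nat.sub_add_cancel hle, pow_add, mul_smul, hN₀, smul_zero]
  let G : ι → Γ(X, c.U) := fun j ↦ g j ^ (N + n)
  let Z : ι → c.H := fun j ↦ g j ^ N • x j
  have hG : ∀ j k, G k • Z j = G j • Z k := by
    intro j k
    have := hN j k
    rw [smul_sub, sub_eq_zero, smul_smul, smul_smul] at this
    simp only [G, Z, smul_smul]
    rw [show g k ^ (N + n) * g j ^ N = (g j * g k) ^ N * g k ^ n by ring,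
      show g j ^ (N + n) * g k ^ N = (g j * g k) ^ N * g j ^ n by ring]
    exact this
  have hspan : (1 : Γ(X, c.U)) ∈ Ideal.span (Set.range G) := by
    have := Ideal.span_pow_eq_top _ hg (N + n)
    rw [← Set.range_comp] at this
    exact (Ideal.eq_top_iff_one _).mp this
  obtain ⟨a, ha⟩ := (Ideal.mem_span_range_iff_exists_fun).mp hspan
  refine ⟨∑ j, a j • Z j, fun k ↦ ?_⟩
  have h1 : G k • ∑ j, a j • Z j = Z k := by
    simp only [Finset.smul_sum, smul_comm (G k) (a _), hG _ k, smul_smul]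
    rw [← Finset.sum_smul, ha, one_smul]
  have h2 := congr((c.basic_le (g k)).res $h1)
  simp only [Z, G, Chart.Le.res_smul, hx, map_pow, smul_smul, ← pow_add] at h2
  have hu : IsUnit (X.presheaf.map (homOfLE (c.basic_le (g k)).hU).op (g k)) :=
    RingedSpace.isUnit_res_basicOpen _ _
  simp only [Z, smul_smul]
  exact (hu.pow _).smul_left_cancel.mp h2

/-- Compatible classes on refinements in a covering family glue. -/
theorem exists_amalg (c : Chart f) (P : Chart f → Prop)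
    (hP : ∀ c' c'' : Chart f, c''.Le c' → P c' → P c'')
    (hcov : ∀ p ∈ c.U, ∃ c', P c' ∧ c'.Le c ∧ p ∈ c'.U)
    (y : ∀ c', P c' → c'.Le c → c'.H)
    (hy : ∀ c' c'' (h : c''.Le c') (hp : P c') (hc : c'.Le c),
      h.res (y c' hp hc) = y c'' (hP _ _ h hp) (h.trans hc)) :
    ∃! x : c.H, ∀ c' (hp : P c') (hc : c'.Le c), hc.res x = y c' hp hc := by
  classical
  choose d hdP hdle hdp using hcov
  let s : Set Γ(X, c.U) := {g | ∃ (p : X) (hp : p ∈ c.U), X.basicOpen g ≤ (d p hp).U}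
  have hs : Ideal.span s = ⊤ := c.hU.self_le_iSup_basicOpen_iff.mp fun p hp ↦ by
    obtain ⟨g, hg, hpg⟩ := c.hU.exists_basicOpen_le ⟨p, hdp p hp⟩ hp
    exact Opens.mem_iSup.mpr ⟨⟨g, p, hp, hg⟩, hpg⟩
  obtain ⟨t, hts, ht⟩ := (Ideal.span_eq_top_iff_finite s).mp hs
  have hsel : ∀ g : (t : Set Γ(X, c.U)), ∃ c' : Chart f, ∃ (_ : P c') (hc : c'.Le c),
      c'.U = X.basicOpen g.1 := fun g ↦ by
    obtain ⟨p, hp, hle⟩ := hts g.2
    exact ⟨⟨X.basicOpen g.1, (d p hp).V, c.hU.basicOpen _, (d p hp).hV, hle.trans (d p hp).e⟩,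
      hP (d p hp) _ ⟨hle, le_rfl⟩ (hdP p hp), ⟨X.basicOpen_le _, (hdle p hp).hV⟩, rfl⟩
  choose e hePe hele heU using hsel
  have hb : ∀ g : (t : Set Γ(X, c.U)), (e g).Le (c.basic g.1) := fun g ↦
    ⟨(heU g).le, (hele g).hV⟩
  choose z hz using fun g ↦ (res_bijective (hb g) (heU g)).2 (y (e g) (hePe g) (hele g))
  obtain ⟨x, hx⟩ := exists_glue_basic c (fun g : (t : Set Γ(X, c.U)) ↦ g.1)
    (by rw [Subtype.range_coe]; exact ht) z fun j k c' h₁ h₂ ↦ by
    refine ext_of_cover c' fun p hp ↦ ?_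
    have hpj : p ∈ (e j).U := (heU j) ▸ h₁.hU hp
    have hpk : p ∈ (e k).U := (heU k) ▸ h₂.hU hp
    obtain ⟨c'', hle, hp'', hU'', hV''⟩ := exists_chart_le c' hp
      (W := (e j).U ⊓ (e k).U) ⟨hpj, hpk⟩ (V₀ := (e j).V ⊓ (e k).V)
      ⟨(e j).e hpj, (e k).e hpk⟩
    refine ⟨c'', hle, hp'', ?_⟩
    have hj : c''.Le (e j) := ⟨hU''.trans inf_le_left, hV''.trans inf_le_left⟩
    have hk : c''.Le (e k) := ⟨hU''.trans inf_le_right, hV''.trans inf_le_right⟩
    rw [hle.res_res h₁, hle.res_res h₂]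
    have e1 := congr(hj.res $(hz j))
    have e2 := congr(hk.res $(hz k))
    rw [Chart.Le.res_res, hy] at e1 e2
    exact e1.trans e2.symm
  have key : ∀ x' : c.H, (∀ g, (hele g).res x' = y (e g) (hePe g) (hele g)) →
      ∀ c' (hp : P c') (hc : c'.Le c), hc.res x' = y c' hp hc := by
    intro x' hx' c' hp hc
    refine ext_of_cover c' fun p hpc ↦ ?_
    obtain ⟨⟨g, hgt⟩, hpg⟩ := Opens.mem_iSup.mp
      (c.hU.self_le_iSup_basicOpen_iff.mpr ht (hc.hU hpc))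
    have hpe : p ∈ (e ⟨g, hgt⟩).U := (heU ⟨g, hgt⟩).ge hpg
    obtain ⟨c'', hle, hp'', hU'', hV''⟩ := exists_chart_le c' hpc
      (W := (e ⟨g, hgt⟩).U) hpe (V₀ := (e ⟨g, hgt⟩).V) ((e ⟨g, hgt⟩).e hpe)
    refine ⟨c'', hle, hp'', ?_⟩
    have hk : c''.Le (e ⟨g, hgt⟩) := ⟨hU'', hV''⟩
    rw [hle.res_res hc, hy]
    have e2 := congr(hk.res $(hx' ⟨g, hgt⟩))
    rw [Chart.Le.res_res, hy] at e2
    exact e2
  refine ⟨x, key x fun g ↦ ?_, fun x' hx' ↦ ?_⟩
  · rw [← hz g, ← hx g, Chart.Le.res_res]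
  · refine ext_of_cover c fun p hp ↦ ⟨d p hp, hdle p hp, hdp p hp, ?_⟩
    rw [hx' _ (hdP p hp) (hdle p hp), key x (fun g ↦ by rw [← hz g, ← hx g, Chart.Le.res_res])
      _ (hdP p hp) (hdle p hp)]

end Groth.OmegaSheaf
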