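import Groth.Agent.OmegaSheaf.H1Glue
import Groth.Agent.QCohMod.Local
import Groth.Prelude.Def_Coh

/-!
# The cohomology sheaf `H^{-1}(NL_{X/Y})` as a module
-/

universe u

open CategoryTheory Limits AlgebraicGeometry Opposite TopologicalSpace

namespace Groth.OmegaSheaf

variable {X Y : Scheme.{u}} {f : X ⟶ Y}

variable (f) in
/-- Compatible families of classes on the charts below `W`. -/
def H1Fam (W : X.Opens) : AddSubgroup (∀ c : {c : Chart f // c.U ≤ W}, c.1.H) where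
  carrier := {s | ∀ (c c' : {c : Chart f // c.U ≤ W}) (h : c'.1.Le c.1), h.res (s c) = s c'}
  zero_mem' := fun c c' h ↦ map_zero _
  add_mem' {s t} hs ht c c' h := by
    change h.res (s c + t c) = s c' + t c'
    rw [map_add, hs c c' h, ht c c' h]
  neg_mem' {s} hs c c' h := by
    change h.res (-(s c)) = -(s c')
    rw [map_neg, hs c c' h]

variable {W W' : X.Opens}

noncomputable instance : SMul Γ(X, W) (H1Fam f W) :=
  ⟨fun r s ↦ ⟨fun c ↦ X.presheaf.map (homOfLE c.2).op r • s.1 c, fun c c' h ↦ by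
    rw [Chart.Le.res_smul, s.2 c c' h, ← CommRingCat.comp_apply, ← Functor.map_comp]
    rfl⟩⟩

lemma H1Fam.smul_apply (r : Γ(X, W)) (s : H1Fam f W) (c : {c : Chart f // c.U ≤ W}) :
    (r • s).1 c = X.presheaf.map (homOfLE c.2).op r • s.1 c := rfl

noncomputable instance : Module Γ(X, W) (H1Fam f W) where
  one_smul s := Subtype.ext (funext fun c ↦ by rw [H1Fam.smul_apply, map_one, one_smul])
  mul_smul r r' s := Subtype.ext (funext fun c ↦ by
    rw [H1Fam.smul_apply, H1Fam.smul_apply, H1Fam.smul_apply, map_mul, mul_smul])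
  smul_zero r := Subtype.ext (funext fun c ↦ smul_zero _)
  smul_add r s t := Subtype.ext (funext fun c ↦ smul_add _ _ _)
  add_smul r r' s := Subtype.ext (funext fun c ↦ by
    change _ = (r • s).1 c + (r' • s).1 c
    rw [H1Fam.smul_apply, H1Fam.smul_apply, H1Fam.smul_apply, map_add, add_smul])
  zero_smul s := Subtype.ext (funext fun c ↦ by rw [H1Fam.smul_apply, map_zero, zero_smul]; rfl)

/-- Restriction of families. -/
noncomputable def H1Fam.restr (h : W' ≤ W) : H1Fam f W →+ H1Fam f W' :=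
  AddMonoidHom.mk' (fun s ↦ ⟨fun c ↦ s.1 ⟨c.1, c.2.trans h⟩,
    fun c c' hc ↦ s.2 ⟨c.1, c.2.trans h⟩ ⟨c'.1, c'.2.trans h⟩ hc⟩) fun _ _ ↦ rfl

variable (f) in
/-- The presheaf of compatible families. -/
noncomputable def h1Presheaf : X.Opensᵒᵖ ⥤ Ab.{u} where
  obj W := AddCommGrpCat.of (H1Fam f W.unop)
  map h := AddCommGrpCat.ofHom (H1Fam.restr (leOfHom h.unop))
  map_id W := by ext s; rfl
  map_comp h h' := by ext s; rfl

noncomputable instance (W : X.Opensᵒᵖ) :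
    Module (X.ringCatSheaf.obj.obj W) ((h1Presheaf f).obj W) :=
  inferInstanceAs (Module Γ(X, W.unop) (H1Fam f W.unop))

lemma H1Fam.restr_smul (h : W' ≤ W) (r : Γ(X, W)) (s : H1Fam f W) :
    H1Fam.restr h (r • s) = X.presheaf.map (homOfLE h).op r • H1Fam.restr h s := by
  refine Subtype.ext (funext fun c ↦ ?_)
  change (r • s).1 ⟨c.1, c.2.trans h⟩ = _
  rw [H1Fam.smul_apply, H1Fam.smul_apply, ← CommRingCat.comp_apply, ← Functor.map_comp]
  rfl

variable (f) in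
lemma h1Presheaf_isSheaf : TopCat.Presheaf.IsSheaf (h1Presheaf f) := by
  refine (TopCat.Presheaf.isSheaf_iff_isSheafUniqueGluing (h1Presheaf f)).mpr ?_
  intro ι U sf hsf
  let sf' : ∀ i, H1Fam f (U i) := sf
  have hsf' : ∀ (i j : ι) (c : Chart f) (hi : c.U ≤ U i) (hj : c.U ≤ U j),
      (sf' i).1 ⟨c, hi⟩ = (sf' j).1 ⟨c, hj⟩ := fun i j c hi hj ↦
    congrFun (congrArg Subtype.val (hsf i j)) ⟨c, le_inf hi hj⟩
  have key : ∀ c : {c : Chart f // c.U ≤ iSup U}, ∃! x : c.1.H,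
      ∀ c' (hp : ∃ i, c'.U ≤ U i) (hc : c'.Le c.1), hc.res x = (sf' hp.choose).1 ⟨c', hp.choose_spec⟩ := by
    intro c
    refine exists_amalg c.1 (fun c' ↦ ∃ i, c'.U ≤ U i)
      (fun c' c'' h ⟨i, hi⟩ ↦ ⟨i, h.hU.trans hi⟩) (fun p hp ↦ ?_)
      (fun c' hp _ ↦ (sf' hp.choose).1 ⟨c', hp.choose_spec⟩) (fun c' c'' h hp hc ↦ ?_)
    · obtain ⟨i, hi⟩ := Opens.mem_iSup.mp (c.2 hp)
      obtain ⟨c', hle, hpc', hU', -⟩ := exists_chart_le c.1 hp (W := U i) hi (V₀ := ⊤) trivial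
      exact ⟨c', ⟨i, hU'⟩, hle, hpc'⟩
    · exact ((sf' hp.choose).2 ⟨c', hp.choose_spec⟩ ⟨c'', h.hU.trans hp.choose_spec⟩ h).trans
        (hsf' _ _ c'' _ _)
  choose x hx huniq using key
  let s : H1Fam f (iSup U) := ⟨x, fun c c' h ↦ huniq c' _ fun c'' hp hc ↦ by
    rw [Chart.Le.res_res]; exact hx c c'' hp (hc.trans h)⟩
  refine ⟨s, fun i ↦ Subtype.ext (funext fun c ↦ ?_), fun t ht ↦ Subtype.ext (funext fun c ↦ ?_)⟩
  · change x ⟨c.1, c.2.trans (le_iSup U i)⟩ = (sf' i).1 c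
    have h := hx ⟨c.1, c.2.trans (le_iSup U i)⟩ c.1 ⟨i, c.2⟩ (Chart.Le.refl _)
    refine (Eq.trans ?_ h).trans (hsf' _ i c.1 _ c.2)
    exact ((s.2 ⟨c.1, c.2.trans (le_iSup U i)⟩ ⟨c.1, c.2.trans (le_iSup U i)⟩
      (Chart.Le.refl _))).symm
  · refine huniq c _ fun c' hp hc ↦ ?_
    let t' : H1Fam f (iSup U) := t
    have h1 := t'.2 c ⟨c', hc.hU.trans c.2⟩ hc
    refine h1.trans ?_
    exact congrFun (congrArg Subtype.val (ht hp.choose)) ⟨c', hp.choose_spec⟩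

variable (f) in
/-- The module `H^{-1}(NL_{X/Y})`. -/
noncomputable def h1Mod : X.Modules where
  val := PresheafOfModules.ofPresheaf (h1Presheaf f) fun {_ _} k r s ↦
    H1Fam.restr_smul (leOfHom k.unop) r s
  isSheaf := h1Presheaf_isSheaf f

/-- Evaluation at a chart. -/
noncomputable def H1Fam.eval (c : Chart f) : H1Fam f c.U →+ c.H :=
  AddMonoidHom.mk' (fun s ↦ s.1 ⟨c, le_rfl⟩) fun _ _ ↦ rfl

lemma H1Fam.eval_bijective (c : Chart f) : Function.Bijective (H1Fam.eval c) := by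
  constructor
  · intro s t hst
    refine Subtype.ext (funext fun d ↦ ext_of_cover d.1 fun p hp ↦ ?_)
    obtain ⟨d', hle, hp', hU', hV'⟩ := exists_chart_le d.1 hp (W := c.U) (d.2 hp) (V₀ := c.V)
      (c.e (d.2 hp))
    refine ⟨d', hle, hp', ?_⟩
    have hc : d'.Le c := ⟨hU', hV'⟩
    rw [s.2 d ⟨d', hle.hU.trans d.2⟩ hle, t.2 d ⟨d', hle.hU.trans d.2⟩ hle,
      ← s.2 ⟨c, le_rfl⟩ ⟨d', hle.hU.trans d.2⟩ hc, ← t.2 ⟨c, le_rfl⟩ ⟨d', hle.hU.trans d.2⟩ hc]
    exact congrArg hc.res hst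
  · intro x
    have key : ∀ d : {d : Chart f // d.U ≤ c.U}, ∃! y : d.1.H,
        ∀ (d' : Chart f) (hp : d'.Le c) (hd : d'.Le d.1), hd.res y = hp.res x := fun d ↦
      exists_amalg d.1 (fun d' ↦ d'.Le c) (fun d' d'' h hp ↦ h.trans hp)
        (fun p hp ↦ by
          obtain ⟨d', hle, hp', hU', hV'⟩ := exists_chart_le d.1 hp (W := c.U) (d.2 hp)
            (V₀ := c.V) (c.e (d.2 hp))
          exact ⟨d', ⟨hU', hV'⟩, hle, hp'⟩)
        (fun d' hp _ ↦ hp.res x) (fun d' d'' h hp _ ↦ h.res_res hp x)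
    choose y hy huniq using key
    refine ⟨⟨y, fun d d' h ↦ huniq d' _ fun d'' hp hd ↦ by
      rw [Chart.Le.res_res]; exact hy d d'' hp (hd.trans h)⟩, ?_⟩
    exact (huniq ⟨c, le_rfl⟩ x fun d' hp hd ↦ rfl).symm

variable (f) in
/-- `h1Mod f` is `H^{-1}(NL_{X/Y})`. -/
noncomputable def h1Sheaf : NLCx.H1Sheaf f (h1Mod f) where
  iso U V e := AddEquiv.ofBijective (H1Fam.eval ⟨U.1, V.1, U.2, V.2, e⟩) (H1Fam.eval_bijective _)
  map_smul U V e a m := by
    let m' : H1Fam f U.1 := m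
    change (HSMul.hSMul (α := Γ(X, U.1)) (β := H1Fam f U.1) a m').1
      ⟨⟨U.1, V.1, U.2, V.2, e⟩, le_rfl⟩ = _
    rw [H1Fam.smul_apply]
    congr 1
    exact congr($(X.presheaf.map_id _) a)
  map_res {U U' V V'} e e' hU hV m := by
    let c : Chart f := ⟨U.1, V.1, U.2, V.2, e⟩
    let c' : Chart f := ⟨U'.1, V'.1, U'.2, V'.2, e'⟩
    exact ((m : H1Fam f U.1).2 ⟨c, le_rfl⟩ ⟨c', hU⟩ ⟨hU, hV⟩).symm

open Groth.QCohMod (res resFun res_res res_smul) in
/-- A module with the sections of `H^{-1}(NL_{X/Y})` is quasi-coherent. -/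
theorem isQuasicoherent_of_h1Sheaf {F : X.Modules} (φ : NLCx.H1Sheaf f F) : F.IsQuasicoherent := by
  refine Groth.QCohMod.isQCoh_of_affine_cover F fun x ↦ ?_
  obtain ⟨c, hxc, -⟩ := exists_chart f (show x ∈ (⊤ : X.Opens) from trivial)
  refine ⟨c.U, c.hU, hxc, fun g s ↦ ?_, fun g t ht ↦ ?_⟩
  · let c' := c.basic g
    let e' : Γ(F, X.basicOpen g) ≃+ c'.H := φ.iso c'.src c'.tgt c'.e
    let e : Γ(F, c.U) ≃+ c.H := φ.iso c.src c.tgt c.e
    obtain ⟨n, y, hy⟩ := exists_res_eq_pow_smul (c.basic_le g) g rfl (e' s)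
    refine ⟨n, e.symm y, e'.injective ?_⟩
    have h1 : e' (res F (X.basicOpen_le g) (e.symm y)) = (c.basic_le g).res (e (e.symm y)) :=
      φ.map_res (U := c.src) (U' := c'.src) (V := c.tgt) (V' := c'.tgt) c.e c'.e (c.basic_le g).hU le_rfl (e.symm y)
    rw [h1, AddEquiv.apply_symm_apply, hy]
    exact (φ.map_smul c'.src c'.tgt c'.e _ s).symm
  · let c' := c.basic g
    let e' : Γ(F, X.basicOpen g) ≃+ c'.H := φ.iso c'.src c'.tgt c'.e
    let e : Γ(F, c.U) ≃+ c.H := φ.iso c.src c.tgt c.e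
    have h1 : (c.basic_le g).res (e t) = 0 := by
      have : e' (res F (X.basicOpen_le g) t) = (c.basic_le g).res (e t) :=
        φ.map_res (U := c.src) (U' := c'.src) (V := c.tgt) (V' := c'.tgt) c.e c'.e (c.basic_le g).hU le_rfl t
      rw [← this, ht, map_zero]
    obtain ⟨n, hn⟩ := exists_pow_smul_of_res_eq_zero (c.basic_le g) g rfl h1
    refine ⟨n, e.injective ?_⟩
    rw [map_zero, ← hn]
    exact φ.map_smul c.src c.tgt c.e _ t

end Groth.OmegaSheaf
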