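import Groth.Agent.OmegaSheaf.H1Chart
import Groth.Agent.OmegaSheaf.ConormalSections
import Groth.Agent.CohTwo.Glue
import Groth.Agent.QCohMod.Category

/-!
# The conormal sheaf of an immersion is `H^{-1}` of the naive cotangent complex
-/

universe u

open CategoryTheory Limits AlgebraicGeometry Opposite TopologicalSpace

namespace Groth.OmegaSheaf

open Groth.QCohMod (res res_res res_smul res_app res_self)

variable {Z X : Scheme.{u}} (i : Z ⟶ X) [IsImmersion i]

/-- A small chart of an immersion: an affine open of the ambient scheme below the coborder. -/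
structure SmallChart where
  W : X.Opens
  affine : IsAffineOpen W
  le : W ≤ i.coborderRange

variable {i}

lemma SmallChart.isConormalChart (c : SmallChart i) : IsConormalChart i c.W :=
  isConormalChart_of_le i c.affine c.le

/-- The source of a small chart, as an affine open. -/
abbrev SmallChart.src (c : SmallChart i) : Z.affineOpens :=
  ⟨i ⁻¹ᵁ c.W, c.isConormalChart.affine_preimage⟩

/-- The target of a small chart, as an affine open. -/
abbrev SmallChart.tgt (c : SmallChart i) : X.affineOpens := ⟨c.W, c.affine⟩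

lemma SmallChart.e (c : SmallChart i) : (c.src : Z.Opens) ≤ i ⁻¹ᵁ (c.tgt : X.Opens) := le_rfl

lemma exists_smallChart (z : Z) {W₀ : X.Opens} (hz : i z ∈ W₀) :
    ∃ c : SmallChart i, i z ∈ c.W ∧ c.W ≤ W₀ := by
  have hzc : i z ∈ i.coborderRange := subset_coborder ⟨z, rfl⟩
  obtain ⟨_, ⟨W : X.Opens, hW, rfl⟩, hzW, hle⟩ := X.isBasis_affineOpens.exists_subset_of_mem_open
    (show i z ∈ W₀ ⊓ i.coborderRange from ⟨hz, hzc⟩) (W₀ ⊓ i.coborderRange).2
  exact ⟨⟨W, hW, fun p hp ↦ (hle hp).2⟩, hzW, fun p hp ↦ (hle hp).1⟩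

/-- Small charts lying over a given chart pair. -/
structure Sub (U : Z.affineOpens) (V : X.affineOpens) where
  c : SmallChart i
  hV : c.W ≤ (V : X.Opens)
  hU : i ⁻¹ᵁ c.W ≤ (U : Z.Opens)

variable {U U' : Z.affineOpens} {V V' : X.affineOpens}
  {e : (U : Z.Opens) ≤ i ⁻¹ᵁ (V : X.Opens)} {e' : (U' : Z.Opens) ≤ i ⁻¹ᵁ (V' : X.Opens)}

lemma exists_sub (e : (U : Z.Opens) ≤ i ⁻¹ᵁ (V : X.Opens)) {z : Z} (hz : z ∈ (U : Z.Opens))
    {W₀ : X.Opens} (hz₀ : i z ∈ W₀) :
    ∃ s : Sub (i := i) U V, i z ∈ s.c.W ∧ s.c.W ≤ W₀ := by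
  obtain ⟨O, hO, hOU⟩ := (Scheme.Hom.isEmbedding i).isInducing.isOpen_iff.mp (U : Z.Opens).2
  have hzO : i z ∈ O := by
    have : z ∈ i ⁻¹' O := hOU.symm ▸ hz
    exact this
  obtain ⟨c, hc, hcle⟩ := exists_smallChart (i := i) z
    (show i z ∈ W₀ ⊓ (V : X.Opens) ⊓ ⟨O, hO⟩ from ⟨⟨hz₀, e hz⟩, hzO⟩)
  refine ⟨⟨c, fun p hp ↦ (hcle hp).1.2, fun p hp ↦ ?_⟩, hc, fun p hp ↦ (hcle hp).1.1⟩
  have : p ∈ i ⁻¹' O := (hcle hp).2
  rw [hOU] at this
  exact this

lemma exists_basic_sub (e : (U : Z.Opens) ≤ i ⁻¹ᵁ (V : X.Opens)) {z : Z} (hz : z ∈ (U : Z.Opens)) :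
    ∃ (s : Sub (i := i) U V) (g : Γ(Z, (U : Z.Opens))),
      i ⁻¹ᵁ s.c.W = Z.basicOpen g ∧ z ∈ Z.basicOpen g := by
  obtain ⟨s, hzs, -⟩ := exists_sub e hz (W₀ := ⊤) trivial
  obtain ⟨g, hg, hzg⟩ := U.2.exists_basicOpen_le ⟨z, show z ∈ i ⁻¹ᵁ s.c.W from hzs⟩ hz
  obtain ⟨h, hh⟩ := s.c.isConormalChart.surjective (Z.presheaf.map (homOfLE s.hU).op g)
  have heq : i ⁻¹ᵁ X.basicOpen h = Z.basicOpen g := by
    rw [Scheme.preimage_basicOpen, hh, Scheme.basicOpen_res]
    exact inf_eq_right.mpr hg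
  refine ⟨⟨⟨X.basicOpen h, s.c.affine.basicOpen h, (X.basicOpen_le h).trans s.c.le⟩,
    (X.basicOpen_le h).trans s.hV, (i.preimage_mono (X.basicOpen_le h)).trans s.hU⟩, g, heq, hzg⟩

variable [QuasiCompact i]

lemma appLE_idealSect_eq_zero {W : X.Opens} {T : Z.Opens} (e : T ≤ i ⁻¹ᵁ W)
    (k : Γ(ClSub.idealMod i.ker, W)) : i.appLE W T e (OmegaSh.idealSect i.ker W k) = 0 := by
  change Z.presheaf.map _ (i.app W (OmegaSh.idealSect i.ker W k)) = 0
  rw [app_idealSect, map_zero]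

variable (i) in
/-- The ideal of a small chart maps to its `H^{-1}`. -/
noncomputable def kappa (c : SmallChart i) :
    Γ(ClSub.idealMod i.ker, c.W) →+ NLCx.ChartH1 i c.src c.tgt c.e :=
  AddMonoidHom.mk' (fun k ↦ kerH1 c.src c.tgt c.e (OmegaSh.idealSect i.ker c.W k)
    (appLE_idealSect_eq_zero c.e k)) fun a b ↦ by
    let _ := (i.appLE (c.tgt : X.Opens) (c.src : Z.Opens) c.e).hom.toAlgebra
    refine Eq.trans ?_ (ofKer_add _ _)
    exact congrArg ofKer (Subtype.ext (map_add _ a b))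

lemma ker_appLE_eq (c : SmallChart i) :
    RingHom.ker (i.appLE (c.tgt : X.Opens) (c.src : Z.Opens) c.e).hom =
      RingHom.ker (i.app c.W).hom := by
  rw [Scheme.Hom.app_eq_appLE]

lemma appLE_surjective (c : SmallChart i) :
    Function.Surjective (i.appLE (c.tgt : X.Opens) (c.src : Z.Opens) c.e) := by
  have := c.isConormalChart.surjective
  rw [Scheme.Hom.app_eq_appLE] at this
  exact this

lemma kappa_surjective (c : SmallChart i) : Function.Surjective (kappa i c) := by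
  let _ := (i.appLE (c.tgt : X.Opens) (c.src : Z.Opens) c.e).hom.toAlgebra
  intro x
  obtain ⟨⟨a, ha⟩, rfl⟩ := ofKer_surjective
    (R := Γ(X, (c.tgt : X.Opens))) (S := Γ(Z, (c.src : Z.Opens))) (appLE_surjective c) x
  have ha' : a ∈ RingHom.ker (i.app c.W).hom := ker_appLE_eq c ▸ ha
  obtain ⟨k, hk⟩ := exists_idealSect_of_app_eq_zero i (RingHom.mem_ker.mp ha')
  refine ⟨k, ?_⟩
  exact congrArg ofKer (Subtype.ext hk)

lemma kappa_eq_zero_iff (c : SmallChart i) (k : Γ(ClSub.idealMod i.ker, c.W)) :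
    kappa i c k = 0 ↔ OmegaSh.conormalSect i c.W k = 0 := by
  let _ := (i.appLE (c.tgt : X.Opens) (c.src : Z.Opens) c.e).hom.toAlgebra
  refine (ofKer_eq_zero_iff (R := Γ(X, (c.tgt : X.Opens))) (S := Γ(Z, (c.src : Z.Opens)))
    (appLE_surjective c) ⟨_, appLE_idealSect_eq_zero c.e k⟩).trans ?_
  rw [c.isConormalChart.conormalSect_eq_zero_iff, ← ker_appLE_eq c]
  rfl

variable (i) in
/-- The identification on a small chart. -/
noncomputable def theta (c : SmallChart i) :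
    NLCx.ChartH1 i c.src c.tgt c.e →+ Γ(Omega.conormal i, i ⁻¹ᵁ c.W) :=
  AddMonoidHom.liftOfSurjective (kappa i c) (kappa_surjective c)
    ⟨(OmegaSh.conormalSect i c.W).hom, fun k hk ↦ (kappa_eq_zero_iff c k).mp hk⟩

lemma theta_kappa (c : SmallChart i) (k : Γ(ClSub.idealMod i.ker, c.W)) :
    theta i c (kappa i c k) = OmegaSh.conormalSect i c.W k :=
  AddMonoidHom.liftOfRightInverse_comp_apply _ _ _ _ _

lemma theta_injective (c : SmallChart i) : Function.Injective (theta i c) := by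
  rw [injective_iff_map_eq_zero]
  intro x hx
  obtain ⟨k, rfl⟩ := kappa_surjective c x
  rw [theta_kappa] at hx
  exact (kappa_eq_zero_iff c k).mpr hx

lemma theta_surjective (c : SmallChart i) : Function.Surjective (theta i c) := fun m ↦ by
  obtain ⟨k, rfl⟩ := c.isConormalChart.conormalSect_surjective m
  exact ⟨kappa i c k, theta_kappa c k⟩

lemma kappa_smul (c : SmallChart i) (r : Γ(X, c.W)) (k : Γ(ClSub.idealMod i.ker, c.W)) :
    kappa i c (r • k) = i.app c.W r • kappa i c k := by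
  let _ := (i.appLE (c.tgt : X.Opens) (c.src : Z.Opens) c.e).hom.toAlgebra
  refine (congrArg ofKer (Subtype.ext ?_)).trans
    ((ofKer_smul (R := Γ(X, (c.tgt : X.Opens))) (S := Γ(Z, (c.src : Z.Opens))) r
      ⟨_, appLE_idealSect_eq_zero c.e k⟩).trans ?_)
  · exact idealSect_smul i.ker c.W r k
  · rw [Scheme.Hom.app_eq_appLE]; rfl

lemma theta_smul (c : SmallChart i) (b : Γ(Z, i ⁻¹ᵁ c.W))
    (x : NLCx.ChartH1 i c.src c.tgt c.e) : theta i c (b • x) = b • theta i c x := by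
  obtain ⟨r, rfl⟩ := c.isConormalChart.surjective b
  obtain ⟨k, rfl⟩ := kappa_surjective c x
  have := kappa_smul c r k
  change theta i c (i.app c.W r • kappa i c k) = _
  rw [← this, theta_kappa, theta_kappa, conormalSect_smul]

lemma theta_res {c c' : SmallChart i} (h : c'.W ≤ c.W) (x : NLCx.ChartH1 i c.src c.tgt c.e) :
    res _ (i.preimage_mono h) (theta i c x) =
      theta i c' (NLCx.chartRes c.e c'.e (i.preimage_mono h) h x) := by
  obtain ⟨k, rfl⟩ := kappa_surjective c x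
  rw [theta_kappa, res_conormalSect i h, ← theta_kappa]
  congr 1
  change _ = NLCx.chartRes c.e c'.e _ _ (kerH1 c.src c.tgt c.e (OmegaSh.idealSect i.ker c.W k) _)
  rw [chartRes_kerH1 (ha' := by
    have := appLE_idealSect_eq_zero c'.e (res _ h k)
    change i.appLE _ _ _ (OmegaSh.idealSect i.ker c'.W ((ClSub.idealMod i.ker).presheaf.map _ k)) = 0
      at this
    rw [idealSect_res] at this
    exact this)]
  let _ := (i.appLE (c'.tgt : X.Opens) (c'.src : Z.Opens) c'.e).hom.toAlgebra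
  exact congrArg ofKer (Subtype.ext (idealSect_res i.ker h k))

/-- The section on a small chart attached to a class. -/
noncomputable def part (e : (U : Z.Opens) ≤ i ⁻¹ᵁ (V : X.Opens)) (s : Sub (i := i) U V) :
    NLCx.ChartH1 i U V e →+ Γ(Omega.conormal i, i ⁻¹ᵁ s.c.W) :=
  (theta i s.c).comp (NLCx.chartRes e s.c.e s.hU s.hV)

lemma part_res {s s' : Sub (i := i) U V} (h : s'.c.W ≤ s.c.W) (x : NLCx.ChartH1 i U V e) :
    res _ (i.preimage_mono h) (part e s x) = part e s' x := by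
  change res _ _ (theta i s.c (NLCx.chartRes e s.c.e s.hU s.hV x)) = _
  rw [theta_res h]
  exact congrArg (theta i s'.c) (chartRes_comp s.hU s.hV _ _ x)

lemma eq_of_res_sub (e : (U : Z.Opens) ≤ i ⁻¹ᵁ (V : X.Opens))
    {t t' : Γ(Omega.conormal i, (U : Z.Opens))}
    (h : ∀ s : Sub (i := i) U V, res _ s.hU t = res _ s.hU t') : t = t' :=
  Groth.CohTwo.eq_of_local _ _ _ fun z hz ↦ by
    obtain ⟨s, hzs, -⟩ := exists_sub e hz (W₀ := ⊤) trivial
    exact ⟨i ⁻¹ᵁ s.c.W, s.hU, hzs, h s⟩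

lemma exists_glue_part (e : (U : Z.Opens) ≤ i ⁻¹ᵁ (V : X.Opens)) (x : NLCx.ChartH1 i U V e) :
    ∃ t : Γ(Omega.conormal i, (U : Z.Opens)), ∀ s : Sub (i := i) U V,
      res _ s.hU t = part e s x := by
  obtain ⟨t, ht⟩ := Groth.CohTwo.exists_glue (Omega.conormal i)
    (fun s : Sub (i := i) U V ↦ i ⁻¹ᵁ s.c.W) (fun s ↦ s.hU) (fun z hz ↦ by
      obtain ⟨s, hzs, -⟩ := exists_sub e hz (W₀ := ⊤) trivial
      exact ⟨s, hzs⟩) (fun s ↦ part e s x) fun s s' ↦ by
    refine Groth.CohTwo.eq_of_local _ _ _ fun z hz ↦ ?_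
    obtain ⟨s'', hz'', hle⟩ := exists_sub (V := V) e (s.hU hz.1)
      (W₀ := s.c.W ⊓ s'.c.W) ⟨hz.1, hz.2⟩
    refine ⟨i ⁻¹ᵁ s''.c.W, fun p hp ↦ ⟨(hle hp).1, (hle hp).2⟩, hz'', ?_⟩
    change res _ _ (res _ _ (part e s x)) = res _ _ (res _ _ (part e s' x))
    refine (res_res _ _ _ _).trans (Eq.trans ?_ (res_res _ _ _ _).symm)
    exact (part_res (hle.trans inf_le_left) x).trans (part_res (hle.trans inf_le_right) x).symm
  exact ⟨t, ht⟩

/-- The map from the chartwise `H^{-1}` to the sections of the conormal sheaf. -/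
noncomputable def phi (e : (U : Z.Opens) ≤ i ⁻¹ᵁ (V : X.Opens)) :
    NLCx.ChartH1 i U V e →+ Γ(Omega.conormal i, (U : Z.Opens)) :=
  AddMonoidHom.mk' (fun x ↦ (exists_glue_part e x).choose) fun x y ↦ eq_of_res_sub e fun s ↦ by
    rw [map_add, (exists_glue_part e _).choose_spec s, (exists_glue_part e _).choose_spec s,
      (exists_glue_part e _).choose_spec s, map_add]

lemma res_phi (s : Sub (i := i) U V) (x : NLCx.ChartH1 i U V e) :
    res _ s.hU (phi e x) = part e s x :=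
  (exists_glue_part e x).choose_spec s

lemma phi_smul (b : Γ(Z, (U : Z.Opens))) (x : NLCx.ChartH1 i U V e) :
    phi e (b • x) = b • phi e x := eq_of_res_sub e fun s ↦ by
  rw [res_phi, res_smul, res_phi]
  change theta i s.c (NLCx.chartRes e s.c.e s.hU s.hV (b • x)) = _
  rw [chartRes_smul, theta_smul]
  rfl

lemma phi_res (hU : (U' : Z.Opens) ≤ U) (hV : (V' : X.Opens) ≤ V) (x : NLCx.ChartH1 i U V e) :
    res _ hU (phi e x) = phi e' (NLCx.chartRes e e' hU hV x) := eq_of_res_sub e' fun s ↦ by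
  rw [res_phi, res_res]
  change res _ _ (phi e x) = theta i s.c (NLCx.chartRes e' s.c.e s.hU s.hV _)
  rw [chartRes_comp hU hV s.hU s.hV]
  exact res_phi (e := e) ⟨s.c, s.hV.trans hV, s.hU.trans hU⟩ x

lemma ideal_eq_top_of_forall (U : Z.affineOpens) (J : Ideal Γ(Z, (U : Z.Opens)))
    (h : ∀ z ∈ (U : Z.Opens), ∃ g, z ∈ Z.basicOpen g ∧ ∃ n : ℕ, g ^ n ∈ J) : J = ⊤ := by
  rw [← Ideal.radical_eq_top]
  rw [← top_le_iff, ← (U.2.self_le_iSup_basicOpen_iff (s := (J.radical : Set _))).mp fun z hz ↦ ?_]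
  · exact (Ideal.span_eq J.radical).le
  · obtain ⟨g, hzg, n, hn⟩ := h z hz
    exact Opens.mem_iSup.mpr ⟨⟨g, ⟨n, hn⟩⟩, hzg⟩

theorem phi_bijective (e : (U : Z.Opens) ≤ i ⁻¹ᵁ (V : X.Opens)) :
    Function.Bijective (phi e) := by
  constructor
  · rw [injective_iff_map_eq_zero]
    intro x hx
    let J : Ideal Γ(Z, (U : Z.Opens)) :=
      LinearMap.ker (LinearMap.toSpanSingleton Γ(Z, (U : Z.Opens)) (NLCx.ChartH1 i U V e) x)
    have : J = ⊤ := ideal_eq_top_of_forall U J fun z hz ↦ by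
      obtain ⟨s, g, hg, hzg⟩ := exists_basic_sub e hz
      refine ⟨g, hzg, ?_⟩
      have h0 : theta i s.c (NLCx.chartRes e s.c.e s.hU s.hV x) = 0 := by
        have := res_phi (e := e) s x
        rw [hx, map_zero] at this
        exact this.symm
      exact exists_pow_smul_of_chartRes_eq_zero s.hU s.hV g hg
        (theta_injective s.c (h0.trans (map_zero _).symm))
    have h1 : (1 : Γ(Z, (U : Z.Opens))) ∈ J := this ▸ Submodule.mem_top
    simpa [J] using h1
  · intro m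
    let φ : NLCx.ChartH1 i U V e →ₗ[Γ(Z, (U : Z.Opens))] Γ(Omega.conormal i, (U : Z.Opens)) :=
      { phi e with map_smul' := phi_smul }
    let J : Ideal Γ(Z, (U : Z.Opens)) := (LinearMap.range φ).comap
      (LinearMap.toSpanSingleton Γ(Z, (U : Z.Opens)) Γ(Omega.conormal i, (U : Z.Opens)) m)
    have : J = ⊤ := ideal_eq_top_of_forall U J fun z hz ↦ by
      obtain ⟨s, g, hg, hzg⟩ := exists_basic_sub e hz
      refine ⟨g, hzg, ?_⟩
      obtain ⟨y, hy⟩ := theta_surjective s.c (res _ s.hU m)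
      obtain ⟨n, x, hx⟩ := exists_chartRes_eq_pow_smul (e := e) s.hU s.hV g hg y
      have h2 : res _ s.hU (phi e x - g ^ n • m) = 0 := by
        rw [map_sub, res_phi, res_smul]
        change theta i s.c (NLCx.chartRes e s.c.e s.hU s.hV x) - _ = 0
        rw [hx, theta_smul, hy, map_pow]
        exact sub_self _
      have h3 : res _ (Z.basicOpen_le g) (phi e x - g ^ n • m) = 0 := by
        have := congr(res (Omega.conormal i) hg.ge $h2)
        rw [res_res, map_zero] at this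
        exact this
      obtain ⟨k, hk⟩ := Groth.QCohMod.exists_pow_smul_eq_zero (Omega.conormal i) U.2 g _ h3
      refine ⟨k + n, g ^ k • x, ?_⟩
      change phi e (g ^ k • x) = g ^ (k + n) • m
      rw [phi_smul, pow_add, mul_smul]
      rw [smul_sub, sub_eq_zero] at hk
      exact hk
    have h1 : (1 : Γ(Z, (U : Z.Opens))) ∈ J := this ▸ Submodule.mem_top
    obtain ⟨x, hx⟩ := h1
    exact ⟨x, hx.trans (one_smul _ m)⟩

variable (i) in
/-- `C_{Z/X}` is `H^{-1}(NL_{Z/X})`. -/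
noncomputable def conormalH1Sheaf : NLCx.H1Sheaf i (Omega.conormal i) where
  iso U V e := (AddEquiv.ofBijective (phi e) (phi_bijective e)).symm
  map_smul U V e a m := by
    refine (AddEquiv.symm_apply_eq _).mpr ?_
    change _ = phi e (a • _)
    rw [phi_smul]
    exact (congrArg (fun t : Γ(Omega.conormal i, (U : Z.Opens)) => a • t)
      (AddEquiv.apply_symm_apply (AddEquiv.ofBijective (phi e) (phi_bijective e)) m)).symm
  map_res {U U' V V'} e e' hU hV m := by
    refine (AddEquiv.symm_apply_eq _).mpr ?_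
    change _ = phi e' _
    rw [← phi_res]
    exact congrArg (res _ hU)
      (AddEquiv.apply_symm_apply (AddEquiv.ofBijective (phi e) (phi_bijective e)) m).symm

end Groth.OmegaSheaf
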