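import Groth.Agent.OmegaSheaf.ConormalDiff

/-!
# Pullbacks of differentials on charts
-/

universe u

open CategoryTheory Limits AlgebraicGeometry Opposite TopologicalSpace TensorProduct

namespace Groth.OmegaSheaf

open Groth.QCohMod (res res_res res_smul res_app res_self sectionsAlg pullSecTensor
  pullSecTensor_tmul pullSecEquiv)
open Groth.PicAux (pullSec)

/-- Additive maps out of `B ⊗ Ω` agreeing on all `b ⊗ D s` are equal. -/
lemma tensor_kaehler_ext {R A B : Type u} [CommRing R] [CommRing A] [CommRing B] [Algebra R A]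
    [Algebra A B] {N : Type u} [AddCommMonoid N] (G H : B ⊗[A] Ω[A⁄R] →+ N)
    (h : ∀ b s, G (b ⊗ₜ KaehlerDifferential.D R A s) = H (b ⊗ₜ KaehlerDifferential.D R A s))
    (z : B ⊗[A] Ω[A⁄R]) : G z = H z := by
  induction z using TensorProduct.induction_on with
  | zero => rw [map_zero, map_zero]
  | add a b ha hb => rw [map_add, map_add, ha, hb]
  | tmul b m =>
    have hm : m ∈ Submodule.span A (Set.range (KaehlerDifferential.D R A)) := by
      rw [KaehlerDifferential.span_range_derivation]; trivial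
    induction hm using Submodule.span_induction generalizing b with
    | mem m hm => obtain ⟨s, rfl⟩ := hm; exact h b s
    | zero => rw [tmul_zero, map_zero, map_zero]
    | add a a' _ _ ha ha' => rw [tmul_add, map_add, map_add, ha, ha']
    | smul r a _ ha => rw [tmul_smul, TensorProduct.smul_tmul']; exact ha _

variable {X Y X' : Scheme.{u}} {f : X ⟶ Y} {Ω₁ : X.Modules} {d₁ : OmegaSh.Der f Ω₁}
  (hd₁ : OmegaSh.IsUniversal d₁) (h : X' ⟶ X) (c₁ : Chart f) {P : X'.Opens} (hP : IsAffineOpen P)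
  (e : P ≤ h ⁻¹ᵁ c₁.U)

/-- `Γ(h^*Ω_{X/Y}, P) ≅ Γ(X', P) ⊗ Ω[Γ(X, U)⁄Γ(Y, V)]`. -/
noncomputable def pullChartEquiv :
    letI := chartAlg f c₁.e
    letI := sectionsAlg h e
    Γ(X', P) ⊗[Γ(X, c₁.U)] Ω[Γ(X, c₁.U)⁄Γ(Y, c₁.V)] ≃ₗ[Γ(X', P)]
      Γ((Scheme.Modules.pullback h).obj Ω₁, P) :=
  letI := chartAlg f c₁.e
  letI := sectionsAlg h e
  haveI := isQCoh_of_isUniversal hd₁
  TensorProduct.AlgebraTensorModule.congr (LinearEquiv.refl Γ(X', P) Γ(X', P))
    (universalChartEquiv hd₁ c₁) ≪≫ₗ pullSecEquiv h Ω₁ e c₁.hU hP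

lemma pullChartEquiv_tmul_D (b : Γ(X', P)) (s : Γ(X, c₁.U)) :
    letI := chartAlg f c₁.e
    letI := sectionsAlg h e
    pullChartEquiv hd₁ h c₁ hP e (b ⊗ₜ KaehlerDifferential.D Γ(Y, c₁.V) Γ(X, c₁.U) s) =
      b • res _ e (OmegaSh.pullSect h Ω₁ c₁.U (d₁.app c₁.U s)) := by
  let _ := chartAlg f c₁.e
  let _ := sectionsAlg h e
  change pullSecTensor h Ω₁ e (b ⊗ₜ universalChartEquiv hd₁ c₁ _) = _
  rw [universalChartEquiv_D, pullSecTensor_tmul]
  rfl

variable {Y' : Scheme.{u}} {f' : X' ⟶ Y'} {Ω₂ : X'.Modules} {d₂ : OmegaSh.Der f' Ω₂}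
  {c : (Scheme.Modules.pullback h).obj Ω₁ ⟶ Ω₂}

/-- The comparison map on charts. -/
lemma app_pullChartEquiv (hc : OmegaSh.IsDiffCompat h d₁ d₂ c) {V' : Y'.Opens} (e' : P ≤ f' ⁻¹ᵁ V') :
    letI := chartAlg f c₁.e
    letI := chartAlg f' e'
    letI := sectionsAlg h e
    ∀ Φ : Γ(X', P) ⊗[Γ(X, c₁.U)] Ω[Γ(X, c₁.U)⁄Γ(Y, c₁.V)] →ₗ[Γ(X', P)]
          Ω[Γ(X', P)⁄Γ(Y', V')],
      (∀ b s, Φ (b ⊗ₜ KaehlerDifferential.D Γ(Y, c₁.V) Γ(X, c₁.U) s) =
        b • KaehlerDifferential.D Γ(Y', V') Γ(X', P) (h.appLE c₁.U P e s)) →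
      ∀ z, c.app P (pullChartEquiv hd₁ h c₁ hP e z) = chartLift f' e' d₂ (Φ z) := by
  let _ := chartAlg f c₁.e
  let _ := chartAlg f' e'
  let _ := sectionsAlg h e
  intro Φ hΦ z
  refine tensor_kaehler_ext
    ((c.app P).hom.comp (pullChartEquiv hd₁ h c₁ hP e).toAddEquiv.toAddMonoidHom)
    ((chartLift f' e' d₂).toAddMonoidHom.comp Φ.toAddMonoidHom) (fun b s ↦ ?_) z
  change c.app P (pullChartEquiv hd₁ h c₁ hP e _) = chartLift f' e' d₂ (Φ _)
  rw [pullChartEquiv_tmul_D, hΦ, Scheme.Modules.Hom.app_smul, LinearMap.map_smul, chartLift_D,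
    ← isDiffCompat_res hc e]
  rfl

/-- Maps out of the conormal sheaf are determined on the classes of sections of the ideal. -/
lemma conormal_hom_ext {Z : Scheme.{u}} {i : Z ⟶ X} {F : Z.Modules}
    {φ φ' : Omega.conormal i ⟶ F} (hh : ∀ U k, φ.app (i ⁻¹ᵁ U) (OmegaSh.conormalSect i U k) =
      φ'.app (i ⁻¹ᵁ U) (OmegaSh.conormalSect i U k)) : φ = φ' := by
  let adj := Scheme.Modules.pullbackPushforwardAdjunction i
  refine (adj.homEquiv (ClSub.idealMod i.ker) F).injective (Groth.CohTwo.hom_ext_app fun U k ↦ ?_)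
  exact (homEquiv_pullback_app φ U k).trans ((hh U k).trans (homEquiv_pullback_app φ' U k).symm)

end Groth.OmegaSheaf
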