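import Groth.Agent.OmegaSheaf.SmoothRank
import Groth.Agent.Calg4.RegularAscent
import Groth.Agent.Calg4.SmoothRegularField
import Groth.Agent.Calg1.MiracleFlatness
import Groth.Agent.Flatmor4.CMComp

/-!
# Smoothness over a regular base from the rank of the differentials
-/

set_option autoImplicit false
set_option linter.style.haveILetI false

universe u

open CategoryTheory AlgebraicGeometry TopologicalSpace TensorProduct IsLocalRing

namespace Groth.OmegaSheaf

/-- Regular special fibre of the right dimension over a regular base: regular total ring, flat map. -/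
theorem flat_of_regular_quotient {A B : Type u} [CommRing A] [CommRing B] [IsRegularLocalRing A]
    [IsLocalRing B] [IsNoetherianRing B] (φ : A →+* B) [IsLocalHom φ]
    (hreg : IsRegularLocalRing (B ⧸ (maximalIdeal A).map φ))
    (hdim : ringKrullDim B = ringKrullDim A + ringKrullDim (B ⧸ (maximalIdeal A).map φ)) :
    φ.Flat := by
  set I := (maximalIdeal A).map φ
  have hI : I ≤ maximalIdeal B := ((local_hom_TFAE φ).out 0 2).mp ‹_›
  obtain ⟨s, hs, hsI⟩ := Submodule.FG.exists_span_finset_card_eq_spanFinrank
    (IsNoetherian.noetherian (maximalIdeal A))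
  obtain ⟨t, ht, htI⟩ := Submodule.FG.exists_span_finset_card_eq_spanFinrank
    (IsNoetherian.noetherian (maximalIdeal (B ⧸ I)))
  classical
  let t' : Finset B := t.image (Function.surjInv (Ideal.Quotient.mk_surjective (I := I)))
  have hspan : Ideal.span ((s.image φ ∪ t' : Finset B) : Set B) = maximalIdeal B := by
    have hs' : Ideal.span ((s.image φ : Finset B) : Set B) = I := by
      rw [Finset.coe_image, ← Ideal.map_span]
      exact congrArg (Ideal.map φ) hsI
    have ht' : (Ideal.span (t' : Set B)).map (Ideal.Quotient.mk I) = maximalIdeal (B ⧸ I) := by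
      rw [Ideal.map_span, Finset.coe_image, ← Set.image_comp,
        show Ideal.Quotient.mk I ∘ Function.surjInv (Ideal.Quotient.mk_surjective (I := I)) = id from
          funext fun b => Function.surjInv_eq _ b, Set.image_id]
      exact htI
    rw [Finset.coe_union, Ideal.span_union, hs', sup_comm]
    have h := congrArg (Ideal.comap (Ideal.Quotient.mk I)) ht'
    rw [Ideal.comap_map_of_surjective _ Ideal.Quotient.mk_surjective, ← RingHom.ker_eq_comap_bot,
      Ideal.mk_ker] at h
    rw [h]
    exact eq_maximalIdeal (Ideal.comap_isMaximal_of_surjective _ Ideal.Quotient.mk_surjective)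
  have hle : (maximalIdeal B).spanFinrank ≤
      (maximalIdeal A).spanFinrank + (maximalIdeal (B ⧸ I)).spanFinrank := by
    calc (maximalIdeal B).spanFinrank = (Ideal.span ((s.image φ ∪ t' : Finset B) : Set B)).spanFinrank := by
          rw [hspan]
      _ ≤ ((s.image φ ∪ t' : Finset B) : Set B).ncard :=
          Submodule.spanFinrank_span_le_ncard_of_finite (Finset.finite_toSet _)
      _ = (s.image φ ∪ t').card := Set.ncard_coe_finset _
      _ ≤ s.card + t.card := (Finset.card_union_le _ _).trans
          (Nat.add_le_add Finset.card_image_le Finset.card_image_le)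
      _ = _ := by rw [hs, ht]
  haveI : IsRegularLocalRing B := by
    apply IsRegularLocalRing.of_spanFinrank_maximalIdeal_le
    rw [hdim, ← IsRegularLocalRing.spanFinrank_maximalIdeal (R := A),
      ← IsRegularLocalRing.spanFinrank_maximalIdeal (R := B ⧸ I)]
    exact_mod_cast hle
  haveI := Groth.Calg4.isCohenMacaulayLocalRing_of_isRegularLocalRing B
  letI := φ.toAlgebra
  haveI : IsLocalHom (algebraMap A B) := ‹IsLocalHom φ›
  exact Groth.Calg1.flat_of_isRegularLocalRing_of_isCohenMacaulay A B hdim

/-- Regular special fibre, moved along an isomorphism of arrows. -/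
theorem isRegularLocalRing_quotient_of_arrow_iso {R S R' S' : CommRingCat.{u}} [IsLocalRing R]
    [IsLocalRing R'] {φ : R ⟶ S} {ψ : R' ⟶ S'} (i : Arrow.mk φ ≅ Arrow.mk ψ)
    (h : IsRegularLocalRing (S' ⧸ (maximalIdeal R').map ψ.hom)) :
    IsRegularLocalRing (S ⧸ (maximalIdeal R).map φ.hom) := by
  haveI := h
  let el : R' ≃+* R := (Arrow.leftFunc.mapIso i.symm).commRingCatIsoToRingEquiv
  let er : S' ≃+* S := (Arrow.rightFunc.mapIso i.symm).commRingCatIsoToRingEquiv
  refine IsRegularLocalRing.of_ringEquiv (R := S' ⧸ (maximalIdeal R').map ψ.hom)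
    (Ideal.quotientEquiv _ _ er ?_)
  have hm : (maximalIdeal R').map (el : R' →+* R) = maximalIdeal R :=
    eq_maximalIdeal (Ideal.map_isMaximal_of_equiv el)
  have hw : φ.hom.comp (el : R' →+* R) = (er : S' →+* S).comp ψ.hom :=
    congrArg CommRingCat.Hom.hom i.inv.w
  rw [← hm, Ideal.map_map, Ideal.map_map, hw]

/-- A fibre smooth at a point gives a regular special fibre of the local map there. -/
theorem isRegularLocalRing_quotient_localRingHom {A B : Type u} [CommRing A] [CommRing B]
    [Algebra A B] [Algebra.FiniteType A B] (q : Ideal B) [q.IsPrime]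
    (Q : Ideal ((q.under A).Fiber B)) [Q.IsPrime]
    (hQ : Q.comap (Algebra.TensorProduct.includeRight (R := A) (A := (q.under A).ResidueField)
      (B := B)).toRingHom = q) [Algebra.IsSmoothAt (q.under A).ResidueField Q]
    (p : Ideal A) [p.IsPrime] (hp : p = q.comap (algebraMap A B)) :
    IsRegularLocalRing (Localization.AtPrime q ⧸
      (maximalIdeal (Localization.AtPrime p)).map (Localization.localRingHom p q (algebraMap A B) hp)) := by
  subst hp
  haveI h1 : IsRegularLocalRing (Localization.AtPrime Q) :=
    Groth.Calg4.isRegularLocalRing_of_isSmoothAt (k := (q.under A).ResidueField) Q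
  have key : ∀ (r : Ideal B) (hr : r.IsPrime), r = q →
      IsRegularLocalRing (Localization.AtPrime r ⧸ ((q.under A).map (algebraMap A B)).map
        (algebraMap B (Localization.AtPrime r))) →
      IsRegularLocalRing (Localization.AtPrime q ⧸ ((q.under A).map (algebraMap A B)).map
        (algebraMap B (Localization.AtPrime q))) := by
    rintro r hr rfl hreg
    exact hreg
  have h2 := key _ inferInstance hQ (@IsRegularLocalRing.of_ringEquiv (Localization.AtPrime Q) _ h1 _ _
    (Ideal.Fiber.algEquivAux₂ (q.under A) Q).toRingEquiv)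
  rw [← Localization.AtPrime.map_eq_maximalIdeal, Ideal.map_map,
    show (Localization.localRingHom (q.comap (algebraMap A B)) q (algebraMap A B) rfl).comp
      (algebraMap A (Localization.AtPrime (q.comap (algebraMap A B)))) =
        (algebraMap B (Localization.AtPrime q)).comp (algebraMap A B) from
      RingHom.ext fun a => Localization.localRingHom_to_map (q.comap (algebraMap A B)) q (algebraMap A B) rfl a, ← Ideal.map_map]
  exact h2

variable {X S : Scheme.{u}} {f : X ⟶ S}

/-- Regular base, dimension formula and few differentials in the fibre give smoothness. -/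
theorem mem_smoothLocus_of_regular_base [IsLocallyNoetherian S]
    (hreg : ∀ s : S, IsRegularLocalRing (S.presheaf.stalk s)) [LocallyOfFinitePresentation f]
    (c : Chart f) {x : X} (hx : x ∈ c.U)
    (hdim : ringKrullDim (X.presheaf.stalk x) =
      ringKrullDim ((f.fiber (f x)).presheaf.stalk (f.asFiber x)) + ringKrullDim (S.presheaf.stalk (f x)))
    (h : letI := chartAlg f c.e
      ((Module.finrank (c.hU.primeIdealOf ⟨x, hx⟩).asIdeal.ResidueField
        ((c.hU.primeIdealOf ⟨x, hx⟩).asIdeal.ResidueField ⊗[Γ(X, c.U)] Ω[Γ(X, c.U)⁄Γ(S, c.V)]) : ℕ) :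
          WithBot ℕ∞) ≤ FlatMor.fibreDimAt f x) :
    x ∈ f.smoothLocus := by
  refine mem_smoothLocus_of_finrank_le c hx ?_ h
  set z := c.hU.primeIdealOf ⟨x, hx⟩
  let φ := f.appLE c.V c.U c.e
  letI := chartAlg f c.e
  obtain ⟨Q, hQ, hd⟩ := exists_fibreDimAt_specMap_eq φ z
  rw [fibreDimAt_chart c hx, hd, ← finrank_kaehler_fiber _ z.asIdeal Q.asIdeal hQ] at h
  haveI : Algebra.FinitePresentation Γ(S, c.V) Γ(X, c.U) := f.finitePresentation_appLE c.hV c.hU c.e
  haveI : Algebra.IsSmoothAt (z.asIdeal.under Γ(S, c.V)).ResidueField Q.asIdeal :=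
    (Groth.Agent.S2063.result Q.asIdeal).2 (by exact_mod_cast h)
  haveI : IsLocallyNoetherian X := LocallyOfFiniteType.isLocallyNoetherian f
  haveI := hreg (f x)
  have hq := isRegularLocalRing_quotient_of_arrow_iso
    (IsAffineOpen.arrowStalkMapIso f c.V c.hV c.U c.hU c.e hx)
    (isRegularLocalRing_quotient_localRingHom z.asIdeal Q.asIdeal hQ _
      (Groth.PropsBasic.Loci.primeIdealOf_comap f c.hV c.hU c.e hx).symm)
  obtain ⟨E⟩ := Groth.Flatmor4.exists_fiberStalkEquiv f x
  refine flat_of_regular_quotient (f.stalkMap x).hom hq ?_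
  rw [ringKrullDim_eq_of_ringEquiv E, hdim, add_comm]

end Groth.OmegaSheaf
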