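import Groth.Prelude.Def_Omega3
import Mathlib.RingTheory.Kaehler.Polynomial
import Mathlib.RingTheory.Extension.Cotangent.Basic
import Mathlib.RingTheory.Derivation.ToSquareZero

/-!
# Universal first order thickenings of formally unramified algebras
-/

universe u

namespace Groth.OmegaSheaf

open MvPolynomial

variable {R S : Type u} [CommRing R] [CommRing S] [Algebra R S]

/-- Two lifts into a square-zero thickening agree on polynomials with vanishing partials on `S`. -/
lemma lift_eq_of_pderiv {A : Type u} [CommRing A] [Algebra R A] {I : Ideal A} (hI : I ^ 2 = ⊥)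
    (φ φ' : MvPolynomial S R →ₐ[R] A)
    (hφ : ∀ p, aeval (id : S → S) p = 0 → φ p ∈ I) (h : ∀ p, φ' p - φ p ∈ I)
    {q : MvPolynomial S R} (hq : ∀ t, aeval (id : S → S) (pderiv t q) = 0) : φ' q = φ q := by
  let _ : Algebra (MvPolynomial S R) A := φ.toRingHom.toAlgebra
  have : IsScalarTower R (MvPolynomial S R) A :=
    IsScalarTower.of_algebraMap_eq fun r ↦ (φ.commutes r).symm
  let D : Derivation R (MvPolynomial S R) I := derivationToSquareZeroOfLift I hI φ' (by
    ext t
    exact Ideal.Quotient.eq.mpr (h _))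
  have hD : (D q : A) = φ' q - φ q := derivationToSquareZeroOfLift_apply I hI _ _ q
  suffices D q = 0 by rw [this] at hD; exact sub_eq_zero.mp hD.symm
  rw [← D.liftKaehlerDifferential_comp_D q,
    ← (KaehlerDifferential.mvPolynomialBasis R S).linearCombination_repr
      (KaehlerDifferential.D R _ q), Finsupp.linearCombination_apply, map_finsuppSum]
  refine Finset.sum_eq_zero fun t _ ↦ Subtype.ext ?_
  change ((D.liftKaehlerDifferential (((KaehlerDifferential.mvPolynomialBasis R S).repr
    (KaehlerDifferential.D R _ q) t) • _) : I) : A) = 0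
  rw [map_smul, Submodule.coe_smul_of_tower, Algebra.smul_def,
    KaehlerDifferential.mvPolynomialBasis_repr_apply]
  refine (Ideal.mem_bot).mp ?_
  rw [← hI, pow_two]
  exact Ideal.mul_mem_mul (hφ _ (hq t)) (SetLike.coe_mem _)

/-- A formally unramified algebra has a universal first order thickening. -/
theorem exists_univThickeningRing (R : Type u) [CommRing R] (S : Type u) [CommRing S] [Algebra R S]
    [Algebra.FormallyUnramified R S] :
    ∃ (S' : Type u) (_ : CommRing S') (_ : Algebra R S') (π : S' →ₐ[R] S),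
      OmegaSh.IsUnivThickeningRing R S S' π := by
  classical
  let G := Algebra.Generators.self R S
  let K : Ideal (MvPolynomial S R) := RingHom.ker (aeval (R := R) (id : S → S)).toRingHom
  have hf : ∀ s : S, ∃ f ∈ K, ∀ t, aeval (id : S → S) (pderiv t f) =
      aeval (id : S → S) (pderiv t (X s : MvPolynomial S R)) := by
    intro s
    obtain ⟨x, hx⟩ := (G.toExtension.exact_cotangentComplex_toKaehler
      (G.cotangentSpaceBasis s)).mp (Subsingleton.elim _ _)
    obtain ⟨⟨f, hfK⟩, rfl⟩ := Algebra.Extension.Cotangent.mk_surjective x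
    refine ⟨f, ?_, fun t ↦ ?_⟩
    · change aeval (id : S → S) f = 0
      have h0 : algebraMap G.Ring S f = 0 := hfK
      rw [Algebra.Generators.algebraMap_eq] at h0
      exact h0
    · have h1 := congrArg (fun w ↦ G.cotangentSpaceBasis.repr w t) hx
      simp only [Module.Basis.repr_self, Algebra.Extension.cotangentComplex_mk] at h1
      have h2 := G.cotangentSpaceBasis_repr_one_tmul f t
      refine Eq.trans (h2.symm.trans h1) ?_
      rw [pderiv_X, Finsupp.single_eq_pi_single, Pi.single_apply, Pi.single_apply, apply_ite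
        (aeval (id : S → S)), map_one, map_zero]
      simp only [eq_comm]
  choose f hfK hfd using hf
  let J : Ideal (MvPolynomial S R) := K ^ 2 ⊔ Ideal.span (Set.range f)
  have hJK : J ≤ K := sup_le (Ideal.pow_le_self two_ne_zero) (Ideal.span_le.mpr fun _ ⟨s, hs⟩ ↦
    hs ▸ hfK s)
  let π : (MvPolynomial S R ⧸ J) →ₐ[R] S :=
    Ideal.Quotient.liftₐ J (aeval (id : S → S)) fun p hp ↦ hJK hp
  have hπ : ∀ p, π (Ideal.Quotient.mk J p) = aeval (id : S → S) p := fun p ↦ rfl
  refine ⟨MvPolynomial S R ⧸ J, inferInstance, inferInstance, π, fun s ↦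
    ⟨Ideal.Quotient.mk J (X s), by rw [hπ, aeval_X]; rfl⟩, ?_, fun A _ _ I hI a ↦ ?_⟩
  · have hker : RingHom.ker π.toRingHom ≤ K.map (Ideal.Quotient.mk J) := fun x hx ↦ by
      obtain ⟨p, rfl⟩ := Ideal.Quotient.mk_surjective x
      exact Ideal.mem_map_of_mem _ hx
    refine le_bot_iff.mp ((Ideal.pow_right_mono hker 2).trans ?_)
    rw [← Ideal.map_pow, Ideal.map_le_iff_le_comap, ← RingHom.ker_eq_comap_bot, Ideal.mk_ker]
    exact le_sup_left
  · choose l hl using fun s : S ↦ Ideal.Quotient.mk_surjective (a s)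
    let φ : MvPolynomial S R →ₐ[R] A := aeval l
    have hφq : ∀ p, Ideal.Quotient.mk I (φ p) = a (aeval (id : S → S) p) := by
      intro p
      have : (Ideal.Quotient.mkₐ R I).comp φ = a.comp (aeval (id : S → S)) := by
        ext s
        simp [φ, hl]
      exact DFunLike.congr_fun this p
    have hφ : ∀ p, aeval (id : S → S) p = 0 → φ p ∈ I := fun p hp ↦ by
      rw [← Ideal.Quotient.eq_zero_iff_mem, hφq, hp, map_zero]
    let φ' : MvPolynomial S R →ₐ[R] A := aeval fun s ↦ l s - φ (f s)
    have hφ'q : ∀ p, Ideal.Quotient.mk I (φ' p) = a (aeval (id : S → S) p) := by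
      intro p
      have : (Ideal.Quotient.mkₐ R I).comp φ' = a.comp (aeval (id : S → S)) := by
        ext s
        have h0 : Ideal.Quotient.mk I (φ (f s)) = 0 :=
          Ideal.Quotient.eq_zero_iff_mem.mpr (hφ _ (hfK s))
        simp [φ', hl, h0]
      exact DFunLike.congr_fun this p
    have key : ∀ ψ : MvPolynomial S R →ₐ[R] A,
        (∀ p, Ideal.Quotient.mk I (ψ p) = a (aeval (id : S → S) p)) →
          ∀ s, ψ (f s) - ψ (X s) = φ (f s) - φ (X s) := by
      intro ψ hψ s
      rw [← map_sub, ← map_sub]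
      exact lift_eq_of_pderiv hI φ ψ hφ
        (fun p ↦ Ideal.Quotient.eq.mp ((hψ p).trans (hφq p).symm))
        fun t ↦ by rw [map_sub, map_sub, hfd, sub_self]
    have hφ'f : ∀ s, φ' (f s) = 0 := fun s ↦ by
      have := key φ' hφ'q s
      simp only [φ', φ, aeval_X] at this ⊢
      linear_combination this
    have hφ'J : ∀ p ∈ J, φ' p = 0 := by
      refine fun p hp ↦ (show J ≤ RingHom.ker φ'.toRingHom from sup_le ?_ ?_) hp
      · rw [pow_two, Ideal.mul_le]
        intro x hx y hy
        have hx' : φ' x ∈ I := by rw [← Ideal.Quotient.eq_zero_iff_mem, hφ'q, show aeval (id : S → S) x = 0 from hx, map_zero]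
        have hy' : φ' y ∈ I := by rw [← Ideal.Quotient.eq_zero_iff_mem, hφ'q, show aeval (id : S → S) y = 0 from hy, map_zero]
        change φ' (x * y) = 0
        rw [map_mul, ← Ideal.mem_bot, ← hI, pow_two]
        exact Ideal.mul_mem_mul hx' hy'
      · exact Ideal.span_le.mpr fun _ ⟨s, hs⟩ ↦ hs ▸ hφ'f s
    refine ⟨Ideal.Quotient.liftₐ J φ' hφ'J, ?_, fun b hb ↦ ?_⟩
    · refine AlgHom.ext fun x ↦ ?_
      obtain ⟨p, rfl⟩ := Ideal.Quotient.mk_surjective x
      exact hφ'q p
    · let ψ : MvPolynomial S R →ₐ[R] A := b.comp (Ideal.Quotient.mkₐ R J)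
      have hψ : ∀ p, Ideal.Quotient.mk I (ψ p) = a (aeval (id : S → S) p) := fun p ↦
        DFunLike.congr_fun hb (Ideal.Quotient.mk J p)
      have hψφ : ψ = φ' := by
        refine MvPolynomial.algHom_ext fun s ↦ ?_
        have h1 : ψ (f s) = 0 := by
          change b (Ideal.Quotient.mk J (f s)) = 0
          rw [Ideal.Quotient.eq_zero_iff_mem.mpr
            (Ideal.mem_sup_right (Ideal.subset_span (Set.mem_range_self s))), map_zero]
        have := key ψ hψ s
        rw [h1] at this
        simp only [φ', φ, aeval_X] at this ⊢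
        linear_combination -this
      refine AlgHom.ext fun x ↦ ?_
      obtain ⟨p, rfl⟩ := Ideal.Quotient.mk_surjective x
      exact DFunLike.congr_fun hψφ p

end Groth.OmegaSheaf
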