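import Groth.Prelude.Def_Omega3
import Mathlib.RingTheory.Localization.Basic
import Mathlib.RingTheory.Nilpotent.Lemmas

/-!
# Localization of universal first order thickenings
-/

universe u

namespace Groth.OmegaSheaf

variable {A B B' : Type u} [CommRing A] [CommRing B] [CommRing B'] [Algebra A B] [Algebra A B']
  {π : B' →ₐ[A] B} {M : Submonoid B} {M' : Submonoid B'}
  {BS B'S : Type u} [CommRing BS] [CommRing B'S]
  [Algebra B BS] [IsLocalization M BS] [Algebra B' B'S] [IsLocalization M' B'S]
  [Algebra A BS] [IsScalarTower A B BS] [Algebra A B'S] [IsScalarTower A B' B'S]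

/-- Localizations of universal first order thickenings are universal. -/
theorem isUnivThickeningRing_localization (hπ : OmegaSh.IsUnivThickeningRing A B B' π)
    (hM : M'.map π.toRingHom.toMonoidHom = M)
    (πS : B'S →ₐ[A] BS) (hπS : ∀ x : B', πS (algebraMap B' B'S x) = algebraMap B BS (π x)) :
    OmegaSh.IsUnivThickeningRing A BS B'S πS := by
  obtain ⟨hsurj, hsq, huniv⟩ := hπ
  have hM' : ∀ m ∈ M', π m ∈ M := fun m hm ↦ hM ▸ ⟨m, hm, rfl⟩
  refine ⟨fun y ↦ ?_, ?_, fun C _ _ I hI a ↦ ?_⟩
  · obtain ⟨⟨b, ⟨m, hm⟩⟩, hb⟩ := IsLocalization.surj M y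
    obtain ⟨m', hm', rfl⟩ := (hM.symm ▸ hm : m ∈ M'.map π.toRingHom.toMonoidHom)
    obtain ⟨b', rfl⟩ := hsurj b
    refine ⟨IsLocalization.mk' B'S b' ⟨m', hm'⟩, ?_⟩
    refine (IsLocalization.map_units BS (⟨π m', hM' m' hm'⟩ : M)).mul_left_injective ?_
    change πS _ * algebraMap B BS (π m') = y * algebraMap B BS (π m')
    rw [← hπS, ← map_mul, IsLocalization.mk'_spec B'S b' (⟨m', hm'⟩ : M'), hπS, hπS]
    exact hb.symm
  · have hker : RingHom.ker πS.toRingHom ≤
        (RingHom.ker π.toRingHom).map (algebraMap B' B'S) := by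
      intro z hz
      obtain ⟨x, ⟨m, hm⟩, rfl⟩ := IsLocalization.exists_mk'_eq M' z
      have h0 : algebraMap B BS (π x) = 0 := by
        rw [← hπS, ← IsLocalization.mk'_spec B'S x ⟨m, hm⟩, map_mul,
          show πS (IsLocalization.mk' B'S x ⟨m, hm⟩) = 0 from hz, zero_mul]
      obtain ⟨⟨t, ht⟩, htx⟩ := (IsLocalization.map_eq_zero_iff M BS _).mp h0
      obtain ⟨t', ht', rfl⟩ := (hM.symm ▸ ht : t ∈ M'.map π.toRingHom.toMonoidHom)
      rw [IsLocalization.mk'_eq_mul_mk'_one]
      refine Ideal.mul_mem_right _ _ ?_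
      have hu := IsLocalization.map_units B'S (⟨t', ht'⟩ : M')
      rw [← Ideal.unit_mul_mem_iff_mem _ hu, ← map_mul]
      exact Ideal.mem_map_of_mem _ (by
        change π (t' * x) = 0
        rw [map_mul]; exact htx)
    refine le_bot_iff.mp ((Ideal.pow_right_mono hker 2).trans ?_)
    rw [← Ideal.map_pow, hsq, Ideal.map_bot]
  · obtain ⟨b, hb, hbuniq⟩ := huniv C I hI (a.comp (IsScalarTower.toAlgHom A B BS))
    have hb' : ∀ x, Ideal.Quotient.mk I (b x) = a (algebraMap B BS (π x)) := DFunLike.congr_fun hb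
    have hnil : IsNilpotent I := ⟨2, hI⟩
    have hunit : ∀ m : M', IsUnit (b m) := fun m ↦ by
      obtain ⟨w, hw⟩ := ((IsLocalization.map_units BS (⟨π m, hM' m m.2⟩ : M)).map a).exists_right_inv
      obtain ⟨v, rfl⟩ := Ideal.Quotient.mk_surjective w
      rw [← hb', ← map_mul, ← map_one (Ideal.Quotient.mk I), Ideal.Quotient.eq] at hw
      have : IsNilpotent (b m * v - 1) := ⟨2, by
        rw [← Ideal.mem_bot, ← hI]; exact Ideal.pow_mem_pow hw 2⟩
      have hv : IsUnit (b m * v) := by
        have := this.isUnit_add_one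
        rwa [sub_add_cancel] at this
      exact isUnit_of_mul_isUnit_left hv
    let c : B'S →ₐ[A] C :=
      { toRingHom := IsLocalization.lift (M := M') (g := b.toRingHom) hunit
        commutes' := fun r ↦ by
          change IsLocalization.lift _ (algebraMap A B'S r) = _
          rw [IsScalarTower.algebraMap_apply A B' B'S, IsLocalization.lift_eq]
          exact b.commutes r }
    have hc : ∀ x, c (algebraMap B' B'S x) = b x := fun x ↦ IsLocalization.lift_eq _ x
    refine ⟨c, ?_, fun d hd ↦ ?_⟩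
    · refine AlgHom.coe_ringHom_injective (IsLocalization.ringHom_ext M' (RingHom.ext fun x ↦ ?_))
      change Ideal.Quotient.mk I (c (algebraMap B' B'S x)) = a (πS (algebraMap B' B'S x))
      rw [hc, hb', hπS]
    · refine AlgHom.coe_ringHom_injective (IsLocalization.ringHom_ext M' (RingHom.ext fun x ↦ ?_))
      change d (algebraMap B' B'S x) = c (algebraMap B' B'S x)
      rw [hc]
      refine DFunLike.congr_fun (hbuniq (d.comp (IsScalarTower.toAlgHom A B' B'S)) ?_) x
      refine AlgHom.ext fun y ↦ ?_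
      change Ideal.Quotient.mk I (d (algebraMap B' B'S y)) = a (algebraMap B BS (π y))
      rw [← hπS]
      exact DFunLike.congr_fun hd _

/-- Changing the base to a localization. -/
theorem isUnivThickeningRing_of_base (S : Submonoid A) {AS T T' : Type u} [CommRing AS]
    [Algebra A AS] [IsLocalization S AS] [CommRing T] [CommRing T'] [Algebra AS T] [Algebra AS T']
    [Algebra A T] [Algebra A T'] [IsScalarTower A AS T] [IsScalarTower A AS T']
    (p : T' →ₐ[AS] T) (h : OmegaSh.IsUnivThickeningRing A T T' (p.restrictScalars A)) :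
    OmegaSh.IsUnivThickeningRing AS T T' p := by
  obtain ⟨hs, hk, hu⟩ := h
  refine ⟨hs, hk, fun C _ _ I hI a ↦ ?_⟩
  let _ : Algebra A C := ((algebraMap AS C).comp (algebraMap A AS)).toAlgebra
  have : IsScalarTower A AS C := IsScalarTower.of_algebraMap_eq fun _ ↦ rfl
  obtain ⟨b, hb, hbuniq⟩ := hu C I hI (a.restrictScalars A)
  have hcomm : ∀ r : AS, b (algebraMap AS T' r) = algebraMap AS C r := by
    refine DFunLike.congr_fun (IsLocalization.ringHom_ext S
      (j := b.toRingHom.comp (algebraMap AS T')) (k := algebraMap AS C) (RingHom.ext fun r ↦ ?_))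
    change b (algebraMap AS T' (algebraMap A AS r)) = _
    rw [← IsScalarTower.algebraMap_apply]
    exact b.commutes r
  refine ⟨{ b with commutes' := hcomm }, ?_, fun d hd ↦ ?_⟩
  · exact AlgHom.ext fun x ↦ DFunLike.congr_fun hb x
  · refine AlgHom.ext fun x ↦ DFunLike.congr_fun (hbuniq (d.restrictScalars A) ?_) x
    exact AlgHom.ext fun y ↦ DFunLike.congr_fun hd y

end Groth.OmegaSheaf
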